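import Cfsg.Agent.LAE65.NonDiv.Common

/-!
Two layers inside an abelian group are impossible.
-/

set_option autoImplicit false
set_option linter.unusedSectionVars false

namespace Cfsg.Agent.LAE65.NonDiv

open Cfsg.Agent.CharDeep.Ext BC86.RelGraph

universe u

variable {N : Type u} [Group N] [Finite N] {L B U : Subgroup N} [hU : U.Normal] {α : N ≃* N} {l : ℕ}

theorem Step.not_abelian (S : Step L B U α l) (hab : ∀ a ∈ L, ∀ b ∈ L, a * b = b * a) : False := by
  classical
  have F := S.frame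
  have hLn := F.normal
  have D := S.topFacts
  have hc : ∀ v ∈ L, ∀ u ∈ U, v * u = u * v := fun v hv u hu => hab v hv u (S.lt.le hu)
  let _ : CommGroup L := { mul_comm := fun a b => Subtype.ext (hab a a.2 b b.2) }
  set C := fixTop L B U with hC
  obtain ⟨v0, hv0, hv0U⟩ := SetLike.exists_of_lt S.lt
  by_cases hall : ∀ c ∈ C, ∀ v ∈ L, c * v = v * c
  · -- every element of `C` centralises `L`
    obtain ⟨g, hg⟩ := isConj_iff.mp (F.stable v0 hv0)
    obtain ⟨w, hw, b0, hb0, rfl⟩ := F.exists_mul g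
    have hb0v : α v0 = b0 * v0 * b0⁻¹ := by
      rw [← hg]
      calc w * b0 * v0 * (w * b0)⁻¹ = w * (b0 * v0 * b0⁻¹) * w⁻¹ := by group
        _ = _ := by rw [hab w hw _ (hLn.conj_mem v0 hv0 b0), mul_inv_cancel_right]
    have hαU : ∀ u ∈ U, α u = b0 * u * b0⁻¹ := by
      intro u hu
      obtain ⟨g, hg'⟩ := isConj_iff.mp (F.stable (v0 * u) (L.mul_mem hv0 (S.lt.le hu)))
      obtain ⟨w', hw', b, hb, rfl⟩ := F.exists_mul g
      have hb' : α (v0 * u) = b * (v0 * u) * b⁻¹ := by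
        rw [← hg']
        calc w' * b * (v0 * u) * (w' * b)⁻¹ = w' * (b * (v0 * u) * b⁻¹) * w'⁻¹ := by group
          _ = _ := by
            rw [hab w' hw' _ (hLn.conj_mem _ (L.mul_mem hv0 (S.lt.le hu)) b), mul_inv_cancel_right]
      have hαu : α u ∈ U := F.map_mem U S.lt.le hu
      have h3 : b0⁻¹ * b * v0 * (b0⁻¹ * b)⁻¹ * v0⁻¹ ∈ U := by
        have e : b0⁻¹ * b * v0 * (b0⁻¹ * b)⁻¹ * v0⁻¹
            = (b0⁻¹ * (b0 * v0 * b0⁻¹ * α u * (b * u * b⁻¹)⁻¹) * b0) * v0⁻¹ := by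
          rw [← hb0v, ← map_mul, hb']; group
        rw [e]
        have e2 : b0⁻¹ * (b0 * v0 * b0⁻¹ * α u * (b * u * b⁻¹)⁻¹) * b0 * v0⁻¹
            = v0 * (b0⁻¹ * (α u * (b * u * b⁻¹)⁻¹) * b0⁻¹⁻¹) * v0⁻¹ := by group
        rw [e2]
        exact hU.conj_mem _ (hU.conj_mem _ (U.mul_mem hαu (U.inv_mem (hU.conj_mem u hu b))) _) _
      have hbC := D.semi (b0⁻¹ * b) (B.mul_mem (B.inv_mem hb0) hb) v0 hv0 hv0U h3
      have h4 := hall _ hbC (v0 * u) (L.mul_mem hv0 (S.lt.le hu))
      have h5 : α (v0 * u) = b0 * (v0 * u) * b0⁻¹ := by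
        rw [hb']
        calc b * (v0 * u) * b⁻¹ = b0 * (b0⁻¹ * b * (v0 * u)) * b⁻¹ := by group
          _ = b0 * (v0 * u * (b0⁻¹ * b)) * b⁻¹ := by rw [h4]
          _ = _ := by group
      rw [map_mul, hb0v] at h5
      apply mul_left_cancel (a := b0 * v0 * b0⁻¹)
      rw [h5]; group
    obtain ⟨x, hx, hmv⟩ := F.moved
    refine S.not_centralizes_of_moved (B.mul_mem (F.mapB x hx) (B.inv_mem hx)) hmv fun u hu => ?_
    have hu' : b0⁻¹ * u * b0 ∈ U := by
      have := hU.conj_mem u hu b0⁻¹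
      rwa [inv_inv] at this
    have hu'' : x⁻¹ * (b0⁻¹ * u * b0) * x ∈ U := by
      have := hU.conj_mem _ hu' x⁻¹
      rwa [inv_inv] at this
    have e1 : α (x * (x⁻¹ * (b0⁻¹ * u * b0) * x) * x⁻¹) = u := by
      rw [show x * (x⁻¹ * (b0⁻¹ * u * b0) * x) * x⁻¹ = b0⁻¹ * u * b0 by group, hαU _ hu']
      group
    rw [map_mul, map_mul, map_inv, hαU _ hu''] at e1
    have hbx := F.comm b0 hb0 x⁻¹ (B.inv_mem hx)
    have e2 : α x * x⁻¹ * u * (α x * x⁻¹)⁻¹ = u := by
      conv_rhs => rw [← e1]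
      calc α x * x⁻¹ * u * (α x * x⁻¹)⁻¹ = α x * (x⁻¹ * u * x) * (α x)⁻¹ := by group
        _ = α x * (x⁻¹ * (b0 * (b0⁻¹ * u * b0) * b0⁻¹) * x) * (α x)⁻¹ := by group
        _ = α x * ((x⁻¹ * b0) * (b0⁻¹ * u * b0) * (x⁻¹ * b0)⁻¹) * (α x)⁻¹ := by group
        _ = α x * ((b0 * x⁻¹) * (b0⁻¹ * u * b0) * (b0 * x⁻¹)⁻¹) * (α x)⁻¹ := by rw [hbx]
        _ = _ := by group
    rwa [mul_inv_eq_iff_eq_mul] at e2
  · push Not at hall
    obtain ⟨c, hcC, v1, hv1, hcv1⟩ := hall
    obtain ⟨hcB, hcU⟩ := mem_fixTop.mp hcC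
    let h : L →* L := MonoidHom.mk' (fun v => MulAut.conjNormal c v * v⁻¹) fun x y => by
      rw [map_mul, mul_inv, mul_mul_mul_comm]
    have happ : ∀ v : L, ((h v : L) : N) = c * v * c⁻¹ * (v : N)⁻¹ := fun v => by
      change (((MulAut.conjNormal c v * v⁻¹ : L)) : N) = _
      rw [Subgroup.coe_mul, MulAut.conjNormal_apply, Subgroup.coe_inv]
    have hhU : ∀ v : L, ((h v : L) : N) ∈ U := fun v => happ v ▸ hcU v v.2
    have hconj : ∀ b ∈ B, ∀ v : L, ∀ hv' : b * (v : N) * b⁻¹ ∈ L,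
        ((h ⟨b * v * b⁻¹, hv'⟩ : L) : N) = b * (h v : L) * b⁻¹ := by
      intro b hb v hv'
      rw [happ, happ]
      have e := F.comm c hcB b hb
      calc c * (b * v * b⁻¹) * c⁻¹ * (b * (v : N) * b⁻¹)⁻¹
          = (c * b) * v * (c * b)⁻¹ * (b * (v : N) * b⁻¹)⁻¹ := by group
        _ = _ := by rw [e]; group
    set U' := U.subgroupOf L
    have hkn : (h.ker.map L.subtype).Normal := by
      refine ⟨fun y hy g => ?_⟩
      obtain ⟨y, hy', rfl⟩ := hy
      obtain ⟨v, hv, b, hb, rfl⟩ := F.exists_mul g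
      refine ⟨⟨b * y * b⁻¹, hLn.conj_mem y y.2 b⟩, Subtype.ext ?_, ?_⟩
      · rw [hconj b hb y, show ((h y : L) : N) = 1 from congrArg Subtype.val hy']
        simp
      · change b * (y : N) * b⁻¹ = v * b * (y : N) * (v * b)⁻¹
        calc b * (y : N) * b⁻¹ = v * (b * (y : N) * b⁻¹) * v⁻¹ := by
              rw [hab v hv _ (hLn.conj_mem y y.2 b), mul_inv_cancel_right]
          _ = _ := by group
    by_cases hkU : U ≤ h.ker.map L.subtype
    · -- `c` centralises `U`
      have hk : h.ker.map L.subtype = U := by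
        refine (S.maximal _ hkn hkU (Subgroup.map_subtype_le _)).resolve_right fun hk => hcv1 ?_
        obtain ⟨y, hy, he⟩ := (hk.symm ▸ hv1 : v1 ∈ h.ker.map L.subtype)
        have h1 : ((h y : L) : N) = 1 := congrArg Subtype.val hy
        rw [happ, show ((y : L) : N) = v1 from he, mul_inv_eq_one, mul_inv_eq_iff_eq_mul] at h1
        exact h1
      have hrange : h.range.map L.subtype = U := by
        refine (S.minimal _ ⟨fun y hy g => ?_⟩ ?_).resolve_left fun h0 => hcv1 ?_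
        · obtain ⟨_, ⟨y, rfl⟩, rfl⟩ := hy
          obtain ⟨v, hv, b, hb, rfl⟩ := F.exists_mul g
          refine ⟨_, ⟨⟨b * y * b⁻¹, hLn.conj_mem y y.2 b⟩, rfl⟩, ?_⟩
          change ((h _ : L) : N) = v * b * ((h y : L) : N) * (v * b)⁻¹
          rw [hconj b hb y]
          calc b * ((h y : L) : N) * b⁻¹ = v * (b * ((h y : L) : N) * b⁻¹) * v⁻¹ := by
                rw [hab v hv _ (hLn.conj_mem _ (h y).2 b), mul_inv_cancel_right]
            _ = _ := by group
        · rintro _ ⟨_, ⟨y, rfl⟩, rfl⟩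
          exact hhU y
        · have h1 : ((h ⟨v1, hv1⟩ : L) : N) = 1 :=
            Subgroup.mem_bot.mp (h0 ▸ ⟨h ⟨v1, hv1⟩, ⟨_, rfl⟩, rfl⟩)
          rw [happ, mul_inv_eq_one, mul_inv_eq_iff_eq_mul] at h1
          exact h1
      -- a character nontrivial on `U`
      obtain ⟨u0, hu0, hu01⟩ := (Subgroup.ne_bot_iff_exists_ne_one.mp S.ne |> fun ⟨u, hu⟩ =>
        (⟨(u : N), u.2, fun h => hu (Subtype.ext h)⟩ : ∃ u0, u0 ∈ U ∧ u0 ≠ 1))
      obtain ⟨Λ, hΛ⟩ := exists_hom_ne_one (A := L) (fun a b => mul_comm a b)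
        (a := ⟨u0, S.lt.le hu0⟩) (fun h => hu01 (congrArg Subtype.val h))
      refine S.absurd_of_hom Λ (fun b hb hbT => ?_) ⟨c, hcC, fun hcT => ?_⟩
      · have hbU : ∀ w ∈ U, b * w = w * b := by
          by_contra hnc
          obtain ⟨u, hu⟩ := S.exists_char_ne hc hb hnc (Λ.comp (Subgroup.inclusion S.lt.le))
            (fun h0 => hΛ (DFunLike.congr_fun h0 ⟨u0, hu0⟩))
          exact hu (Units.ext ((mem_inertia.mp hbT) ⟨u, S.lt.le u.2⟩))
        refine mem_fixTop.mpr ⟨hb, fun v hv => ?_⟩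
        have hv' := hLn.conj_mem v hv b
        have h1 : h ⟨b * v * b⁻¹, hv'⟩ = h ⟨v, hv⟩ := Subtype.ext (by
          rw [hconj b hb ⟨v, hv⟩, hbU _ (hhU _), mul_inv_cancel_right])
        rw [← hk]
        refine ⟨⟨b * v * b⁻¹, hv'⟩ * ⟨v, hv⟩⁻¹, ?_, rfl⟩
        change h _ = 1
        rw [map_mul, map_inv, h1, mul_inv_cancel]
      · refine hΛ ?_
        obtain ⟨_, ⟨y, rfl⟩, he⟩ := (hrange.symm ▸ hu0 : u0 ∈ h.range.map L.subtype)
        rw [show (⟨u0, S.lt.le hu0⟩ : L) = h y from Subtype.ext he.symm]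
        change Λ (MulAut.conjNormal c y * y⁻¹) = 1
        rw [map_mul, map_inv, mul_inv_eq_one, ← show Λ ⟨c * y * c⁻¹, hLn.conj_mem y y.2 c⟩ = Λ y from
          Units.ext ((mem_inertia.mp hcT) y)]
        exact congrArg Λ (Subtype.ext (MulAut.conjNormal_apply c y))
    · -- `c` is fixed-point-free on `U`
      have hinj : ∀ u : L, (u : N) ∈ U → h u = 1 → u = 1 := by
        have hK : (h.ker.map L.subtype ⊓ U) = ⊥ :=
          (S.minimal _ inferInstance inf_le_right).resolve_right fun h0 =>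
            hkU (h0 ▸ inf_le_left)
        exact fun u hu hu1 => Subtype.ext (Subgroup.mem_bot.mp (hK ▸ ⟨⟨u, hu1, rfl⟩, hu⟩))
      let hU' : U →* U := MonoidHom.mk'
        (fun u => ⟨(h ⟨u, S.lt.le u.2⟩ : L), hhU _⟩) fun x y => Subtype.ext (by
          change ((h ⟨(x : N) * y, _⟩ : L) : N) = ((h _ : L) : N) * ((h _ : L) : N)
          exact congrArg Subtype.val (map_mul h ⟨(x : N), S.lt.le x.2⟩ ⟨(y : N), S.lt.le y.2⟩))
      have hU'inj : Function.Injective hU' := by
        rw [← MonoidHom.ker_eq_bot_iff, Subgroup.eq_bot_iff_forall]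
        intro u hu
        have h1 : ((h ⟨u, S.lt.le u.2⟩ : L) : N) = 1 := congrArg Subtype.val hu
        exact Subtype.ext (congrArg Subtype.val (hinj ⟨u, S.lt.le u.2⟩ u.2 (Subtype.ext h1)) :)
      -- `λ` is trivial on `U`
      obtain ⟨lam, hlam⟩ := exists_hom_ne_one (A := L ⧸ U') (fun a b => by
          induction a using QuotientGroup.induction_on with
          | H a => induction b using QuotientGroup.induction_on with
            | H b => rw [← QuotientGroup.mk_mul, ← QuotientGroup.mk_mul, mul_comm])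
        (a := ((⟨v0, hv0⟩ : L) : L ⧸ U')) (fun h0 => hv0U ((QuotientGroup.eq_one_iff (⟨v0, hv0⟩ : L)).mp h0))
      obtain ⟨u0, hu0, hu01⟩ := (Subgroup.ne_bot_iff_exists_ne_one.mp S.ne |> fun ⟨u, hu⟩ =>
        (⟨(u : N), u.2, fun h => hu (Subtype.ext h)⟩ : ∃ u0, u0 ∈ U ∧ u0 ≠ 1))
      obtain ⟨ψ, hψ⟩ := exists_hom_ne_one (A := U)
        (fun a b => Subtype.ext (hc a (S.lt.le a.2) b b.2)) (a := ⟨u0, hu0⟩)
        (fun h => hu01 (congrArg Subtype.val h))
      let hL : L →* U := MonoidHom.mk' (fun v => ⟨(h v : L), hhU v⟩) fun x y => Subtype.ext (by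
        change ((h (x * y) : L) : N) = ((h x : L) : N) * ((h y : L) : N)
        rw [map_mul, Subgroup.coe_mul])
      let Φ : L →* ℂˣ := ψ.comp hL
      let lamL : L →* ℂˣ := lam.comp (QuotientGroup.mk' U')
      have hlamU : ∀ u : L, (u : N) ∈ U → lamL u = 1 := fun u hu => by
        change lam (QuotientGroup.mk' U' u) = 1
        rw [show QuotientGroup.mk' U' u = 1 from (QuotientGroup.eq_one_iff u).mpr hu, map_one]
      have hres : ∀ u : U, (lamL * Φ) ⟨u, S.lt.le u.2⟩ = ψ (hU' u) := fun u => by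
        rw [MonoidHom.mul_apply, hlamU _ u.2, one_mul]
        rfl
      have hne1 : (lamL * Φ).comp (Subgroup.inclusion S.lt.le) ≠ 1 := fun h0 => hψ (by
        obtain ⟨y, hy⟩ := Finite.injective_iff_surjective.mp hU'inj ⟨u0, hu0⟩
        rw [← hy, ← hres y]
        exact DFunLike.congr_fun h0 y)
      refine S.absurd_of_hom (lamL * Φ) (fun b hb hbT => ?_) ⟨c, hcC, fun hcT => ?_⟩
      · have hbU : ∀ w ∈ U, b * w = w * b := by
          by_contra hnc
          obtain ⟨u, hu⟩ := S.exists_char_ne hc hb hnc _ hne1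
          exact hu (Units.ext ((mem_inertia.mp hbT) ⟨u, S.lt.le u.2⟩))
        by_contra hbC
        refine hlam ?_
        let f : L →* L ⧸ U' := (QuotientGroup.mk' U').comp
          (MonoidHom.mk' (fun v => MulAut.conjNormal b v * v⁻¹) fun x y => by
            rw [map_mul, mul_inv, mul_mul_mul_comm])
        have hfapp : ∀ v : L, f v = ((MulAut.conjNormal b v * v⁻¹ : L) : L ⧸ U') := fun _ => rfl
        have hUk : U' ≤ f.ker := fun u hu => by
          rw [MonoidHom.mem_ker, hfapp, QuotientGroup.eq_one_iff]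
          change (((MulAut.conjNormal b u * u⁻¹ : L)) : N) ∈ U
          rw [Subgroup.coe_mul, MulAut.conjNormal_apply, Subgroup.coe_inv]
          exact U.mul_mem (hU.conj_mem _ hu b) (U.inv_mem hu)
        have hginj : Function.Injective (QuotientGroup.lift U' f hUk) := by
          rw [← MonoidHom.ker_eq_bot_iff, Subgroup.eq_bot_iff_forall]
          intro z hz
          induction z using QuotientGroup.induction_on with
          | H v =>
            rw [QuotientGroup.eq_one_iff]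
            by_contra hv
            have hz' : f v = 1 := hz
            rw [hfapp, QuotientGroup.eq_one_iff] at hz'
            refine hbC (D.semi b hb v v.2 hv ?_)
            have hz'' : (((MulAut.conjNormal b v * v⁻¹ : L)) : N) ∈ U := hz'
            rwa [Subgroup.coe_mul, MulAut.conjNormal_apply, Subgroup.coe_inv] at hz''
        obtain ⟨z, hz⟩ := Finite.injective_iff_surjective.mp hginj ((⟨v0, hv0⟩ : L) : L ⧸ U')
        induction z using QuotientGroup.induction_on with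
        | H v =>
          rw [← hz]
          change lamL (MulAut.conjNormal b v * v⁻¹) = 1
          have h1 : ∀ y : L, (lamL * Φ) (MulAut.conjNormal b y) = (lamL * Φ) y := fun y => by
            refine Eq.trans (congrArg _ (Subtype.ext (MulAut.conjNormal_apply b y) : MulAut.conjNormal b y = (⟨b * y * b⁻¹, hLn.conj_mem y y.2 b⟩ : L))) ?_
            exact Units.ext ((mem_inertia.mp hbT) y)
          have h2 : Φ (MulAut.conjNormal b v) = Φ v := by
            change ψ (hL _) = ψ (hL _)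
            refine congrArg ψ (Subtype.ext ?_)
            change ((h (MulAut.conjNormal b v) : L) : N) = ((h v : L) : N)
            rw [show MulAut.conjNormal b v = ⟨b * v * b⁻¹, hLn.conj_mem v v.2 b⟩ from
              Subtype.ext (MulAut.conjNormal_apply b v), hconj b hb v, hbU _ (hhU v), mul_inv_cancel_right]
          have h3 := h1 v
          rw [MonoidHom.mul_apply, MonoidHom.mul_apply, h2, mul_left_inj] at h3
          rw [map_mul, map_inv, h3, mul_inv_cancel]
      · apply hψ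
        obtain ⟨y, hy⟩ := Finite.injective_iff_surjective.mp hU'inj ⟨u0, hu0⟩
        obtain ⟨z, hz⟩ := Finite.injective_iff_surjective.mp hU'inj y
        rw [← hy, ← hres y, ← hz]
        change (lamL * Φ) (MulAut.conjNormal c ⟨z, S.lt.le z.2⟩ * (⟨z, S.lt.le z.2⟩ : L)⁻¹) = 1
        rw [map_mul, map_inv, mul_inv_eq_one]
        exact Eq.trans (congrArg _ (Subtype.ext (MulAut.conjNormal_apply c _) : MulAut.conjNormal c (⟨z, S.lt.le z.2⟩ : L) = (⟨c * z * c⁻¹, hLn.conj_mem z (S.lt.le z.2) c⟩ : L)))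
          (Units.ext ((mem_inertia.mp hcT) ⟨z, S.lt.le z.2⟩))

end Cfsg.Agent.LAE65.NonDiv
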