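import Cfsg.Agent.LAE65.NonDiv.Main
import Cfsg.Agent.CharDeep.Ext.Wrap
import Cfsg.Agent.S4456

/-!
An automorphism fixing every nonlinear character forces a single nonlinear degree.
-/

set_option autoImplicit false
set_option linter.unusedSectionVars false

namespace Cfsg.Agent.LAE65.NonDiv

open Cfsg.Agent.CharDeep.Ext BC86.RelGraph

universe u

section Tools

variable {T : Type u} [Group T] [Finite T]

theorem degree_dvd_card (χ : Cfsg.IrrCharacter T) : Cfsg.charDegree (χ : T → ℂ) ∣ Nat.card T := by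
  have h := CharDeep.Deg.degree_dvd_index χ (⊥ : Subgroup T)
    (fun a ha b hb => by rw [Subgroup.mem_bot.mp ha, Subgroup.mem_bot.mp hb])
  rwa [Subgroup.index_bot] at h

/-- The degree is at least a multiplicity times the constituent's degree. -/
theorem mul_le_of_inner [Fintype T] {f : T → ℂ} (hf : Cfsg.IsCharacter T f)
    (θ : Cfsg.IrrCharacter T) {j D : ℕ} (hj : Cfsg.classInner f (θ : T → ℂ) = j) (hD : f 1 = D) :
    j * Cfsg.charDegree (θ : T → ℂ) ≤ D := by
  classical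
  obtain ⟨a, ha⟩ := CharCore.IsCharacter.exists_sum hf
  have h1 : (a θ : ℂ) = j := by
    rw [ha, CharCore.classInner_sum_all] at hj
    exact hj
  have h2 : D = ∑ ψ, a ψ * Cfsg.charDegree (ψ : T → ℂ) := by
    have h := congrFun ha 1
    simp only [Finset.sum_apply, Pi.smul_apply, smul_eq_mul, CharDeep.Deg.apply_one, hD] at h
    exact_mod_cast h
  rw [h2, ← Nat.cast_injective h1]
  exact Finset.single_le_sum (f := fun ψ => a ψ * Cfsg.charDegree (ψ : T → ℂ))
    (fun _ _ => Nat.zero_le _) (Finset.mem_univ θ)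

/-- Multiplicities are monotone along constituents. -/
theorem inner_mono (B H : Subgroup T) [Fintype B] [Fintype H] (hBH : B ≤ H) {f : T → ℂ}
    (hf : Cfsg.IsCharacter T f) (φ : Cfsg.IrrCharacter H) (l : Cfsg.IrrCharacter B)
    (h1 : Cfsg.classInner (fun x : H => f x) φ ≠ 0) {k : ℕ}
    (h2 : Cfsg.classInner (fun b : B => (φ : H → ℂ) ⟨b, hBH b.2⟩) l = k) :
    ∃ j : ℕ, Cfsg.classInner (fun b : B => f b) l = j ∧ k ≤ j := by
  classical
  obtain ⟨a, ha⟩ := CharCore.IsCharacter.exists_sum (CharCore.isCharacter_restrict hf H)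
  choose kk hk using fun ψ : Cfsg.IrrCharacter H =>
    CharCore.IsCharacter.exists_classInner_irr_eq_natCast
      (CharCore.isCharacter_comp (CharCore.irr_isCharacter ψ) (Subgroup.inclusion hBH)) l
  have hres : (fun b : B => f b) =
      ∑ ψ : Cfsg.IrrCharacter H, (a ψ : ℂ) • (fun b : B => (ψ : H → ℂ) ⟨b, hBH b.2⟩) := by
    funext b
    have h := congrFun ha ⟨b, hBH b.2⟩
    simp only [Finset.sum_apply, Pi.smul_apply] at h ⊢
    exact h
  have hk' : ∀ ψ : Cfsg.IrrCharacter H,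
      Cfsg.classInner (fun b : B => (ψ : H → ℂ) ⟨b, hBH b.2⟩) l = kk ψ := hk
  refine ⟨∑ ψ, a ψ * kk ψ, ?_, ?_⟩
  · rw [hres, CharCore.classInner_sum_left]
    simp only [CharCore.classInner_smul_left, hk']
    push_cast
    rfl
  · have ha1 : a φ ≠ 0 := fun h0 => h1 (by rw [ha, CharCore.classInner_sum_all, h0, Nat.cast_zero])
    rw [← Nat.cast_injective ((hk' φ).symm.trans h2)]
    exact (Nat.le_mul_of_pos_left _ (Nat.pos_of_ne_zero ha1)).trans
      (Finset.single_le_sum (f := fun ψ => a ψ * kk ψ) (fun _ _ => Nat.zero_le _) (Finset.mem_univ φ))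

/-- An abelian subgroup bounds the degrees by its index. -/
theorem degree_le_index (A : Subgroup T) (hA : ∀ a b : A, a * b = b * a) (χ : Cfsg.IrrCharacter T) :
    Cfsg.charDegree (χ : T → ℂ) ≤ A.index := by
  classical
  have := Fintype.ofFinite A
  have := Fintype.ofFinite T
  obtain ⟨φ, hφ⟩ := CharDeep.Deg.exists_constituent
    (CharCore.isCharacter_restrict (CharCore.irr_isCharacter χ) A)
    (by simpa using CharCore.irr_apply_one_ne_zero χ)
  have hφ1 : Cfsg.charDegree (φ : A → ℂ) = 1 := by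
    have h := CharDeep.Deg.degree_dvd_index φ (⊤ : Subgroup A) (fun a _ b _ => hA a b)
    rwa [Subgroup.index_top, Nat.dvd_one] at h
  refine CharDeep.Deg.degree_le_of_constituent
    (CharInd.isCharacter_indFun A (CharCore.irr_isCharacter φ)) ?_ χ ?_
  · rw [CharInd.indFun_apply_one, CharDeep.Deg.apply_one φ, hφ1, Nat.cast_one, mul_one]
  · intro h0
    apply hφ
    rw [← CharInd.classInner_indFun_right A _ (CharCore.irr_isClassFunction χ),
      ← CharCore.conj_classInner, h0, map_zero]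

theorem prime_pow_eq_of_noDvd (hnd : NoDvd T) {r a b : ℕ} (ha : 1 < r ^ a) (hb : 1 < r ^ b)
    {χ φ : Cfsg.IrrCharacter T} (h1 : Cfsg.charDegree (χ : T → ℂ) = r ^ a)
    (h2 : Cfsg.charDegree (φ : T → ℂ) = r ^ b) : r ^ a = r ^ b := by
  rcases le_total a b with h | h
  · have := hnd χ φ (h1 ▸ ha) (by rw [h1, h2]; exact pow_dvd_pow r h)
    rw [← h1, ← h2, this]
  · have := hnd φ χ (h2 ▸ hb) (by rw [h1, h2]; exact pow_dvd_pow r h)
    rw [← h1, ← h2, this]

end Tools

variable {N : Type u} [Group N] [Finite N]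

/-- Nonabelian factor group by the normal complement. -/
theorem degree_eq_of_not_abelian (hnd : NoDvd N) {r : ℕ} (hr : r.Prime) (M : Subgroup N) [M.Normal]
    (hcop : (Nat.card M).Coprime r) {k : ℕ} (hk : M.index = r ^ k)
    (hnab : ¬ ∀ a b : N ⧸ M, a * b = b * a) :
    ∃ d : ℕ, ∀ χ : Cfsg.IrrCharacter N, 1 < Cfsg.charDegree (χ : N → ℂ) →
      Cfsg.charDegree (χ : N → ℂ) = d := by
  classical
  have := Fintype.ofFinite N
  have := Fintype.ofFinite M
  obtain ⟨η, hη⟩ : ∃ η : Cfsg.IrrCharacter (N ⧸ M), Cfsg.charDegree (η : N ⧸ M → ℂ) ≠ 1 := by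
    by_contra! h
    exact hnab (CharDeep.Deg.commute_of_degree_one h)
  have hqk : Nat.card (N ⧸ M) = r ^ k := by rw [← Subgroup.index_eq_card, hk]
  obtain ⟨b, -, hb⟩ := (Nat.dvd_prime_pow hr).mp (hqk ▸ degree_dvd_card η)
  have hb1 : 1 < r ^ b := by
    have := CharDeep.Deg.degree_pos η
    omega
  obtain ⟨η0, hη0⟩ := degree_quotient_eq M η
  rw [hb] at hη0
  refine ⟨r ^ b, fun χ hχ => ?_⟩
  obtain ⟨θ, hθ⟩ := CharDeep.Deg.exists_constituent
    (CharCore.isCharacter_restrict (CharCore.irr_isCharacter χ) M)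
    (by simpa using CharCore.irr_apply_one_ne_zero χ)
  set m := Cfsg.charDegree (θ : M → ℂ) with hm
  have hθ1 : (θ : M → ℂ) 1 = (m : ℂ) := CharDeep.Deg.apply_one θ
  set T := inertia M (θ : M → ℂ) with hT
  have hMT : M ≤ T := le_inertia M (CharCore.irr_isClassFunction θ)
  have hTdvd : T.index ∣ r ^ k := hk ▸ Subgroup.index_dvd_of_le hMT
  obtain ⟨j, -, hj⟩ := (Nat.dvd_prime_pow hr).mp hTdvd
  have := Fintype.ofFinite T
  set M' := M.subgroupOf T with hM'
  have := Fintype.ofFinite M'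
  set e := Subgroup.subgroupOfEquivOfLe hMT with he
  have hθ' : Cfsg.IsIrrCharacter M' (fun x => (θ : M → ℂ) (e x)) :=
    CharCore.isIrrCharacter_comp_surjective θ.2 e.toMonoidHom e.surjective
  have hinv : Inv M' (fun x => (θ : M → ℂ) (e x)) := fun g n => (mem_inertia.mp g.2) (e n)
  have hcard' : Nat.card M' = Nat.card M := Nat.card_congr e.toEquiv
  have hcopI : Nat.Coprime M'.index (Nat.card M) := by
    obtain ⟨i, -, hi⟩ := (Nat.dvd_prime_pow hr).mp
      ((hk ▸ Dvd.intro _ (Subgroup.relIndex_mul_index hMT)) : M'.index ∣ r ^ k)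
    rw [hi]
    exact Nat.Coprime.pow_left i hcop.symm
  obtain ⟨χT, ⟨hχT, hext, -⟩, -⟩ := exists_ext_detOrder M' hθ' hinv (d := m)
    (by simp only [map_one]; exact hθ1)
    (Nat.Coprime.mul_right
      (hcopI.coprime_dvd_right (by
        rw [detOrder_eq, ← hcard']
        exact orderOf_dvd_of_pow_eq_one (MonoidHom.ext fun n => by
          rw [MonoidHom.pow_apply, ← map_pow, pow_card_eq_one', map_one, MonoidHom.one_apply])))
      (hcopI.coprime_dvd_right (degree_dvd_card θ)))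
  have hext' : ∀ n : M, χT ⟨n, hMT n.2⟩ = (θ : M → ℂ) n := fun n => by
    exact (hext (e.symm n)).trans (congrArg (θ : M → ℂ) (e.apply_symm_apply n))
  obtain ⟨χ1, -, hχ1⟩ := exists_degree_of_ext M θ.2 hθ1 T hT.symm hMT ⟨χT, hχT⟩ hext'
  set c := T.index * m with hc
  have hcd : c ∣ Cfsg.charDegree (χ : N → ℂ) := over_degree_dvd M θ.2 hθ hθ1
  by_cases hc1 : c = 1
  · -- the character lies over an invariant linear character
    have hm1 : m = 1 := Nat.eq_one_of_mul_eq_one_left hc1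
    have hd := (CharB.degree_dvd M χ.2 θ.2 hθ (CharDeep.Deg.apply_one χ) hθ1).2
    rw [hm1, Nat.div_one, hk] at hd
    obtain ⟨a, -, ha⟩ := (Nat.dvd_prime_pow hr).mp hd
    rw [ha]
    exact prime_pow_eq_of_noDvd hnd (ha ▸ hχ) hb1 ha hη0
  · have hc1' : 1 < c := by
      have h1 := CharDeep.Deg.degree_pos χ1
      omega
    have hdc : Cfsg.charDegree (χ : N → ℂ) = c :=
      ((hnd χ1 χ (hχ1 ▸ hc1') (hχ1 ▸ hcd)).symm).trans hχ1
    -- the factor group of the stabiliser is abelian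
    have hlin : ∀ γ : Cfsg.IrrCharacter T, (∀ (n : M') (g : T), (γ : T → ℂ) ((n : T) * g) = (γ : T → ℂ) g) →
        Cfsg.charDegree (γ : T → ℂ) = 1 := by
      intro γ hγ
      set g0 := Cfsg.charDegree (γ : T → ℂ) with hg0
      have hrestr : (fun n : M' => χT n) = fun n => (θ : M → ℂ) (e n) := funext hext
      have hφ : Cfsg.IsIrrCharacter T ((γ : T → ℂ) * χT) :=
        CharDeep.Ext.isIrrCharacter_mul hχT (by rw [hrestr]; exact hθ') γ.2 hγ
      let φ : Cfsg.IrrCharacter T := ⟨_, hφ⟩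
      obtain ⟨χ2, hχ2, -⟩ := CharDeep.Deg.exists_over_subgroup T φ
      have hk2 : Cfsg.classInner (fun n : M => (φ : T → ℂ) ⟨n, hMT n.2⟩) (θ : M → ℂ) = (g0 : ℂ) := by
        have h1 : (fun n : M => (φ : T → ℂ) ⟨n, hMT n.2⟩) = (g0 : ℂ) • (θ : M → ℂ) := by
          funext n
          change (γ : T → ℂ) ⟨n, hMT n.2⟩ * χT ⟨n, hMT n.2⟩ = _
          have h2 := hγ (e.symm n) 1
          rw [mul_one] at h2
          rw [hext' n, show (⟨n, hMT n.2⟩ : T) = (e.symm n : T) from rfl, h2,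
            CharDeep.Deg.apply_one γ, Pi.smul_apply, smul_eq_mul]
        rw [h1, CharCore.classInner_smul_left, CharCore.classInner_irr_self, mul_one]
      obtain ⟨j2, hj2, hle⟩ := inner_mono M T hMT (CharCore.irr_isCharacter χ2) φ θ hχ2 hk2
      have hover : Over M χ2 (θ : M → ℂ) := by
        change Cfsg.classInner (fun b : M => (χ2 : N → ℂ) b) (θ : M → ℂ) ≠ 0
        rw [hj2, Nat.cast_ne_zero]
        have := CharDeep.Deg.degree_pos γ
        omega
      have hdiv := over_degree_dvd M θ.2 hover hθ1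
      have hd2 : Cfsg.charDegree (χ2 : N → ℂ) = c :=
        ((hnd χ1 χ2 (hχ1 ▸ hc1') (hχ1 ▸ hdiv)).symm).trans hχ1
      obtain ⟨ψ, hψ, hind, hinner⟩ := exists_inertia_induced M θ.2 T (fun g => mem_inertia) hMT χ2.2
        (by rw [hj2]; exact fun h => hover (hj2.trans h))
      rw [hj2] at hinner
      obtain ⟨D, -, hD⟩ := CharCore.IsIrrCharacter.exists_degree hψ
      have hle2 : j2 * m ≤ D := mul_le_of_inner
        (CharCore.isCharacter_comp (CharCore.IsIrrCharacter.isCharacter hψ) (Subgroup.inclusion hMT))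
        θ hinner (by simpa using hD)
      have hcD : c = T.index * D := by
        have h1 := congrFun hind 1
        rw [CharInd.indFun_apply_one, hD, CharDeep.Deg.apply_one χ2, hd2] at h1
        exact_mod_cast h1.symm
      have hT0 : 0 < T.index := Nat.pos_of_ne_zero Subgroup.index_ne_zero_of_finite
      have hDm : D = m := (Nat.eq_of_mul_eq_mul_left hT0 (hc ▸ hcD)).symm
      have hm0 : 0 < m := CharDeep.Deg.degree_pos θ
      rw [hDm] at hle2
      have : j2 ≤ 1 := Nat.le_of_mul_le_mul_right (by rw [one_mul]; exact hle2) hm0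
      have := CharDeep.Deg.degree_pos γ
      omega
    set q := QuotientGroup.mk' M with hq
    set T' := T.map q with hT'
    have hT'ab : ∀ a b : T', a * b = b * a := by
      refine CharDeep.Deg.commute_of_degree_one fun δ => ?_
      let f : T →* T' := (q.comp T.subtype).codRestrict T' fun t => ⟨t, t.2, rfl⟩
      have hf : Function.Surjective f := by
        rintro ⟨_, t, ht, rfl⟩
        exact ⟨⟨t, ht⟩, rfl⟩
      have h1 := hlin ⟨_, CharCore.isIrrCharacter_comp_surjective δ.2 f hf⟩ fun n g => by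
        change (δ : T' → ℂ) (f ((n : T) * g)) = (δ : T' → ℂ) (f g)
        rw [map_mul, show f (n : T) = 1 from Subtype.ext ((QuotientGroup.eq_one_iff _).mpr n.2), one_mul]
      refine CharDeep.Deg.degree_of_eq ?_
      rw [show (δ : T' → ℂ) 1 = (δ : T' → ℂ) (f 1) by rw [map_one]]
      exact (CharDeep.Deg.apply_one ⟨_, CharCore.isIrrCharacter_comp_surjective δ.2 f hf⟩).trans
        (congrArg _ h1)
    have hidx : T'.index = T.index := by
      rw [hT', Subgroup.index_map_eq T (QuotientGroup.mk'_surjective M)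
        ((QuotientGroup.ker_mk' M).trans_le hMT)]
    have hle := degree_le_index T' hT'ab η
    rw [hb, hidx, hj] at hle
    have hbc : r ^ b ∣ c :=
      (pow_dvd_pow r ((Nat.pow_le_pow_iff_right hr.one_lt).mp hle)).trans (hj ▸ dvd_mul_right _ _)
    rw [hdc, ← hχ1, ← hη0]
    exact (hnd η0 χ1 (hη0 ▸ hb1) (by rw [hη0, hχ1]; exact hbc)).symm

/-- The abelian case: a complement normalised by the automorphism. -/
theorem frame_of_auto (hs : Group.IsSolvable N) (hnd : NoDvd N) (α : N ≃* N) {l : ℕ} (hl : l.Prime)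
    (hnl : ∀ χ : Cfsg.IrrCharacter N, ¬ l ∣ Cfsg.charDegree (χ : N → ℂ))
    (hinner : ∃ n : N, ∀ v : N, (⇑α)^[l] v = n * v * n⁻¹)
    (hfix : ∀ χ : Cfsg.IrrCharacter N, 1 < Cfsg.charDegree (χ : N → ℂ) → ∀ g,
      (χ : N → ℂ) (α g) = (χ : N → ℂ) g)
    {r : ℕ} (K : Subgroup N) [K.Normal] (hK : commutator N ≤ K)
    (hKfpf : ∀ g, g ∉ K → α g * g⁻¹ ∉ K) (hKα : ∀ g, α g ∈ K → g ∈ K)
    (hcop : (Nat.card (commutator N)).Coprime r) {x : N} {a : ℕ} (hxo : orderOf x = r ^ a)
    (hxK : x ∉ K) :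
    ∃ (B : Subgroup N) (α' : N ≃* N), Frame (commutator N) B α' l := by
  classical
  set L := commutator N with hL
  have hder : ∀ g h : N, g * h * g⁻¹ * h⁻¹ ∈ L := fun g h => by
    rw [hL, ← commutatorElement_def]
    exact Subgroup.commutator_mem_commutator (Subgroup.mem_top g) (Subgroup.mem_top h)
  have hLα : ∀ (σ : N ≃* N), ∀ v ∈ L, σ v ∈ L := fun σ v hv => by
    have : v ∈ L.comap (σ : N →* N) := (Subgroup.commutator_le.mpr fun g _ h _ => by
      rw [Subgroup.mem_comap, map_commutatorElement]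
      exact Subgroup.commutator_mem_commutator (Subgroup.mem_top _) (Subgroup.mem_top _) :
        ⁅(⊤ : Subgroup N), ⊤⁆ ≤ L.comap (σ : N →* N)) hv
    exact this
  -- moved elements have their coset as class
  have hlin1 : ∀ χ : Cfsg.IrrCharacter N, ¬ 1 < Cfsg.charDegree (χ : N → ℂ) →
      ∀ g h : N, g * h⁻¹ ∈ L → (χ : N → ℂ) g = (χ : N → ℂ) h := fun χ hχ g h hgh => by
    have h1 : (χ : N → ℂ) 1 = 1 := by
      have := CharDeep.Deg.degree_pos χ
      rw [CharDeep.Deg.apply_one χ, show Cfsg.charDegree (χ : N → ℂ) = 1 by omega, Nat.cast_one]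
    obtain ⟨f, hf⟩ := CharCore.IsCharacter.exists_hom_of_degree_one (CharCore.irr_isCharacter χ) h1
    have h2 : f (g * h⁻¹) = 1 := Abelianization.commutator_subset_ker f hgh
    rw [map_mul, map_inv, mul_inv_eq_one] at h2
    simp only [hf, h2]
  have hstable : ∀ σ : N ≃* N, (∀ χ : Cfsg.IrrCharacter N, 1 < Cfsg.charDegree (χ : N → ℂ) → ∀ g,
      (χ : N → ℂ) (σ g) = (χ : N → ℂ) g) → ∀ v ∈ L, IsConj v (σ v) := fun σ hσ v hv => by
    refine (CharCore.isConj_iff_forall_irr v (σ v)).mpr fun χ => ?_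
    by_cases hχ : 1 < Cfsg.charDegree (χ : N → ℂ)
    · exact (hσ χ hχ v).symm
    · exact hlin1 χ hχ v _ (L.mul_mem hv (L.inv_mem (hLα σ v hv)))
  have hclass : ∀ b, α b * b⁻¹ ∉ L → ∀ v ∈ L, IsConj b (v * b) := by
    have hzero : ∀ b, α b * b⁻¹ ∉ L → ∀ χ : Cfsg.IrrCharacter N,
        1 < Cfsg.charDegree (χ : N → ℂ) → (χ : N → ℂ) b = 0 := by
      intro b hb χ hχ
      obtain ⟨φ, hφ⟩ := exists_hom_ne_one (A := Abelianization N) (fun a b => mul_comm a b)
        (a := Abelianization.of (α b * b⁻¹)) (fun h => hb (by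
          rwa [← MonoidHom.mem_ker, Abelianization.ker_of] at h))
      set μ := φ.comp Abelianization.of with hμ
      have hμne : μ (α b) ≠ μ b := fun h => hφ (by
        change μ (α b * b⁻¹) = 1
        rw [map_mul, map_inv, h, mul_inv_cancel])
      let χ' : Cfsg.IrrCharacter N := ⟨_, CharCore.isIrrCharacter_hom_mul μ χ.2⟩
      have hd : Cfsg.charDegree (χ' : N → ℂ) = Cfsg.charDegree (χ : N → ℂ) :=
        CharDeep.Deg.degree_of_eq (by
          change (μ 1 : ℂ) * (χ : N → ℂ) 1 = _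
          rw [map_one, Units.val_one, one_mul, CharDeep.Deg.apply_one χ])
      have h1 : (μ (α b) : ℂ) * (χ : N → ℂ) (α b) = (μ b : ℂ) * (χ : N → ℂ) b :=
        hfix χ' (hd ▸ hχ) b
      rw [hfix χ hχ b] at h1
      by_contra h0
      exact hμne (Units.ext (mul_right_cancel₀ h0 h1))
    intro b hb v hv
    refine (CharCore.isConj_iff_forall_irr b (v * b)).mpr fun χ => ?_
    by_cases hχ : 1 < Cfsg.charDegree (χ : N → ℂ)
    · rw [hzero b hb χ hχ, hzero (v * b) (fun h => hb ?_) χ hχ]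
      have h' : (α v)⁻¹ * (α (v * b) * (v * b)⁻¹) * v ∈ L :=
        L.mul_mem (L.mul_mem (L.inv_mem (hLα α v hv)) h) hv
      simpa [mul_assoc] using h'
    · refine hlin1 χ hχ b _ ?_
      rw [mul_inv_rev, ← mul_assoc, mul_inv_cancel, one_mul]
      exact L.inv_mem hv
  have hcentral : ∀ b, α b * b⁻¹ ∉ L →
      Nat.card (Subgroup.centralizer ({b} : Set N)) = L.index := by
    intro b hb
    have hidx : (Subgroup.centralizer ({b} : Set N)).index = Nat.card L := by
      refine Nat.card_eq_of_bijective (Quotient.lift (fun g => (⟨g * b * g⁻¹ * b⁻¹, hder g b⟩ : L))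
        fun g h hgh => Subtype.ext ?_) ⟨?_, ?_⟩
      · have hc := Subgroup.mem_centralizer_singleton_iff.mp (QuotientGroup.leftRel_apply.mp hgh)
        change g * b * g⁻¹ * b⁻¹ = h * b * h⁻¹ * b⁻¹
        calc g * b * g⁻¹ * b⁻¹ = g * (b * (g⁻¹ * h)) * h⁻¹ * b⁻¹ := by group
          _ = g * ((g⁻¹ * h) * b) * h⁻¹ * b⁻¹ := by rw [hc]
          _ = _ := by group
      · intro g h
        induction g using Quotient.inductionOn with
        | h g =>
          induction h using Quotient.inductionOn with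
          | h h =>
            intro he
            have he' : g * b * g⁻¹ * b⁻¹ = h * b * h⁻¹ * b⁻¹ := congrArg Subtype.val he
            refine Quotient.sound (QuotientGroup.leftRel_apply.mpr
              (Subgroup.mem_centralizer_singleton_iff.mpr ?_))
            calc g⁻¹ * h * b = g⁻¹ * (h * b * h⁻¹ * b⁻¹) * b * h := by group
              _ = _ := by rw [← he']; group
      · rintro ⟨v, hv⟩
        obtain ⟨g, hg⟩ := isConj_iff.mp (hclass b hb v hv)
        exact ⟨Quotient.mk _ g, Subtype.ext (by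
          change g * b * g⁻¹ * b⁻¹ = v
          rw [hg, mul_inv_cancel_right])⟩
    have h1 := (Subgroup.centralizer ({b} : Set N)).card_mul_index
    rw [hidx, ← L.index_mul_card] at h1
    exact Nat.eq_of_mul_eq_mul_right Nat.card_pos h1
  have hnotL : ∀ b, b ∉ K → α b * b⁻¹ ∉ L := fun b hb h => hKfpf b hb (hK h)
  set B := Subgroup.centralizer ({x} : Set N) with hB
  have hBcard : Nat.card B = L.index := hcentral x (hnotL x hxK)
  have hinf : L ⊓ B = ⊥ := by
    rw [Subgroup.eq_bot_iff_forall]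
    rintro y ⟨hy, hyx⟩
    have hcomm : Commute y x := Subgroup.mem_centralizer_singleton_iff.mp hyx
    obtain ⟨g, hg⟩ := isConj_iff.mp (hclass x (hnotL x hxK) y hy)
    have ho : orderOf (y * x) = orderOf x := by
      rw [← hg]
      exact orderOf_injective (MulAut.conj g).toMonoidHom (MulAut.conj g).injective x
    have hoy : orderOf y ∣ Nat.card L := Subgroup.orderOf_dvd_natCard L hy
    rw [hcomm.orderOf_mul_eq_mul_orderOf_of_coprime
      (by rw [hxo]; exact (hcop.coprime_dvd_left hoy).pow_right a)] at ho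
    exact orderOf_eq_one_iff.mp
      (Nat.eq_of_mul_eq_mul_right (orderOf_pos x) (ho.trans (one_mul _).symm))
  have hcompl : L.IsComplement' B := by
    refine Subgroup.isComplement'_of_card_mul_and_disjoint ?_ (disjoint_iff.mpr hinf)
    rw [hBcard, L.card_mul_index]
  have hsup : L ⊔ B = ⊤ := hcompl.sup_eq_top
  have hBL : ∀ g, g ∈ L → g ∈ B → g = 1 := fun g h1 h2 =>
    Subgroup.mem_bot.mp (hinf ▸ Subgroup.mem_inf.mpr ⟨h1, h2⟩)
  have hcomm : ∀ s ∈ B, ∀ t ∈ B, s * t = t * s := fun s hs t ht => by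
    have h := hBL _ (hder s t) (B.mul_mem (B.mul_mem (B.mul_mem hs ht) (B.inv_mem hs)) (B.inv_mem ht))
    rwa [mul_inv_eq_one, mul_inv_eq_iff_eq_mul] at h
  -- move `α x` into `B`
  obtain ⟨v, hv, b0, hb0, he⟩ := Subgroup.mem_sup_of_normal_left.mp (hsup.symm ▸ Subgroup.mem_top (α x))
  have hb0K : b0 ∉ K := fun h => hxK (hKα x (he ▸ K.mul_mem (hK hv) h))
  obtain ⟨g0, hg0⟩ := isConj_iff.mp (hclass b0 (hnotL b0 hb0K) v hv)
  set α' : N ≃* N := α.trans (MulAut.conj g0⁻¹)
  have hα' : ∀ g, α' g = g0⁻¹ * α g * g0 := fun g => by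
    change g0⁻¹ * α g * g0⁻¹⁻¹ = _
    rw [inv_inv]
  have hα'x : α' x = b0 := by
    rw [hα', ← he, ← hg0]; group
  have hfix' : ∀ χ : Cfsg.IrrCharacter N, 1 < Cfsg.charDegree (χ : N → ℂ) → ∀ g,
      (χ : N → ℂ) (α' g) = (χ : N → ℂ) g := fun χ hχ g => by
    rw [hα', show g0⁻¹ * α g * g0 = g0⁻¹ * α g * g0⁻¹⁻¹ by rw [inv_inv],
      CharCore.irr_isClassFunction χ, hfix χ hχ]
  have hquot : ∀ g, (α' g * g⁻¹) * (α g * g⁻¹)⁻¹ ∈ L := fun g => by
    rw [hα', show g0⁻¹ * α g * g0 * g⁻¹ * (α g * g⁻¹)⁻¹ = g0⁻¹ * α g * g0⁻¹⁻¹ * (α g)⁻¹ by group]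
    exact hder _ _
  have hKfpf' : ∀ g, g ∉ K → α' g * g⁻¹ ∉ K := fun g hg h => hKfpf g hg (by
    have := K.mul_mem (K.inv_mem (hK (hquot g))) h
    simpa [mul_assoc] using this)
  have hmovL : ∀ g, α' g * g⁻¹ ∉ L → α g * g⁻¹ ∉ L := fun g hg h => hg (by
    have := L.mul_mem (hquot g) h
    simpa [mul_assoc] using this)
  have hBeq : ∀ b ∈ B, α b * b⁻¹ ∉ L → Subgroup.centralizer ({b} : Set N) = B := fun b hb hbL =>
    (Subgroup.eq_of_le_of_card_ge (fun c hc => Subgroup.mem_centralizer_singleton_iff.mpr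
      (hcomm c hc b hb)) (by rw [hcentral b hbL, hBcard])).symm
  have hmapB : ∀ b ∈ B, α' b ∈ B := fun b hb => by
    rw [← hBeq b0 hb0 (hnotL b0 hb0K), Subgroup.mem_centralizer_singleton_iff, ← hα'x, ← map_mul,
      ← map_mul]
    exact congrArg α' (Subgroup.mem_centralizer_singleton_iff.mp hb)
  obtain ⟨n, hn⟩ := hinner
  have hinner' : ∀ i : ℕ, ∃ c : N, ∀ g, (⇑α')^[i] g = c * (⇑α)^[i] g * c⁻¹ := by
    intro i
    induction i with
    | zero => exact ⟨1, fun g => by simp⟩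
    | succ i ih =>
      obtain ⟨c, hc⟩ := ih
      refine ⟨g0⁻¹ * α c, fun g => ?_⟩
      rw [Function.iterate_succ_apply', hc, Function.iterate_succ_apply', hα', map_mul, map_mul, map_inv]
      group
  refine ⟨B, α',
    { normal := inferInstance
      solv := hs
      comm := hcomm
      inf := hinf
      sup := hsup
      mapB := hmapB
      iterB := fun b hb => ?_
      inner := ?_
      fpf := fun b hb hmv w hw hc => ?_
      stable := hstable α' hfix'
      moved := ?_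
      nodvd := hnd
      prime := hl
      ndeg := hnl }⟩
  · obtain ⟨c, hc⟩ := hinner' l
    have hin : (⇑α')^[l] b ∈ B := by
      have : ∀ i : ℕ, (⇑α')^[i] b ∈ B := fun i => by
        induction i with
        | zero => exact hb
        | succ i ih => rw [Function.iterate_succ_apply']; exact hmapB _ ih
      exact this l
    have hL' : (⇑α')^[l] b * b⁻¹ ∈ L := by
      rw [hc, hn, show c * (n * b * n⁻¹) * c⁻¹ * b⁻¹ = (c * n) * b * (c * n)⁻¹ * b⁻¹ by group]
      exact hder _ _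
    exact mul_inv_eq_one.mp (hBL _ hL' (B.mul_mem hin (B.inv_mem hb)))
  · obtain ⟨c, hc⟩ := hinner' l
    exact ⟨c * n, fun g => by rw [hc, hn]; group⟩
  · have hL' : α' b * b⁻¹ ∉ L := fun h =>
      hmv (mul_inv_eq_one.mp (hBL _ h (B.mul_mem (hmapB b hb) (B.inv_mem hb))))
    refine hBL w hw ?_
    rw [← hBeq b hb (hmovL b hL'), Subgroup.mem_centralizer_singleton_iff]
    exact hc.symm
  · refine ⟨x, Subgroup.mem_centralizer_singleton_iff.mpr rfl, fun h => ?_⟩
    have hz := hKfpf' x hxK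
    exact hKfpf' _ hz (by rw [h, mul_inv_cancel]; exact K.one_mem)

/-- All nonlinear degrees are equal. -/
theorem degree_eq_of_auto (hs : Group.IsSolvable N) (hnd : NoDvd N) (α : N ≃* N) {l : ℕ} (hl : l.Prime)
    (hnl : ∀ χ : Cfsg.IrrCharacter N, ¬ l ∣ Cfsg.charDegree (χ : N → ℂ))
    (hinner : ∃ n : N, ∀ v : N, (⇑α)^[l] v = n * v * n⁻¹)
    (hfix : ∀ χ : Cfsg.IrrCharacter N, 1 < Cfsg.charDegree (χ : N → ℂ) → ∀ g,
      (χ : N → ℂ) (α g) = (χ : N → ℂ) g)
    {r : ℕ} (hr : r.Prime)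
    (hrd : ∀ χ : Cfsg.IrrCharacter N, Cfsg.charDegree (χ : N → ℂ) ≠ 1 →
      r ∣ Cfsg.charDegree (χ : N → ℂ))
    (K : Subgroup N) [K.Normal] (hK : commutator N ≤ K) (hKne : K ≠ ⊤) (hKr : IsPGroup r (N ⧸ K))
    (hKfpf : ∀ g, g ∉ K → α g * g⁻¹ ∉ K) (hKα : ∀ g, α g ∈ K → g ∈ K)
    {χ φ : Cfsg.IrrCharacter N}
    (hχ : 1 < Cfsg.charDegree (χ : N → ℂ)) (hφ : 1 < Cfsg.charDegree (φ : N → ℂ)) :
    Cfsg.charDegree (χ : N → ℂ) = Cfsg.charDegree (φ : N → ℂ) := by
  classical
  obtain ⟨M, hMn, hcop, k, hk⟩ := Cfsg.Agent.S4456.result r hr hrd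
  by_cases hab : ∀ a b : N ⧸ M, a * b = b * a
  · have hLM : commutator N ≤ M := Subgroup.commutator_le.mpr fun g _ h _ => by
      rw [← QuotientGroup.ker_mk' M, MonoidHom.mem_ker, map_commutatorElement,
        commutatorElement_eq_one_iff_commute]
      exact hab _ _
    have hcopL : (Nat.card (commutator N)).Coprime r :=
      hcop.coprime_dvd_left (Subgroup.card_dvd_of_le hLM)
    obtain ⟨g, hg⟩ : ∃ g : N, g ∉ K := by
      by_contra! h
      exact hKne ((Subgroup.eq_top_iff' K).mpr h)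
    obtain ⟨a, m', hm', ho⟩ := Nat.exists_eq_pow_mul_and_not_dvd (orderOf_pos g).ne' r hr.ne_one
    have hm0 : m' ≠ 0 := by
      rintro rfl
      exact hm' (dvd_zero r)
    have hx : orderOf (g ^ m') = r ^ a := by
      rw [orderOf_pow_of_dvd hm0 (ho ▸ dvd_mul_left _ _), ho,
        Nat.mul_div_cancel _ (Nat.pos_of_ne_zero hm0)]
    have hxK : g ^ m' ∉ K := fun h => hg (by
      obtain ⟨i, hi⟩ := hKr (g : N ⧸ K)
      have h1 : (g : N ⧸ K) ^ m' = 1 := by
        rw [← QuotientGroup.mk_pow]; exact (QuotientGroup.eq_one_iff _).mpr h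
      rw [← QuotientGroup.eq_one_iff, ← orderOf_eq_one_iff]
      exact Nat.eq_one_of_dvd_coprimes (((hr.coprime_iff_not_dvd).mpr hm').pow_left i)
        (orderOf_dvd_of_pow_eq_one hi) (orderOf_dvd_of_pow_eq_one h1))
    obtain ⟨B, α', F⟩ := frame_of_auto hs hnd α hl hnl hinner hfix K hK hKfpf hKα hcopL hx hxK
    exact F.degree_eq hχ hφ
  · obtain ⟨d, hd⟩ := degree_eq_of_not_abelian hnd hr M hcop hk hab
    rw [hd χ hχ, hd φ hφ]

end Cfsg.Agent.LAE65.NonDiv
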