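import Cfsg.Agent.LAE65.NonDiv.Frame

/-!
The data when the normal subgroup is abelian and minimal normal.
-/

set_option autoImplicit false
set_option linter.unusedSectionVars false

namespace Cfsg.Agent.LAE65.NonDiv

open Cfsg.Agent.CharDeep.Ext BC86.RelGraph

universe u

variable {N : Type u} [Group N] [Finite N]

/-- What is known about an irreducible abelian layer. -/
structure LayerFacts (L B : Subgroup N) (α : N ≃* N) (C : Subgroup N) : Prop where
  semi : ∀ b ∈ B, ∀ v ∈ L, v ≠ 1 → b * v = v * b → b ∈ C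
  prime : ∃ p : ℕ, p.Prime ∧ ∀ v ∈ L, v ^ p = 1
  degree : ∃ χ : Cfsg.IrrCharacter N, Cfsg.charDegree (χ : N → ℂ) = C.relIndex B
  one_lt : 1 < C.relIndex B
  dvd_card : C.relIndex B ∣ Nat.card L - 1
  large : ∃ Z : Subgroup N, C ≤ Z ∧ Z ≤ B ∧ Nat.card L < C.relIndex Z * C.relIndex Z ∧
    (∀ z ∈ Z, α z * z⁻¹ ∈ C → z ∈ C) ∧ ∀ z ∈ Z, z * z ∈ C → z ∈ C

theorem Frame.layerFacts {L B : Subgroup N} {α : N ≃* N} {l : ℕ} (F : Frame L B α l)
    (hab : ∀ a ∈ L, ∀ b ∈ L, a * b = b * a) (hne : L ≠ ⊥)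
    (hmin : ∀ Y : Subgroup N, Y.Normal → Y ≤ L → Y = ⊥ ∨ Y = L) :
    LayerFacts L B α (B ⊓ Subgroup.centralizer (L : Set N)) := by
  classical
  have hLn := F.normal
  let _ : CommGroup L := { mul_comm := fun a b => Subtype.ext (hab a a.2 b b.2) }
  let _ : CommGroup B := { mul_comm := fun a b => Subtype.ext (F.comm a a.2 b b.2) }
  let π : N →* MulAut L := MulAut.conjNormal
  let ρ : B →* MulAut L := π.comp B.subtype
  have hπapp : ∀ (g : N) (v : L), ((π g v : L) : N) = g * v * g⁻¹ := fun g v =>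
    MulAut.conjNormal_apply g v
  have hπL : ∀ v ∈ L, π v = 1 := fun v hv => MulEquiv.ext fun w => Subtype.ext (by
    rw [hπapp, MulAut.one_apply, hab v hv w w.2, mul_inv_cancel_right])
  have hπker : ∀ g : N, π g = 1 ↔ ∀ v ∈ L, g * v = v * g := fun g => by
    constructor
    · intro h v hv
      have e1 : ((π g ⟨v, hv⟩ : L) : N) = v := by rw [h]; rfl
      rwa [hπapp, mul_inv_eq_iff_eq_mul] at e1
    · intro h
      exact MulEquiv.ext fun w => Subtype.ext (by
        rw [hπapp, MulAut.one_apply, h w w.2, mul_inv_cancel_right])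
  have hρ1 : ∀ b : B, ρ b = 1 ↔ (b : N) ∈ B ⊓ Subgroup.centralizer (L : Set N) := fun b => by
    rw [show ρ b = π (b : N) from rfl, hπker, Subgroup.mem_inf, Subgroup.mem_centralizer_iff]
    exact ⟨fun h => ⟨b.2, fun v hv => (h v hv).symm⟩, fun h v hv => (h.2 v hv).symm⟩
  have hi : OpIrr ρ := by
    intro Y hY
    have hn : (Y.map L.subtype).Normal := by
      refine ⟨fun y hy g => ?_⟩
      obtain ⟨y, hy', rfl⟩ := hy
      obtain ⟨v, hv, b, hb, rfl⟩ := F.exists_mul g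
      refine ⟨ρ ⟨b, hb⟩ y, hY _ _ hy', ?_⟩
      change ((π b y : L) : N) = v * b * (y : N) * (v * b)⁻¹
      rw [← hπapp, map_mul, hπL v hv, one_mul]
    rcases hmin _ hn (Subgroup.map_subtype_le Y) with h | h
    · exact Or.inl ((Subgroup.map_eq_bot_iff_of_injective _ L.subtype_injective).mp h)
    · refine Or.inr ((Subgroup.eq_top_iff' Y).mpr fun v => ?_)
      obtain ⟨y, hy, he⟩ := (h.symm ▸ v.2 : (v : N) ∈ Y.map L.subtype)
      exact L.subtype_injective he ▸ hy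
  have : Nontrivial L := (Subgroup.nontrivial_iff_ne_bot L).mpr hne
  obtain ⟨w0, hw0⟩ := exists_ne (1 : L)
  have hfC : ∀ b ∈ B, α b ≠ b → ∀ h : b ∈ B, ρ ⟨b, h⟩ ≠ 1 := fun b hb hmv h h1 => by
    refine hw0 (Subtype.ext (F.fpf b hb hmv w0 w0.2 ?_))
    exact (hπker b).mp h1 w0 w0.2
  -- the operators
  have hmapL : L.map (α : N →* N) = L := F.map_eq L le_rfl
  let αL : MulAut L := (α.subgroupMap L).trans (MulEquiv.subgroupCongr hmapL)
  have hαL : ∀ v : L, ((αL v : L) : N) = α v := fun v => rfl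
  let aHom : B →* B :=
    { toFun := fun b => ⟨α (b : N), F.mapB b b.2⟩
      map_one' := Subtype.ext (map_one α)
      map_mul' := fun x y => Subtype.ext (map_mul α (x : N) y) }
  have hainj : Function.Injective aHom := fun x y h =>
    Subtype.ext (α.injective (congrArg Subtype.val h))
  let a : B ≃* B := MulEquiv.ofBijective aHom ⟨hainj, Finite.injective_iff_surjective.mp hainj⟩
  have haapp : ∀ b : B, ((a b : B) : N) = α b := fun b => rfl
  -- the twisted automorphism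
  obtain ⟨c, hc⟩ := isConj_iff.mp (F.stable w0 w0.2)
  obtain ⟨v0, hv0, b0, hb0, rfl⟩ := F.exists_mul c
  set bb : B := ⟨b0, hb0⟩
  let β : MulAut L := (ρ bb)⁻¹ * αL
  have hαw0 : αL w0 = ρ bb w0 := Subtype.ext (by
    rw [hαL, ← hc]
    change v0 * b0 * (w0 : N) * (v0 * b0)⁻¹ = ((π b0 w0 : L) : N)
    rw [← hπapp, map_mul, hπL v0 hv0, one_mul])
  have hβw : β w0 = w0 := by
    rw [MulAut.mul_apply, hαw0, MulAut.inv_apply, MulEquiv.symm_apply_apply]
  have hαρ : ∀ b : B, αL * ρ b = ρ (a b) * αL := fun b => MulEquiv.ext fun w => Subtype.ext (by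
    rw [MulAut.mul_apply, MulAut.mul_apply, hαL]
    change α ((π (b : N) w : L) : N) = ((π (α b) (αL w) : L) : N)
    rw [hπapp, hπapp, hαL, map_mul, map_mul, map_inv])
  have hcm : ∀ x y : B, ρ x * ρ y = ρ y * ρ x := fun x y => by rw [← map_mul, ← map_mul, mul_comm]
  have hβρ : ∀ b, β * ρ b * β⁻¹ = ρ (a b) := fun b => by
    rw [mul_inv_eq_iff_eq_mul]
    change (ρ bb)⁻¹ * αL * ρ b = ρ (a b) * ((ρ bb)⁻¹ * αL)
    rw [mul_assoc, hαρ, ← mul_assoc, ← mul_assoc, ← map_inv, hcm]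
  have hpow : ∀ n : ℕ, ∃ e : B, β ^ n = ρ e * αL ^ n := by
    intro n
    induction n with
    | zero => exact ⟨1, by simp⟩
    | succ n ih =>
      obtain ⟨e, he⟩ := ih
      refine ⟨bb⁻¹ * a e, ?_⟩
      rw [pow_succ' β, he, map_mul, map_inv, pow_succ' αL]
      change (ρ bb)⁻¹ * αL * (ρ e * αL ^ n) = _
      rw [mul_assoc, ← mul_assoc αL, hαρ]
      group
  have hiterL : ∀ (n : ℕ) (v : L), (((αL ^ n) v : L) : N) = (⇑α)^[n] v := by
    intro n
    induction n with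
    | zero => intro v; rfl
    | succ n ih => intro v; rw [pow_succ', MulAut.mul_apply, hαL, ih, Function.iterate_succ_apply']
  have hβl : β ^ l ∈ Subgroup.centralizer (Set.range ρ) := by
    obtain ⟨e, he⟩ := hpow l
    obtain ⟨n, hn⟩ := F.inner
    obtain ⟨vn, hvn, bn, hbn, rfl⟩ := F.exists_mul n
    have hαl : αL ^ l = ρ ⟨bn, hbn⟩ := MulEquiv.ext fun v => Subtype.ext (by
      rw [hiterL, hn]
      change vn * bn * (v : N) * (vn * bn)⁻¹ = ((π bn v : L) : N)
      rw [← hπapp, map_mul, hπL vn hvn, one_mul])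
    rw [he, hαl, ← map_mul]
    exact rho_mem_centralizer ρ _
  have horb : ∀ v, ∃ b, β v = ρ b v := fun v => by
    obtain ⟨c', hc'⟩ := isConj_iff.mp (F.stable v v.2)
    obtain ⟨u', hu', b', hb', rfl⟩ := F.exists_mul c'
    refine ⟨bb⁻¹ * ⟨b', hb'⟩, ?_⟩
    rw [map_mul, map_inv]
    change (ρ bb)⁻¹ (αL v) = (ρ bb)⁻¹ (ρ ⟨b', hb'⟩ v)
    congr 1
    refine Subtype.ext ?_
    rw [hαL, ← hc']
    change u' * b' * (v : N) * (u' * b')⁻¹ = ((π b' v : L) : N)
    rw [← hπapp, map_mul, hπL u' hu', one_mul]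
  -- degree
  have hker : ρ.ker = (B ⊓ Subgroup.centralizer (L : Set N)).subgroupOf B :=
    Subgroup.ext fun b => by rw [MonoidHom.mem_ker, hρ1, Subgroup.mem_subgroupOf]
  have hrel : (B ⊓ Subgroup.centralizer (L : Set N)).relIndex B = Nat.card ρ.range := by
    rw [← Subgroup.index_ker, hker]
    rfl
  obtain ⟨φ, hφ⟩ := exists_hom_ne_one (A := L) (fun a b => mul_comm a b) hw0
  have hdeg : ∃ χ : Cfsg.IrrCharacter N, Cfsg.charDegree (χ : N → ℂ) = Nat.card ρ.range := by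
    have := Fintype.ofFinite L
    obtain ⟨χ, hχ⟩ := exists_degree_complement L B F.inf F.sup φ
    refine ⟨χ, hχ.trans ?_⟩
    set T := inertia L (coeFn L φ)
    have hLT : L ≤ T := le_inertia L
      (CharCore.IsCharacter.isClassFunction (CharCore.IsIrrCharacter.isCharacter (CharCore.isIrrCharacter_hom φ)))
    rw [F.index_eq_relIndex T hLT, ← Subgroup.index_ker]
    change (T.subgroupOf B).index = ρ.ker.index
    congr 1
    ext b
    rw [Subgroup.mem_subgroupOf, MonoidHom.mem_ker]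
    constructor
    · intro hb
      by_contra hne1
      let f : L →* L := MonoidHom.mk' (fun v => ρ b v * v⁻¹) fun x y => by
        rw [map_mul, mul_inv, mul_mul_mul_comm]
      have hf : Function.Injective f := by
        rw [← MonoidHom.ker_eq_bot_iff, Subgroup.eq_bot_iff_forall]
        intro v hv
        by_contra hv1
        exact hne1 (opIrr_semiregular hi hv1 (mul_inv_eq_one.mp hv))
      refine hφ ?_
      obtain ⟨u', hu'⟩ := Finite.injective_iff_surjective.mp hf w0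
      rw [← hu', MonoidHom.mk'_apply, map_mul, map_inv, mul_inv_eq_one]
      have e1 : φ ⟨(b : N) * u' * (b : N)⁻¹, hLn.conj_mem (u' : N) u'.2 b⟩ = φ u' :=
        Units.ext ((mem_inertia.mp hb) u')
      rw [← e1]
      exact congrArg φ (Subtype.ext (hπapp b u'))
    · intro hb
      refine mem_inertia.mpr fun v => ?_
      change (φ _ : ℂ) = φ v
      have e1 : ((π (b : N) v : L) : N) = v := by
        rw [show π (b : N) = 1 from hb]; rfl
      congr 2
      exact Subtype.ext ((hπapp b v).symm.trans e1)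
  have hld : ¬ l ∣ Nat.card ρ.range := by
    obtain ⟨χ, hχ⟩ := hdeg
    exact hχ ▸ F.ndeg χ
  have hmov : ∃ b, ρ (a b) ≠ ρ b := by
    obtain ⟨x, hx, hmv⟩ := F.moved
    refine ⟨⟨x, hx⟩, fun h => hfC _ (B.mul_mem (F.mapB x hx) (B.inv_mem hx)) hmv
      (B.mul_mem (F.mapB x hx) (B.inv_mem hx)) ?_⟩
    rw [show (⟨α x * x⁻¹, B.mul_mem (F.mapB x hx) (B.inv_mem hx)⟩ : B) = a ⟨x, hx⟩ * ⟨x, hx⟩⁻¹
      from rfl, map_mul, map_inv, h, mul_inv_cancel]
  obtain ⟨Z, hZρ, hZcard, hZfix, hZsq⟩ := exists_large_subgroup ρ hi a β hw0 hβw hβρ F.prime hβl hld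
    horb hmov
  refine ⟨fun b hb v hv hv1 hcv => ?_, ?_, by rw [hrel]; exact hdeg, ?_, ?_, ?_⟩
  · refine (hρ1 ⟨b, hb⟩).mp (opIrr_semiregular hi (v := ⟨v, hv⟩)
      (fun h => hv1 (congrArg Subtype.val h)) (Subtype.ext ?_))
    change ((π b ⟨v, hv⟩ : L) : N) = v
    rw [hπapp, hcv, mul_inv_cancel_right]
  · obtain ⟨p, hp, hpw⟩ := opIrr_exists_prime hi
    exact ⟨p, hp, fun v hv => congrArg Subtype.val (hpw ⟨v, hv⟩)⟩
  · rw [hrel, Finite.one_lt_card_iff_nontrivial]
    obtain ⟨b, hb⟩ := hmov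
    exact ⟨⟨⟨_, a b, rfl⟩, ⟨_, b, rfl⟩, fun h => hb (congrArg Subtype.val h)⟩⟩
  · rw [hrel, ← opIrr_card_centralizer hi hw0, Nat.add_sub_cancel]
    refine Subgroup.card_dvd_of_le ?_
    rintro _ ⟨b, rfl⟩
    exact rho_mem_centralizer ρ b
  · refine ⟨(Z.comap ρ).map B.subtype, ?_, Subgroup.map_subtype_le _, ?_, ?_, ?_⟩
    · intro b hb
      refine ⟨⟨b, (Subgroup.mem_inf.mp hb).1⟩, ?_, rfl⟩
      change ρ _ ∈ Z
      rw [(hρ1 _).mpr hb]
      exact Z.one_mem
    · have e1 : (B ⊓ Subgroup.centralizer (L : Set N)).relIndex ((Z.comap ρ).map B.subtype) =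
          Nat.card Z := by
        have e2 : ρ.ker.map B.subtype = B ⊓ Subgroup.centralizer (L : Set N) := by
          rw [hker, Subgroup.map_subgroupOf_eq_of_le inf_le_left]
        rw [← e2, Subgroup.relIndex_map_map_of_injective _ _ B.subtype_injective, Subgroup.relIndex_ker,
          Subgroup.map_comap_eq, inf_eq_right.mpr hZρ]
      rw [e1]
      exact hZcard
    · rintro _ ⟨z, hz, rfl⟩ hzC
      refine (hρ1 z).mp (hZfix _ hz ?_)
      rw [hβρ]
      have h1 : ρ (a z * z⁻¹) = 1 := (hρ1 _).mpr hzC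
      rw [map_mul, map_inv, mul_inv_eq_one] at h1
      exact h1
    · rintro _ ⟨z, hz, rfl⟩ hzz
      refine (hρ1 z).mp (hZsq _ hz ?_)
      rw [← map_mul]
      exact (hρ1 _).mpr hzz

end Cfsg.Agent.LAE65.NonDiv
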