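import Cfsg.Agent.LAE65.NonDiv.Common

/-!
A class two configuration is impossible.
-/

set_option autoImplicit false
set_option linter.unusedSectionVars false

namespace Cfsg.Agent.LAE65.NonDiv

open Cfsg.Agent.CharDeep.Ext BC86.RelGraph

universe u

variable {N : Type u} [Group N] [Finite N] {L B U : Subgroup N} [hU : U.Normal] {α : N ≃* N} {l : ℕ}

theorem comm_mul_left {v v' w : N} (h : v * (v' * w * v'⁻¹ * w⁻¹) = (v' * w * v'⁻¹ * w⁻¹) * v) :
    (v * v') * w * (v * v')⁻¹ * w⁻¹ = (v' * w * v'⁻¹ * w⁻¹) * (v * w * v⁻¹ * w⁻¹) := by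
  calc (v * v') * w * (v * v')⁻¹ * w⁻¹ = v * (v' * w * v'⁻¹ * w⁻¹) * (w * v⁻¹ * w⁻¹) := by group
    _ = (v' * w * v'⁻¹ * w⁻¹) * v * (w * v⁻¹ * w⁻¹) := by rw [h]
    _ = _ := by group

theorem comm_mul_right {v w w' : N} (h : w * (v * w' * v⁻¹ * w'⁻¹) = (v * w' * v⁻¹ * w'⁻¹) * w) :
    v * (w * w') * v⁻¹ * (w * w')⁻¹ = (v * w * v⁻¹ * w⁻¹) * (v * w' * v⁻¹ * w'⁻¹) := by
  calc v * (w * w') * v⁻¹ * (w * w')⁻¹ = (v * w * v⁻¹) * (v * w' * v⁻¹ * w'⁻¹) * w⁻¹ := by group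
    _ = (v * w * v⁻¹ * w⁻¹) * (w * (v * w' * v⁻¹ * w'⁻¹)) * w⁻¹ := by group
    _ = _ := by rw [h]; group

/-- A nonlinear character of `L` lying over an invariant linear character. -/
theorem Step.exists_theta (S : Step L B U α l) [L.Normal] [Fintype L] (Z : Subgroup N) (hUZ : U ≤ Z)
    (hZL : Z ≤ L) (ν : Z →* ℂˣ)
    (hinv : ∀ v ∈ L, ∀ z : Z, ∀ h : v * (z : N) * v⁻¹ ∈ Z, ν ⟨v * z * v⁻¹, h⟩ = ν z)
    (hgen : ∃ v ∈ L, ∃ w ∈ L, ∃ h : v * w * v⁻¹ * w⁻¹ ∈ Z, ν ⟨v * w * v⁻¹ * w⁻¹, h⟩ ≠ 1) :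
    ∃ θ : L → ℂ, Cfsg.IsIrrCharacter L θ ∧ ∃ d : ℕ, 1 < d ∧ θ 1 = d ∧
      ∀ z : Z, θ ⟨z, hZL z.2⟩ = (d : ℂ) * ν z := by
  classical
  have hZn : (Z.subgroupOf L).Normal := ⟨fun z hz v => by
    have hd := S.derived v v.2 z z.2
    have h := Z.mul_mem (hUZ hd) (show (z : N) ∈ Z from hz)
    rw [inv_mul_cancel_right] at h
    exact h⟩
  set Z' := Z.subgroupOf L
  let e := Subgroup.subgroupOfEquivOfLe hZL
  let ν' : Z' →* ℂˣ := ν.comp e.toMonoidHom
  have := Fintype.ofFinite Z'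
  obtain ⟨θ, hθ⟩ := exists_over_irr' Z' (θ := coeFn Z' ν') (CharCore.isIrrCharacter_hom ν')
  have hinv' : Inv Z' (coeFn Z' ν') := fun g n =>
    congrArg (fun x : ℂˣ => (x : ℂ)) (hinv g g.2 (e n) _)
  have hres := restrict_eq_smul Z' hinv' (CharCore.isIrrCharacter_hom ν') θ.2 hθ
  have hθ1 := CharDeep.Deg.apply_one θ
  set c := Cfsg.classInner (fun n : Z' => (θ : L → ℂ) n) (coeFn Z' ν')
  have hc : c = (Cfsg.charDegree (θ : L → ℂ) : ℕ) := by
    have h1 := congrFun hres 1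
    simp only [Pi.smul_apply, coeFn, map_one, Units.val_one, smul_eq_mul, mul_one,
      OneMemClass.coe_one] at h1
    rw [← h1, hθ1]
  refine ⟨θ, θ.2, Cfsg.charDegree (θ : L → ℂ), ?_, hθ1, fun z => ?_⟩
  · by_contra hle
    have hd : Cfsg.charDegree (θ : L → ℂ) = 1 := by
      have := CharDeep.Deg.degree_pos θ; omega
    obtain ⟨v, hv, w, hw, hm, hne⟩ := hgen
    apply hne
    obtain ⟨f, hf⟩ := CharCore.IsCharacter.exists_hom_of_degree_one (CharCore.irr_isCharacter θ)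
      (by rw [hθ1, hd, Nat.cast_one])
    have h1 := congrFun hres (e.symm ⟨v * w * v⁻¹ * w⁻¹, hm⟩)
    rw [hc, hd, Nat.cast_one, one_smul] at h1
    rw [hf] at h1
    have h2 : f ((e.symm ⟨v * w * v⁻¹ * w⁻¹, hm⟩ : Z') : L) = 1 := by
      rw [show ((e.symm ⟨v * w * v⁻¹ * w⁻¹, hm⟩ : Z') : L)
        = (⟨v, hv⟩ : L) * ⟨w, hw⟩ * (⟨v, hv⟩ : L)⁻¹ * (⟨w, hw⟩ : L)⁻¹ from Subtype.ext rfl]
      simp only [map_mul, map_inv]
      rw [mul_comm (f ⟨v, hv⟩) (f ⟨w, hw⟩), mul_inv_cancel_right, mul_inv_cancel]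
    have h3 : ν' (e.symm ⟨v * w * v⁻¹ * w⁻¹, hm⟩) = ν ⟨v * w * v⁻¹ * w⁻¹, hm⟩ := by
      change ν (e (e.symm _)) = _
      rw [e.apply_symm_apply]
    rw [← h3]
    refine Units.ext ?_
    change coeFn Z' ν' (e.symm ⟨v * w * v⁻¹ * w⁻¹, hm⟩) = 1
    exact h1.symm.trans (congrArg (fun x : ℂˣ => (x : ℂ)) h2)
  · have h1 := congrFun hres (e.symm z)
    rw [hc, Pi.smul_apply, smul_eq_mul] at h1
    refine h1.trans ?_
    change _ * ((ν (e (e.symm z)) : ℂˣ) : ℂ) = _
    rw [e.apply_symm_apply]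

theorem Step.not_central (S : Step L B U α l) (hc : ∀ v ∈ L, ∀ u ∈ U, v * u = u * v)
    (hnab : ¬ ∀ a ∈ L, ∀ b ∈ L, a * b = b * a) : False := by
  classical
  have F := S.frame
  have hLn := F.normal
  have D := S.topFacts
  have := Fintype.ofFinite L
  have hUab : ∀ s ∈ U, ∀ t ∈ U, s * t = t * s := fun s hs t ht => hc s (S.lt.le hs) t ht
  have hcm : ∀ v ∈ L, ∀ w ∈ L, ∀ x ∈ L, x * (v * w * v⁻¹ * w⁻¹) = (v * w * v⁻¹ * w⁻¹) * x :=
    fun v hv w hw x hx => hc x hx _ (S.derived v hv w hw)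
  have hgenU : ∀ (P : N → Prop), P 1 → (∀ x ∈ U, ∀ y ∈ U, P x → P y → P (x * y)) →
      (∀ x ∈ U, P x → P x⁻¹) → (∀ v ∈ L, ∀ w ∈ L, P (v * w * v⁻¹ * w⁻¹)) → ∀ u ∈ U, P u := by
    intro P h1 hm hi hgen
    let K : Subgroup N :=
      { carrier := {u | u ∈ U ∧ P u}
        one_mem' := ⟨U.one_mem, h1⟩
        mul_mem' := fun {x y} hx hy => ⟨U.mul_mem hx.1 hy.1, hm x hx.1 y hy.1 hx.2 hy.2⟩
        inv_mem' := fun {x} hx => ⟨U.inv_mem hx.1, hi x hx.1 hx.2⟩ }
    have hsub : ⁅L, L⁆ ≤ K := Subgroup.commutator_le.mpr fun v hv w hw => by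
      rw [commutatorElement_def]; exact ⟨S.derived v hv w hw, hgen v hv w hw⟩
    rcases S.minimal ⁅L, L⁆ inferInstance (hsub.trans fun x hx => hx.1) with h | h
    · refine absurd (fun a ha b hb => ?_) hnab
      have := Subgroup.commutator_mem_commutator ha hb
      rw [h, Subgroup.mem_bot, commutatorElement_def, mul_inv_eq_one, mul_inv_eq_iff_eq_mul] at this
      exact this
    · exact fun u hu => (hsub (h.symm ▸ hu)).2
  have hchar : ∀ φ : U →* ℂˣ, φ ≠ 1 → ∃ v ∈ L, ∃ w ∈ L, ∃ h : v * w * v⁻¹ * w⁻¹ ∈ U,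
      φ ⟨_, h⟩ ≠ 1 := by
    intro φ hφ
    by_contra hcon
    push Not at hcon
    refine hφ (MonoidHom.ext fun u => ?_)
    have := hgenU (fun x => ∀ h : x ∈ U, φ ⟨x, h⟩ = 1) (fun _ => map_one φ)
      (fun x hx y hy h1 h2 h => by
        rw [show (⟨x * y, h⟩ : U) = ⟨x, hx⟩ * ⟨y, hy⟩ from rfl, map_mul, h1, h2, one_mul])
      (fun x hx h1 h => by
        rw [show (⟨x⁻¹, h⟩ : U) = (⟨x, hx⟩ : U)⁻¹ from rfl, map_inv, h1, inv_one])
      (fun v hv w hw => hcon v hv w hw) u u.2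
    exact this u.2
  set C := fixTop L B U with hC
  set CU := B ⊓ Subgroup.centralizer (U : Set N) with hCUdef
  have hCUmem : ∀ b, b ∈ CU ↔ b ∈ B ∧ ∀ u ∈ U, b * u = u * b := fun b => by
    rw [hCUdef, Subgroup.mem_inf, Subgroup.mem_centralizer_iff]
    exact and_congr_right fun _ => ⟨fun h u hu => (h u hu).symm, fun h u hu => (h u hu).symm⟩
  have hCCU : C ≤ CU := by
    intro c hcC
    obtain ⟨hcB, hcU⟩ := mem_fixTop.mp hcC
    refine (hCUmem c).mpr ⟨hcB, hgenU _ (by simp) (fun x _ y _ h1 h2 => ?_) (fun x _ h1 => ?_)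
      fun v hv w hw => ?_⟩
    · rw [← mul_assoc, h1, mul_assoc, h2, mul_assoc]
    · exact (Commute.inv_right (a := c) h1).eq
    · have h1 := hcU v hv
      have h2 := hcU w hw
      set s := c * v * c⁻¹ * v⁻¹ with hs
      set t := c * w * c⁻¹ * w⁻¹ with ht
      have ev : c * v * c⁻¹ = s * v := by rw [hs]; group
      have ew : c * w * c⁻¹ = t * w := by rw [ht]; group
      have key : c * (v * w * v⁻¹ * w⁻¹) * c⁻¹ = v * w * v⁻¹ * w⁻¹ := by
        calc c * (v * w * v⁻¹ * w⁻¹) * c⁻¹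
            = (c * v * c⁻¹) * (c * w * c⁻¹) * (c * v * c⁻¹)⁻¹ * (c * w * c⁻¹)⁻¹ := by group
          _ = s * (v * t) * w * v⁻¹ * s⁻¹ * w⁻¹ * t⁻¹ := by rw [ev, ew]; group
          _ = s * t * (v * w * v⁻¹ * (s⁻¹ * w⁻¹)) * t⁻¹ := by rw [hc v hv t h2]; group
          _ = s * t * (v * w * v⁻¹ * (w⁻¹ * s⁻¹)) * t⁻¹ := by
              rw [hc w⁻¹ (L.inv_mem hw) s⁻¹ (U.inv_mem h1)]
          _ = (s * t) * (v * w * v⁻¹ * w⁻¹) * (t * s)⁻¹ := by group
          _ = _ := by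
              rw [hUab t h2 s h1, hUab _ (U.mul_mem h1 h2) _ (S.derived v hv w hw), mul_inv_cancel_right]
      exact mul_inv_eq_iff_eq_mul.mp key
  obtain ⟨u0, hu0, hu01⟩ := (Subgroup.ne_bot_iff_exists_ne_one.mp S.ne |> fun ⟨u, hu⟩ =>
    (⟨(u : N), u.2, fun h => hu (Subtype.ext h)⟩ : ∃ u0, u0 ∈ U ∧ u0 ≠ 1))
  by_cases hall : CU ≤ C
  · obtain ⟨φ, hφ⟩ := exists_hom_ne_one (A := U) (fun a b => Subtype.ext (hUab a a.2 b b.2))
      (a := ⟨u0, hu0⟩) (fun h => hu01 (congrArg Subtype.val h))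
    have hφ1 : φ ≠ 1 := fun h => hφ (by rw [h]; rfl)
    obtain ⟨θ, hθ, d, hd1, hd, hval⟩ := S.exists_theta U le_rfl S.lt.le φ
      (fun v hv z h => congrArg φ (Subtype.ext (by
        change v * (z : N) * v⁻¹ = z
        rw [hc v hv z z.2, mul_inv_cancel_right])))
      (hchar φ hφ1)
    refine S.absurd_of_irr hθ hd hd1 fun b hb hbT => hall ((hCUmem b).mpr ⟨hb, ?_⟩)
    by_contra hnc
    obtain ⟨u, hu⟩ := S.exists_char_ne hc hb hnc φ hφ1
    apply hu
    have h1 := (mem_inertia.mp hbT) ⟨u, S.lt.le u.2⟩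
    rw [hval u, hval ⟨b * u * b⁻¹, hU.conj_mem u u.2 b⟩] at h1
    exact Units.ext (mul_left_cancel₀ (Nat.cast_ne_zero.mpr (by omega)) h1)
  · obtain ⟨b1, hb1, hb1C⟩ := Set.not_subset.mp hall
    have hb1' := (hCUmem b1).mp hb1
    -- no radical
    have hrad : ∀ φ : U →* ℂˣ, φ ≠ 1 → ∀ w, ∀ hw : w ∈ L, w ∉ U →
        ∃ v, ∃ hv : v ∈ L, φ ⟨w * v * w⁻¹ * v⁻¹, S.derived w hw v hv⟩ ≠ 1 := by
      intro φ hφ w hw hwU
      by_contra hcon
      push Not at hcon
      let Z : Subgroup N :=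
        { carrier := {z | z ∈ L ∧ ∀ v ∈ L, ∀ h : z * v * z⁻¹ * v⁻¹ ∈ U, φ ⟨_, h⟩ = 1}
          one_mem' := ⟨L.one_mem, fun v _ h => by
            rw [show (⟨1 * v * 1⁻¹ * v⁻¹, h⟩ : U) = 1 from Subtype.ext (by simp), map_one]⟩
          mul_mem' := fun {x y} hx hy => ⟨L.mul_mem hx.1 hy.1, fun v hv h => by
            rw [show (⟨x * y * v * (x * y)⁻¹ * v⁻¹, h⟩ : U) = ⟨_, S.derived y hy.1 v hv⟩ * ⟨_, S.derived x hx.1 v hv⟩
              from Subtype.ext (comm_mul_left (hcm y hy.1 v hv x hx.1)), map_mul, hx.2 v hv,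
              hy.2 v hv, one_mul]⟩
          inv_mem' := fun {x} hx => ⟨L.inv_mem hx.1, fun v hv h => by
            have h2 := hcm x⁻¹ (L.inv_mem hx.1) v hv x hx.1
            have h3 := comm_mul_left (v' := x⁻¹) (w := v) (v := x) h2
            simp only [mul_inv_cancel, one_mul, inv_one, mul_one] at h3
            have h4 : (⟨x⁻¹ * v * x⁻¹⁻¹ * v⁻¹, h⟩ : U) = (⟨_, S.derived x hx.1 v hv⟩ : U)⁻¹ :=
              Subtype.ext (eq_inv_of_mul_eq_one_left h3.symm)
            rw [h4, map_inv, hx.2 v hv, inv_one]⟩ }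
      have hUZ : U ≤ Z := fun u hu => ⟨S.lt.le hu, fun v hv h => by
        rw [show (⟨u * v * u⁻¹ * v⁻¹, h⟩ : U) = 1 from Subtype.ext (by
          change u * v * u⁻¹ * v⁻¹ = 1
          rw [← hc v hv u hu, mul_inv_cancel_right, mul_inv_cancel]), map_one]⟩
      have hZL : Z ≤ L := fun z hz => hz.1
      have hwZ : w ∈ Z := ⟨hw, fun v hv _ => hcon v hv⟩
      set U' := U.subgroupOf Z with hU'
      have hZU' : U'.Normal := Subgroup.Normal.subgroupOf hU Z
      let φ' : U' →* ℂˣ := φ.comp (Subgroup.subgroupOfEquivOfLe hUZ).toMonoidHom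
      let K : Subgroup Z := φ'.ker.map U'.subtype
      have hK : ∀ z : Z, z ∈ K ↔ ∃ h : (z : N) ∈ U, φ ⟨z, h⟩ = 1 := fun z => by
        constructor
        · rintro ⟨y, hy, rfl⟩; exact ⟨y.2, hy⟩
        · rintro ⟨h, h1⟩; exact ⟨⟨z, h⟩, h1, rfl⟩
      have hKn : K.Normal := ⟨fun z hz g => by
        obtain ⟨h, h1⟩ := (hK z).mp hz
        rw [show g * z * g⁻¹ = z from Subtype.ext (by
          change (g : N) * (z : N) * (g : N)⁻¹ = z
          rw [hc g (hZL g.2) z h, mul_inv_cancel_right])]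
        exact hz⟩
      have habK : ∀ a b : Z ⧸ K, a * b = b * a := fun a b => by
        induction a using QuotientGroup.induction_on with
        | H a => induction b using QuotientGroup.induction_on with
          | H b =>
            rw [← QuotientGroup.mk_mul, ← QuotientGroup.mk_mul, QuotientGroup.eq, hK]
            have hd := S.derived (b : N)⁻¹ (L.inv_mem (hZL b.2)) (a : N)⁻¹ (L.inv_mem (hZL a.2))
            refine ⟨?_, ?_⟩
            · rw [show (((a * b)⁻¹ * (b * a) : Z) : N)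
                = (b : N)⁻¹ * (a : N)⁻¹ * (b : N)⁻¹⁻¹ * (a : N)⁻¹⁻¹ by simp [mul_assoc]]
              exact hd
            · refine Eq.trans (congrArg φ (Subtype.ext ?_)) ((Z.inv_mem b.2).2 _ (L.inv_mem (hZL a.2)) hd)
              simp [mul_assoc]
      let i : U' →* Z ⧸ K := (QuotientGroup.mk' K).comp U'.subtype
      have hi : i.rangeRestrict.ker ≤ φ'.ker := fun u hu => by
        rw [MonoidHom.ker_rangeRestrict, MonoidHom.mem_ker] at hu
        obtain ⟨h, h1⟩ := (hK (u : Z)).mp ((QuotientGroup.eq_one_iff (u : Z)).mp hu)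
        exact h1
      obtain ⟨Φ, hΦ⟩ := exists_hom_extend habK i.range
        (i.rangeRestrict.liftOfSurjective i.rangeRestrict_surjective ⟨φ', hi⟩)
      let ν : Z →* ℂˣ := Φ.comp (QuotientGroup.mk' K)
      have hνU : ∀ u : N, ∀ hu : u ∈ U, ν ⟨u, hUZ hu⟩ = φ ⟨u, hu⟩ := fun u hu => by
        refine (hΦ (i.rangeRestrict ⟨⟨u, hUZ hu⟩, hu⟩)).trans ?_
        exact MonoidHom.liftOfRightInverse_comp_apply _ _ _ ⟨φ', hi⟩ _
      have hZU'ab : ∀ a b : Z ⧸ U', a * b = b * a := fun a b => by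
        induction a using QuotientGroup.induction_on with
        | H a => induction b using QuotientGroup.induction_on with
          | H b =>
            rw [← QuotientGroup.mk_mul, ← QuotientGroup.mk_mul, QuotientGroup.eq]
            change (((a * b)⁻¹ * (b * a) : Z) : N) ∈ U
            rw [show (((a * b)⁻¹ * (b * a) : Z) : N)
                = (b : N)⁻¹ * (a : N)⁻¹ * (b : N)⁻¹⁻¹ * (a : N)⁻¹⁻¹ by simp [mul_assoc]]
            exact S.derived _ (L.inv_mem (hZL b.2)) _ (L.inv_mem (hZL a.2))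
      have hstab : ∀ b ∈ CU, ∀ z ∈ Z, b * z * b⁻¹ ∈ Z := fun b hb z hz => by
        refine ⟨hLn.conj_mem z (hZL hz) b, fun v hv h => ?_⟩
        have hv' : b⁻¹ * v * b ∈ L := by simpa using hLn.conj_mem v hv b⁻¹
        have hm := S.derived z (hZL hz) _ hv'
        refine Eq.trans (congrArg φ (Subtype.ext ?_)) (hz.2 _ hv' hm)
        change b * z * b⁻¹ * v * (b * z * b⁻¹)⁻¹ * v⁻¹ = z * (b⁻¹ * v * b) * z⁻¹ * (b⁻¹ * v * b)⁻¹
        calc b * z * b⁻¹ * v * (b * z * b⁻¹)⁻¹ * v⁻¹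
            = b * (z * (b⁻¹ * v * b) * z⁻¹ * (b⁻¹ * v * b)⁻¹) * b⁻¹ := by group
          _ = _ := by rw [((hCUmem b).mp hb).2 _ hm, mul_inv_cancel_right]
      -- at most one extension is fixed
      have hone : ∀ b, ∀ hb : b ∈ CU, b ∉ C → ∀ ν1 ν2 : Z →* ℂˣ,
          (∀ u : N, ∀ hu : u ∈ U, ν1 ⟨u, hUZ hu⟩ = φ ⟨u, hu⟩) →
          (∀ u : N, ∀ hu : u ∈ U, ν2 ⟨u, hUZ hu⟩ = φ ⟨u, hu⟩) →
          (∀ z : Z, ν1 ⟨b * z * b⁻¹, hstab b hb z z.2⟩ = ν1 z) →
          (∀ z : Z, ν2 ⟨b * z * b⁻¹, hstab b hb z z.2⟩ = ν2 z) → ν1 = ν2 := by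
        intro b hb hbC ν1 ν2 e1 e2 f1 f2
        let _ : CommGroup (Z ⧸ U') := { mul_comm := hZU'ab }
        let cb : Z →* Z := MonoidHom.mk' (fun z => ⟨b * z * b⁻¹, hstab b hb z z.2⟩)
          fun x y => Subtype.ext (by
            change b * ((x : N) * y) * b⁻¹ = b * x * b⁻¹ * (b * y * b⁻¹)
            group)
        let f : Z →* Z ⧸ U' := MonoidHom.mk'
          (fun z => QuotientGroup.mk' U' (cb z) * (QuotientGroup.mk' U' z)⁻¹)
          fun x y => by rw [map_mul, map_mul, map_mul, mul_inv, mul_mul_mul_comm]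
        have hfapp : ∀ z, f z = QuotientGroup.mk' U' (cb z * z⁻¹) := fun z => by
          rw [map_mul, map_inv]; rfl
        have hUk : U' ≤ f.ker := fun u hu => by
          rw [MonoidHom.mem_ker, hfapp]
          refine (QuotientGroup.eq_one_iff _).mpr ?_
          change b * (u : N) * b⁻¹ * (u : N)⁻¹ ∈ U
          exact U.mul_mem (hU.conj_mem _ hu b) (U.inv_mem hu)
        have hinj : Function.Injective (QuotientGroup.lift U' f hUk) := by
          rw [← MonoidHom.ker_eq_bot_iff, Subgroup.eq_bot_iff_forall]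
          intro x hx
          induction x using QuotientGroup.induction_on with
          | H z =>
            rw [QuotientGroup.eq_one_iff]
            by_contra hzU
            refine hbC (D.semi b ((hCUmem b).mp hb).1 z (hZL z.2) hzU ?_)
            have hx' : f z = 1 := hx
            rw [hfapp] at hx'
            exact (QuotientGroup.eq_one_iff (cb z * z⁻¹)).mp hx'
        refine MonoidHom.ext fun z => ?_
        obtain ⟨x, hx⟩ := Finite.injective_iff_surjective.mp hinj (QuotientGroup.mk' U' z)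
        induction x using QuotientGroup.induction_on with
        | H y =>
          have hx' : QuotientGroup.mk' U' (cb y * y⁻¹) = QuotientGroup.mk' U' z := hfapp y ▸ hx
          obtain ⟨uu, huu, hzeq⟩ : ∃ uu : Z, (uu : N) ∈ U ∧ z = cb y * y⁻¹ * uu :=
            ⟨(cb y * y⁻¹)⁻¹ * z, (QuotientGroup.eq (s := U') (a := cb y * y⁻¹) (b := z)).mp hx',
              (mul_inv_cancel_left _ _).symm⟩
          rw [hzeq, map_mul, map_mul, map_mul, map_mul, map_inv, map_inv]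
          change ν1 ⟨b * y * b⁻¹, hstab b hb y y.2⟩ * _ * ν1 ⟨(uu : N), hUZ huu⟩
            = ν2 ⟨b * y * b⁻¹, hstab b hb y y.2⟩ * _ * ν2 ⟨(uu : N), hUZ huu⟩
          rw [f1, f2, mul_inv_cancel, mul_inv_cancel, e1 _ huu, e2 _ huu]
      -- choose an unfixed extension
      obtain ⟨μ, hμ⟩ := exists_hom_ne_one (A := Z ⧸ U') hZU'ab
        (a := QuotientGroup.mk' U' ⟨w, hwZ⟩) (fun h => hwU ((QuotientGroup.eq_one_iff (⟨w, hwZ⟩ : Z)).mp h))
      let ν' : Z →* ℂˣ := ν * μ.comp (QuotientGroup.mk' U')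
      have hν'U : ∀ u : N, ∀ hu : u ∈ U, ν' ⟨u, hUZ hu⟩ = φ ⟨u, hu⟩ := fun u hu => by
        change ν ⟨u, hUZ hu⟩ * μ (QuotientGroup.mk' U' ⟨u, hUZ hu⟩) = _
        rw [show QuotientGroup.mk' U' (⟨u, hUZ hu⟩ : Z) = 1 from (QuotientGroup.eq_one_iff _).mpr hu,
          map_one, mul_one, hνU u hu]
      have hne : ν ≠ ν' := fun h => hμ (by
        have := DFunLike.congr_fun h ⟨w, hwZ⟩
        exact left_eq_mul.mp this)
      have hgood : ∃ ν0 : Z →* ℂˣ, (∀ u : N, ∀ hu : u ∈ U, ν0 ⟨u, hUZ hu⟩ = φ ⟨u, hu⟩) ∧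
          ∀ b, ∀ hb : b ∈ CU, (∀ z : Z, ν0 ⟨b * z * b⁻¹, hstab b hb z z.2⟩ = ν0 z) → b ∈ C := by
        by_contra hbad
        push Not at hbad
        obtain ⟨b, hb, f1, hbC⟩ := hbad ν hνU
        obtain ⟨b', hb', f1', hbC'⟩ := hbad ν' hν'U
        apply hne
        let cb' : Z →* Z := MonoidHom.mk' (fun z => ⟨b' * z * b'⁻¹, hstab b' hb' z z.2⟩)
          fun x y => Subtype.ext (by
            change b' * ((x : N) * y) * b'⁻¹ = b' * x * b'⁻¹ * (b' * y * b'⁻¹)
            group)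
        have hfix : ν.comp cb' = ν := by
          refine hone b hb hbC _ ν (fun u hu => ?_) hνU (fun z => ?_) f1
          · rw [← hνU u hu]
            refine congrArg ν (Subtype.ext ?_)
            change b' * u * b'⁻¹ = u
            rw [((hCUmem b').mp hb').2 u hu, mul_inv_cancel_right]
          · refine Eq.trans ?_ (f1 (cb' z))
            refine congrArg ν (Subtype.ext ?_)
            change b' * (b * z * b⁻¹) * b'⁻¹ = b * (b' * z * b'⁻¹) * b⁻¹
            have e := F.comm b' ((hCUmem b').mp hb').1 b ((hCUmem b).mp hb).1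
            calc b' * (b * z * b⁻¹) * b'⁻¹ = (b' * b) * z * (b' * b)⁻¹ := by group
              _ = _ := by rw [e]; group
        exact hone b' hb' hbC' ν ν' hνU hν'U (fun z => DFunLike.congr_fun hfix z) f1'
      obtain ⟨ν0, h0U, h0⟩ := hgood
      obtain ⟨v1, hv1, w1, hw1, hm1, hne1⟩ := hchar φ hφ
      obtain ⟨θ, hθ, d, hd1, hd, hval⟩ := S.exists_theta Z hUZ hZL ν0
        (fun v hv z h => by
          have hd' := S.derived (z : N) (hZL z.2) v hv
          have e : (⟨v * z * v⁻¹, h⟩ : Z) = (⟨_, hUZ hd'⟩ : Z)⁻¹ * z := Subtype.ext (by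
            change v * (z : N) * v⁻¹ = ((z : N) * v * (z : N)⁻¹ * v⁻¹)⁻¹ * z
            group)
          rw [e, map_mul, map_inv, h0U _ hd', z.2.2 v hv, inv_one, one_mul])
        ⟨v1, hv1, w1, hw1, hUZ hm1, fun h => hne1 ((h0U _ hm1).symm.trans h)⟩
      refine S.absurd_of_irr hθ hd hd1 fun b hb hbT => ?_
      have hbU : ∀ u ∈ U, b * u = u * b := by
        by_contra hnc
        obtain ⟨u, hu⟩ := S.exists_char_ne hc hb hnc φ hφ
        apply hu
        have h1 := (mem_inertia.mp hbT) ⟨u, S.lt.le u.2⟩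
        rw [hval ⟨u, hUZ u.2⟩, hval ⟨b * u * b⁻¹, hUZ (hU.conj_mem u u.2 b)⟩, h0U _ u.2,
          h0U _ (hU.conj_mem u u.2 b)] at h1
        exact Units.ext (mul_left_cancel₀ (Nat.cast_ne_zero.mpr (by omega)) h1)
      have hbCU := (hCUmem b).mpr ⟨hb, hbU⟩
      refine h0 b hbCU fun z => ?_
      have h1 := (mem_inertia.mp hbT) ⟨z, hZL z.2⟩
      rw [hval z, hval ⟨b * z * b⁻¹, hstab b hbCU z z.2⟩] at h1
      exact Units.ext (mul_left_cancel₀ (Nat.cast_ne_zero.mpr (by omega)) h1)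
    -- counting
    obtain ⟨v0, hv0, hv0U⟩ := SetLike.exists_of_lt S.lt
    set U' := U.subgroupOf L
    have hLU : ∀ a b : L ⧸ U', a * b = b * a := fun a b => by
      induction a using QuotientGroup.induction_on with
      | H a => induction b using QuotientGroup.induction_on with
        | H b =>
          rw [← QuotientGroup.mk_mul, ← QuotientGroup.mk_mul, QuotientGroup.eq]
          change (((a * b)⁻¹ * (b * a) : L) : N) ∈ U
          rw [show (((a * b)⁻¹ * (b * a) : L) : N)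
              = (b : N)⁻¹ * (a : N)⁻¹ * (b : N)⁻¹⁻¹ * (a : N)⁻¹⁻¹ by simp [mul_assoc]]
          exact S.derived _ (L.inv_mem b.2) _ (L.inv_mem a.2)
    let cw : L →* U := MonoidHom.mk' (fun v => ⟨v0 * v * v0⁻¹ * (v : N)⁻¹, S.derived v0 hv0 v v.2⟩)
      fun x y => Subtype.ext (comm_mul_right (hcm v0 hv0 y y.2 x x.2))
    have hcwU : U' ≤ cw.ker := fun u hu => Subtype.ext (by
      change v0 * (u : N) * v0⁻¹ * (u : N)⁻¹ = 1
      rw [hc v0 hv0 u hu, mul_inv_cancel_right, mul_inv_cancel])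
    let Ψ : (U →* ℂˣ) →* (L ⧸ U' →* ℂˣ) :=
      MonoidHom.compHom' (QuotientGroup.lift U' cw hcwU)
    have hΨinj : Function.Injective Ψ := by
      rw [← MonoidHom.ker_eq_bot_iff, Subgroup.eq_bot_iff_forall]
      intro φ hφ
      by_contra h1
      obtain ⟨v, hv, hne⟩ := hrad φ h1 v0 hv0 hv0U
      exact hne (DFunLike.congr_fun hφ ((⟨v, hv⟩ : L) : L ⧸ U'))
    obtain ⟨μ, hμ⟩ := exists_hom_ne_one hLU (a := ((⟨v0, hv0⟩ : L) : L ⧸ U'))
      (fun h => hv0U ((QuotientGroup.eq_one_iff (⟨v0, hv0⟩ : L)).mp h))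
    have hnsurj : ¬ Function.Surjective Ψ := fun hs => by
      obtain ⟨φ, hφ⟩ := hs μ
      apply hμ
      rw [← hφ]
      change φ (cw ⟨v0, hv0⟩) = 1
      rw [show cw ⟨v0, hv0⟩ = 1 from Subtype.ext (by
        change v0 * v0 * v0⁻¹ * v0⁻¹ = 1
        group), map_one]
    have hUabs : ∀ a b : U, a * b = b * a := fun a b => Subtype.ext (hUab a a.2 b b.2)
    have : Finite (U →* ℂˣ) := Nat.finite_of_card_ne_zero (by rw [card_hom_eq hUabs]; exact Nat.card_pos.ne')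
    have : Finite (L ⧸ U' →* ℂˣ) := Nat.finite_of_card_ne_zero (by rw [card_hom_eq hLU]; exact Nat.card_pos.ne')
    have hlt : Nat.card U < U.relIndex L := by
      rw [← card_hom_eq hUabs, show U.relIndex L = Nat.card (L ⧸ U') from rfl, ← card_hom_eq hLU]
      refine lt_of_le_of_ne (Nat.card_le_card_of_injective Ψ hΨinj) fun h => hnsurj ?_
      exact ((Nat.bijective_iff_injective_and_card Ψ).mpr ⟨hΨinj, h⟩).2
    -- p-groups
    obtain ⟨p, hp, hpU⟩ := D.prime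
    have := Fact.mk hp
    have hUp : ∀ u ∈ U, u ^ p = 1 := by
      refine hgenU _ (one_pow p) (fun x hx y hy h1 h2 => ?_) (fun x _ h1 => by rw [inv_pow, h1, inv_one])
        fun v hv w hw => ?_
      · rw [(show Commute x y from hUab x hx y hy).mul_pow, h1, h2, one_mul]
      · have hpow : ∀ n : ℕ, v ^ n * w * (v ^ n)⁻¹ * w⁻¹ = (v * w * v⁻¹ * w⁻¹) ^ n := by
          intro n
          induction n with
          | zero => simp
          | succ n ih =>
            rw [pow_succ', comm_mul_left (hcm (v ^ n) (L.pow_mem hv n) w hw v hv), ih, ← pow_succ]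
        rw [← hpow p, ← hc w hw _ (hpU v hv), mul_inv_cancel_right, mul_inv_cancel]
    obtain ⟨u, hu⟩ := IsPGroup.exists_card_eq (G := U) (p := p)
      (fun x => ⟨1, Subtype.ext (by rw [pow_one]; exact hUp x x.2)⟩)
    obtain ⟨s, hs⟩ := IsPGroup.exists_card_eq (G := L ⧸ U') (p := p) (fun x => by
      induction x using QuotientGroup.induction_on with
      | H x => exact ⟨1, by rw [pow_one, ← QuotientGroup.mk_pow]; exact (QuotientGroup.eq_one_iff _).mpr (hpU x x.2)⟩)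
    obtain ⟨Z, hCZ, hZB, hZc, hZf, -⟩ := D.large
    -- the action on `U`
    let _ : CommGroup U := { mul_comm := hUabs }
    let _ : CommGroup B := { mul_comm := fun a b => Subtype.ext (F.comm a a.2 b b.2) }
    let ρ : B →* MulAut U := (MulAut.conjNormal : N →* MulAut U).comp B.subtype
    have hρapp : ∀ (b : B) (w : U), ((ρ b w : U) : N) = b * w * (b : N)⁻¹ := fun b w =>
      MulAut.conjNormal_apply (b : N) w
    have hρ1 : ∀ b : B, ρ b = 1 ↔ (b : N) ∈ CU := fun b => by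
      rw [hCUmem]
      refine ⟨fun h => ⟨b.2, fun w hw => ?_⟩, fun h => MulEquiv.ext fun w => Subtype.ext ?_⟩
      · have e : ((ρ b ⟨w, hw⟩ : U) : N) = w := by rw [h]; rfl
        rwa [hρapp, mul_inv_eq_iff_eq_mul] at e
      · rw [hρapp, MulAut.one_apply, h.2 w w.2, mul_inv_cancel_right]
    have hi : OpIrr ρ := fun Y hY => by
      have hn : (Y.map U.subtype).Normal := ⟨fun y hy g => by
        obtain ⟨y, hy', rfl⟩ := hy
        obtain ⟨v, hv, b, hb, rfl⟩ := F.exists_mul g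
        refine ⟨ρ ⟨b, hb⟩ y, hY _ _ hy', ?_⟩
        change ((ρ ⟨b, hb⟩ y : U) : N) = v * b * (y : N) * (v * b)⁻¹
        rw [hρapp]
        calc b * (y : N) * b⁻¹ = v * (b * (y : N) * b⁻¹) * v⁻¹ := by
              rw [hc v hv _ (hU.conj_mem y y.2 b), mul_inv_cancel_right]
          _ = _ := by group⟩
      rcases S.minimal _ hn (Subgroup.map_subtype_le Y) with h | h
      · exact Or.inl ((Subgroup.map_eq_bot_iff_of_injective _ U.subtype_injective).mp h)
      · refine Or.inr ((Subgroup.eq_top_iff' Y).mpr fun v => ?_)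
        obtain ⟨y, hy, he⟩ := (h.symm ▸ v.2 : (v : N) ∈ Y.map U.subtype)
        exact U.subtype_injective he ▸ hy
    have hk1 : C.relIndex Z ∣ Nat.card U - 1 := by
      have hZCU : CU ⊓ Z = C := by
        refine le_antisymm (fun z hz => ?_) (le_inf hCCU hCZ)
        refine hZf z hz.2 ?_
        have hz1 := (hCUmem z).mp hz.1
        have : α z = z := by
          by_contra hne
          exact S.not_centralizes_of_moved hz1.1 hne hz1.2
        rw [this, mul_inv_cancel]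
        exact C.one_mem
      have hker : ρ.ker = CU.subgroupOf B :=
        Subgroup.ext fun b => by rw [MonoidHom.mem_ker, hρ1, Subgroup.mem_subgroupOf]
      rw [← hZCU, Subgroup.inf_relIndex_right, ← Subgroup.relIndex_subgroupOf hZB, ← hker,
        Subgroup.relIndex_ker, ← opIrr_card_centralizer hi (w0 := ⟨u0, hu0⟩)
          (fun h => hu01 (congrArg Subtype.val h)), Nat.add_sub_cancel]
      refine Subgroup.card_dvd_of_le ?_
      rintro _ ⟨b, -, rfl⟩
      exact rho_mem_centralizer ρ b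
    have hk2 : C.relIndex Z ∣ U.relIndex L - 1 :=
      (Dvd.intro _ (Subgroup.relIndex_mul_relIndex C Z B hCZ hZB)).trans D.dvd_card
    have hsL : U.relIndex L = p ^ s := hs
    rw [hu] at hk1 hlt
    rw [hsL] at hk2 hlt
    have hZc' : p ^ s < C.relIndex Z * C.relIndex Z := by rw [← hsL]; exact hZc
    have hk := Nat.dvd_gcd hk1 hk2
    rw [Nat.pow_sub_one_gcd_pow_sub_one] at hk
    set g := Nat.gcd u s with hg
    have hus : u < s := (Nat.pow_lt_pow_iff_right hp.one_lt).mp hlt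
    have hu0' : 0 < u := by
      by_contra h
      have : u = 0 := by omega
      rw [this, pow_zero, Nat.card_eq_one_iff_unique] at hu
      exact hu01 (congrArg Subtype.val (hu.1.elim (⟨u0, hu0⟩ : U) 1))
    have hg0 : 0 < g := Nat.gcd_pos_of_pos_left s hu0'
    have hgs : 2 * g ≤ s := by
      obtain ⟨t, ht⟩ := Nat.gcd_dvd_right u s
      have hgu : g ≤ u := Nat.le_of_dvd hu0' (Nat.gcd_dvd_left u s)
      rw [← hg] at ht
      rcases t with _ | _ | t
      · omega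
      · omega
      · rw [ht]; nlinarith
    have h1g : 1 < p ^ g := Nat.one_lt_pow hg0.ne' hp.one_lt
    have hle := Nat.le_of_dvd (by omega) hk
    have h2g : p ^ g * p ^ g ≤ p ^ s := by
      rw [← pow_add]; exact Nat.pow_le_pow_right hp.pos (by omega)
    have : C.relIndex Z * C.relIndex Z ≤ p ^ g * p ^ g := Nat.mul_le_mul (by omega) (by omega)
    omega

end Cfsg.Agent.LAE65.NonDiv
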