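import Mathlib

/-!
An irreducible abelian operator group all of whose orbits are stable under a further automorphism
moving it: the automorphism behaves like a field automorphism, so the orbits are long.
-/

set_option autoImplicit false
set_option linter.unusedSectionVars false

namespace Cfsg.Agent.LAE65.NonDiv

variable {W B : Type*} [CommGroup W] [Finite W] [CommGroup B]

/-- The only invariant subgroups are trivial. -/
def OpIrr (ρ : B →* MulAut W) : Prop :=
  ∀ Y : Subgroup W, (∀ b, ∀ v ∈ Y, ρ b v ∈ Y) → Y = ⊥ ∨ Y = ⊤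

/-- An operator fixing a nontrivial point is trivial. -/
theorem opIrr_semiregular {ρ : B →* MulAut W} (hi : OpIrr ρ) {b : B} {v : W} (hv : v ≠ 1)
    (h : ρ b v = v) : ρ b = 1 := by
  rcases hi (MonoidHom.eqLocus (ρ b).toMonoidHom (MonoidHom.id W)) (fun c w hw => by
    have hw' : ρ b w = w := hw
    change ρ b (ρ c w) = ρ c w
    rw [← MulAut.mul_apply, ← map_mul, mul_comm, map_mul, MulAut.mul_apply, hw']) with h0 | h0
  · exact absurd (Subgroup.mem_bot.mp (h0 ▸ (show v ∈ MonoidHom.eqLocus (ρ b).toMonoidHom (MonoidHom.id W) from h))) hv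
  · refine MulEquiv.ext fun w => ?_
    exact (h0.symm ▸ Subgroup.mem_top w : w ∈ MonoidHom.eqLocus (ρ b).toMonoidHom (MonoidHom.id W))

theorem opIrr_exists_prime [Nontrivial W] {ρ : B →* MulAut W} (hi : OpIrr ρ) :
    ∃ p : ℕ, p.Prime ∧ ∀ w : W, w ^ p = 1 := by
  obtain ⟨p, hp, hd⟩ := Nat.exists_prime_and_dvd (Finite.one_lt_card (α := W)).ne'
  have := Fact.mk hp
  obtain ⟨x, hx⟩ := exists_prime_orderOf_dvd_card' p hd
  refine ⟨p, hp, fun w => ?_⟩
  rcases hi (powMonoidHom p).ker (fun b v hv => by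
    have hv' : v ^ p = 1 := hv
    change (ρ b v) ^ p = 1
    rw [← map_pow, hv', map_one]) with h0 | h0
  · have hx1 : x ∈ (powMonoidHom p).ker := by
      change x ^ p = 1
      rw [← hx, pow_orderOf_eq_one]
    rw [h0, Subgroup.mem_bot] at hx1
    exact absurd (hx.symm.trans (hx1.symm ▸ orderOf_one)) hp.ne_one
  · exact (h0.symm ▸ Subgroup.mem_top w : w ∈ (powMonoidHom p).ker)

/-- Two endomorphisms commuting with the operators and agreeing at a nontrivial point are equal. -/
theorem opIrr_hom_ext {ρ : B →* MulAut W} (hi : OpIrr ρ) {w0 : W} (hw0 : w0 ≠ 1) {f g : W →* W}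
    (hf : ∀ b v, f (ρ b v) = ρ b (f v)) (hg : ∀ b v, g (ρ b v) = ρ b (g v)) (h : f w0 = g w0) :
    f = g := by
  rcases hi (MonoidHom.eqLocus f g) (fun b v hv => by
    have hv' : f v = g v := hv
    change f (ρ b v) = g (ρ b v)
    rw [hf, hg, hv']) with h0 | h0
  · exact absurd (Subgroup.mem_bot.mp (h0 ▸ (show w0 ∈ MonoidHom.eqLocus f g from h))) hw0
  · exact MonoidHom.ext fun v => (h0.symm ▸ Subgroup.mem_top v : v ∈ MonoidHom.eqLocus f g)

theorem mem_centralizer_range {ρ : B →* MulAut W} {e : MulAut W}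
    (h : e ∈ Subgroup.centralizer (Set.range ρ)) (b : B) (v : W) : e (ρ b v) = ρ b (e v) := by
  have := Subgroup.mem_centralizer_iff.mp h (ρ b) ⟨b, rfl⟩
  exact (DFunLike.congr_fun this v).symm

theorem opIrr_exists_map {ρ : B →* MulAut W} (hi : OpIrr ρ) {w0 : W} (hw0 : w0 ≠ 1) (v : W) :
    ∃ g : W →* W, (∀ b u, g (ρ b u) = ρ b (g u)) ∧
      (∀ f : W →* W, (∀ b u, f (ρ b u) = ρ b (f u)) → f.comp g = g.comp f) ∧ g w0 = v := by
  let S : Subgroup W :=
    { carrier := {v | ∃ g : W →* W, (∀ b u, g (ρ b u) = ρ b (g u)) ∧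
        (∀ f : W →* W, (∀ b u, f (ρ b u) = ρ b (f u)) → f.comp g = g.comp f) ∧ g w0 = v}
      one_mem' := ⟨1, fun b u => by simp, fun f _ => MonoidHom.ext fun u => by simp, rfl⟩
      mul_mem' := fun {x y} ⟨g, g1, g2, g3⟩ ⟨k, k1, k2, k3⟩ => ⟨g * k,
        fun b u => by simp [g1, k1],
        fun f hf => MonoidHom.ext fun u => by
          have e1 := DFunLike.congr_fun (g2 f hf) u
          have e2 := DFunLike.congr_fun (k2 f hf) u
          simp only [MonoidHom.comp_apply, MonoidHom.mul_apply, map_mul] at e1 e2 ⊢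
          rw [e1, e2],
        by rw [MonoidHom.mul_apply, g3, k3]⟩
      inv_mem' := fun {x} ⟨g, g1, g2, g3⟩ => ⟨g⁻¹,
        fun b u => by simp [g1],
        fun f hf => MonoidHom.ext fun u => by
          have e1 := DFunLike.congr_fun (g2 f hf) u
          simp only [MonoidHom.comp_apply, MonoidHom.inv_apply, map_inv] at e1 ⊢
          rw [e1],
        by rw [MonoidHom.inv_apply, g3]⟩ }
  rcases hi S (fun c x ⟨g, g1, g2, g3⟩ => ⟨(ρ c).toMonoidHom.comp g,
      fun b u => by
        change ρ c (g (ρ b u)) = ρ b (ρ c (g u))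
        rw [g1, ← MulAut.mul_apply, ← map_mul, mul_comm, map_mul, MulAut.mul_apply],
      fun f hf => MonoidHom.ext fun u => by
        change f (ρ c (g u)) = ρ c (g (f u))
        have e1 := DFunLike.congr_fun (g2 f hf) u
        simp only [MonoidHom.comp_apply] at e1
        rw [hf, e1],
      by change ρ c (g w0) = ρ c x; rw [g3]⟩) with h0 | h0
  · have : w0 ∈ S := ⟨MonoidHom.id W, fun _ _ => rfl, fun f _ => rfl, rfl⟩
    rw [h0, Subgroup.mem_bot] at this
    exact absurd this hw0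
  · exact (h0.symm ▸ Subgroup.mem_top v : v ∈ S)

theorem opIrr_regular {ρ : B →* MulAut W} (hi : OpIrr ρ) {w0 v : W} (hw0 : w0 ≠ 1) (hv : v ≠ 1) :
    ∃ e ∈ Subgroup.centralizer (Set.range ρ), e w0 = v := by
  obtain ⟨g, g1, -, g3⟩ := opIrr_exists_map hi hw0 v
  have hinj : Function.Injective g := by
    rw [← MonoidHom.ker_eq_bot_iff]
    refine (hi g.ker fun b u hu => ?_).resolve_right fun h => hv ?_
    · have hu' : g u = 1 := hu
      change g (ρ b u) = 1
      rw [g1, hu', map_one]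
    · rw [← g3]
      exact (h.symm ▸ Subgroup.mem_top w0 : w0 ∈ g.ker)
  refine ⟨MulEquiv.ofBijective g ⟨hinj, Finite.injective_iff_surjective.mp hinj⟩,
    Subgroup.mem_centralizer_iff.mpr ?_, g3⟩
  rintro _ ⟨b, rfl⟩
  exact MulEquiv.ext fun u => (g1 b u).symm

theorem opIrr_aut_ext {ρ : B →* MulAut W} (hi : OpIrr ρ) {w0 : W} (hw0 : w0 ≠ 1) {e e' : MulAut W}
    (he : e ∈ Subgroup.centralizer (Set.range ρ)) (he' : e' ∈ Subgroup.centralizer (Set.range ρ))
    (h : e w0 = e' w0) : e = e' :=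
  MulEquiv.ext fun v => DFunLike.congr_fun (opIrr_hom_ext hi hw0 (f := e.toMonoidHom)
    (g := e'.toMonoidHom) (mem_centralizer_range he) (mem_centralizer_range he') h) v

theorem opIrr_commute {ρ : B →* MulAut W} (hi : OpIrr ρ) {w0 : W} (hw0 : w0 ≠ 1) {e e' : MulAut W}
    (he : e ∈ Subgroup.centralizer (Set.range ρ)) (he' : e' ∈ Subgroup.centralizer (Set.range ρ)) :
    e * e' = e' * e := by
  obtain ⟨g, g1, g2, g3⟩ := opIrr_exists_map hi hw0 (e w0)
  have hg : e.toMonoidHom = g := opIrr_hom_ext hi hw0 (mem_centralizer_range he) g1 g3.symm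
  have := g2 e'.toMonoidHom (mem_centralizer_range he')
  rw [← hg] at this
  exact MulEquiv.ext fun u => (DFunLike.congr_fun this u).symm

theorem rho_mem_centralizer (ρ : B →* MulAut W) (b : B) : ρ b ∈ Subgroup.centralizer (Set.range ρ) := by
  refine Subgroup.mem_centralizer_iff.mpr ?_
  rintro _ ⟨c, rfl⟩
  rw [← map_mul, ← map_mul, mul_comm]

theorem opIrr_card_centralizer {ρ : B →* MulAut W} (hi : OpIrr ρ) {w0 : W} (hw0 : w0 ≠ 1) :
    Nat.card (Subgroup.centralizer (Set.range ρ)) + 1 = Nat.card W := by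
  classical
  let φ : Option (Subgroup.centralizer (Set.range ρ)) → W := fun o =>
    o.elim 1 (fun e => (e : MulAut W) w0)
  have hφ : Function.Bijective φ := by
    constructor
    · rintro (_ | e) (_ | f) h
      · rfl
      · exact absurd ((MulEquiv.map_eq_one_iff (f : MulAut W)).mp h.symm) hw0
      · exact absurd ((MulEquiv.map_eq_one_iff (e : MulAut W)).mp h) hw0
      · exact congrArg some (Subtype.ext (opIrr_aut_ext hi hw0 e.2 f.2 h))
    · intro v
      by_cases hv : v = 1
      · exact ⟨none, hv.symm⟩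
      · obtain ⟨e, he, hev⟩ := opIrr_regular hi hw0 hv
        exact ⟨some ⟨e, he⟩, hev⟩
  rw [← Nat.card_congr (Equiv.ofBijective φ hφ), Finite.card_option]

/-- The orbit-stable automorphism has a large commutator with the operator group. -/
theorem exists_large_subgroup (ρ : B →* MulAut W) (hi : OpIrr ρ) (a : B ≃* B) (β : MulAut W) {w0 : W}
    (hw0 : w0 ≠ 1) (hβw : β w0 = w0) (hβ : ∀ b, β * ρ b * β⁻¹ = ρ (a b))
    {l : ℕ} (hl : l.Prime) (hβl : β ^ l ∈ Subgroup.centralizer (Set.range ρ))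
    (hld : ¬ l ∣ Nat.card ρ.range) (horb : ∀ v, ∃ b, β v = ρ b v) (hmov : ∃ b, ρ (a b) ≠ ρ b) :
    ∃ Z : Subgroup (MulAut W), Z ≤ ρ.range ∧ Nat.card W < Nat.card Z * Nat.card Z ∧
      (∀ z ∈ Z, β * z * β⁻¹ = z → z = 1) ∧ ∀ z ∈ Z, z * z = 1 → z = 1 := by
  classical
  set Γ := Subgroup.centralizer (Set.range ρ) with hΓdef
  have hconj : ∀ e ∈ Γ, β * e * β⁻¹ ∈ Γ := fun e he => by
    refine Subgroup.mem_centralizer_iff.mpr ?_
    rintro _ ⟨b, rfl⟩
    have h1 := Subgroup.mem_centralizer_iff.mp he (ρ (a.symm b)) ⟨_, rfl⟩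
    have h2 : ρ b = β * ρ (a.symm b) * β⁻¹ := by rw [hβ, a.apply_symm_apply]
    rw [h2]
    calc β * ρ (a.symm b) * β⁻¹ * (β * e * β⁻¹) = β * (ρ (a.symm b) * e) * β⁻¹ := by group
      _ = β * (e * ρ (a.symm b)) * β⁻¹ := by rw [h1]
      _ = _ := by group
  have hconjw : ∀ e : MulAut W, (β * e * β⁻¹) w0 = β (e w0) := fun e => by
    rw [MulAut.mul_apply, MulAut.mul_apply]
    congr 2
    rw [MulAut.inv_apply, MulEquiv.symm_apply_eq, hβw]
  let τ : Γ →* Γ :=
    { toFun := fun e => ⟨β * e * β⁻¹ * (e : MulAut W)⁻¹, Γ.mul_mem (hconj e e.2) (Γ.inv_mem e.2)⟩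
      map_one' := Subtype.ext (by simp)
      map_mul' := fun e f => Subtype.ext (by
        have h1 := opIrr_commute hi hw0 (hconj f f.2) (Γ.inv_mem e.2)
        simp only [Subgroup.coe_mul, mul_inv_rev]
        calc β * ((e : MulAut W) * f) * β⁻¹ * ((f : MulAut W)⁻¹ * (e : MulAut W)⁻¹)
            = β * e * β⁻¹ * ((β * f * β⁻¹ * (f : MulAut W)⁻¹) * (e : MulAut W)⁻¹) := by group
          _ = β * e * β⁻¹ * ((e : MulAut W)⁻¹ * (β * f * β⁻¹ * (f : MulAut W)⁻¹)) := by
              rw [opIrr_commute hi hw0 (Γ.mul_mem (hconj f f.2) (Γ.inv_mem f.2)) (Γ.inv_mem e.2)]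
          _ = _ := by group) }
  have hτ : ∀ e : Γ, (τ e : MulAut W) = β * e * β⁻¹ * (e : MulAut W)⁻¹ := fun _ => rfl
  have hZρ : τ.range.map Γ.subtype ≤ ρ.range := by
    rintro _ ⟨_, ⟨e, rfl⟩, rfl⟩
    change (τ e : MulAut W) ∈ ρ.range
    obtain ⟨b, hb⟩ := horb ((e : MulAut W) w0)
    refine ⟨b, ?_⟩
    have h1 : ρ b * e = β * e * β⁻¹ := by
      refine opIrr_aut_ext hi hw0 (Γ.mul_mem (rho_mem_centralizer ρ b) e.2) (hconj e e.2) ?_
      rw [hconjw, MulAut.mul_apply, hb]
    rw [hτ, ← h1, mul_inv_cancel_right]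
  have hfix : ∀ z ∈ τ.range.map Γ.subtype, β * z * β⁻¹ = z → z = 1 := by
    intro z hz hzf
    obtain ⟨_, ⟨e, rfl⟩, rfl⟩ := id hz
    change (β * (τ e : MulAut W) * β⁻¹ = τ e) at hzf
    change (τ e : MulAut W) = 1
    have hiter : ∀ n : ℕ, β ^ n * (e : MulAut W) * (β ^ n)⁻¹ = (τ e : MulAut W) ^ n * e := by
      intro n
      induction n with
      | zero => simp
      | succ n ih =>
        calc β ^ (n + 1) * (e : MulAut W) * (β ^ (n + 1))⁻¹
            = β * (β ^ n * (e : MulAut W) * (β ^ n)⁻¹) * β⁻¹ := by rw [pow_succ']; group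
          _ = (β * (τ e : MulAut W) ^ n * β⁻¹) * (β * (e : MulAut W) * β⁻¹) := by rw [ih]; group
          _ = (τ e : MulAut W) ^ n * ((τ e : MulAut W) * e) := by
              congr 1
              · rw [← conj_pow, hzf]
              · rw [hτ, inv_mul_cancel_right]
          _ = _ := by rw [pow_succ, mul_assoc]
    have hl1 : (τ e : MulAut W) ^ l = 1 := by
      have h := hiter l
      rw [opIrr_commute hi hw0 hβl e.2, mul_inv_cancel_right] at h
      exact mul_eq_right.mp h.symm
    obtain ⟨b, hb⟩ := hZρ hz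
    change ρ b = (τ e : MulAut W) at hb
    rcases hl.eq_one_or_self_of_dvd _ (orderOf_dvd_of_pow_eq_one hl1) with h | h
    · exact orderOf_eq_one_iff.mp h
    · exact absurd (h ▸ Subgroup.orderOf_dvd_natCard ρ.range ⟨b, hb⟩) hld
  refine ⟨τ.range.map Γ.subtype, hZρ, ?_, hfix, fun z hz hzz => ?_⟩
  · -- cardinalities
    set q := Nat.card (MonoidHom.eqLocus β.toMonoidHom (MonoidHom.id W)) with hq
    set F := MonoidHom.eqLocus β.toMonoidHom (MonoidHom.id W) with hF
    have hne : Function.Injective (fun e : Γ => (e : MulAut W) w0) := fun e f h =>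
      Subtype.ext (opIrr_aut_ext hi hw0 e.2 f.2 h)
    have hΓ : Nat.card Γ + 1 = Nat.card W := opIrr_card_centralizer hi hw0
    have hkfix : ∀ e : Γ, e ∈ τ.ker ↔ (e : MulAut W) w0 ∈ F := fun e => by
      rw [MonoidHom.mem_ker, Subtype.ext_iff, hτ, Subgroup.coe_one, mul_inv_eq_one]
      constructor
      · intro h
        change β ((e : MulAut W) w0) = (e : MulAut W) w0
        rw [← hconjw, h]
      · intro h
        exact opIrr_aut_ext hi hw0 (hconj e e.2) e.2 ((hconjw e).trans h)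
    have hker : Nat.card τ.ker + 1 = q := by
      let φ : Option τ.ker → F := fun o =>
        o.elim 1 (fun e => ⟨((e : Γ) : MulAut W) w0, (hkfix e).mp e.2⟩)
      have hφ : Function.Bijective φ := by
        constructor
        · rintro (_ | e) (_ | f) h
          · rfl
          · exact absurd ((MulEquiv.map_eq_one_iff ((f : Γ) : MulAut W)).mp
              (congrArg Subtype.val h.symm)) hw0
          · exact absurd ((MulEquiv.map_eq_one_iff ((e : Γ) : MulAut W)).mp
              (congrArg Subtype.val h)) hw0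
          · exact congrArg some (Subtype.ext (hne (congrArg Subtype.val h)))
        · rintro ⟨v, hvF⟩
          by_cases hv : v = 1
          · exact ⟨none, Subtype.ext hv.symm⟩
          · obtain ⟨e, he, hev⟩ := opIrr_regular hi hw0 hv
            have hek : (⟨e, he⟩ : Γ) ∈ τ.ker := (hkfix _).mpr (hev.symm ▸ hvF)
            exact ⟨some ⟨⟨e, he⟩, hek⟩, Subtype.ext hev⟩
      rw [hq, ← Nat.card_congr (Equiv.ofBijective φ hφ), Finite.card_option]
    have hZcard : Nat.card (τ.range.map Γ.subtype) * Nat.card τ.ker = Nat.card Γ := by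
      rw [Subgroup.card_map_of_injective Γ.subtype_injective, ← Subgroup.index_ker, mul_comm,
        Subgroup.card_mul_index]
    obtain ⟨b, hb⟩ := hmov
    have hqq : q * q ≤ Nat.card W := by
      rw [hq, ← Nat.card_prod]
      refine Nat.card_le_card_of_injective (fun x : F × F => (x.1 : W) * ρ b (x.2 : W)) ?_
      rintro ⟨u, v⟩ ⟨u', v'⟩ h
      change (u : W) * ρ b v = (u' : W) * ρ b v' at h
      have h1 : ρ b ((v : W) * (v' : W)⁻¹) = ((u : W))⁻¹ * u' := by
        rw [map_mul, map_inv, eq_inv_mul_iff_mul_eq, ← mul_assoc, h, mul_inv_cancel_right]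
      by_cases hv : (v : W) * (v' : W)⁻¹ = 1
      · rw [hv, map_one] at h1
        exact Prod.ext (Subtype.ext (inv_mul_eq_one.mp h1.symm))
          (Subtype.ext (mul_inv_eq_one.mp hv))
      · exfalso
        apply hb
        have hx : (v : W) * (v' : W)⁻¹ ∈ F := F.mul_mem v.2 (F.inv_mem v'.2)
        have hy : (u : W)⁻¹ * u' ∈ F := F.mul_mem (F.inv_mem u.2) u'.2
        obtain ⟨e, he, hev⟩ := opIrr_regular hi hw0 hv
        have he1 : β * e * β⁻¹ = e := by
          refine opIrr_aut_ext hi hw0 (hconj e he) he ?_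
          rw [hconjw, hev]
          exact hx
        have hbe : β * (ρ b * e) * β⁻¹ = ρ b * e := by
          refine opIrr_aut_ext hi hw0 (hconj _ (Γ.mul_mem (rho_mem_centralizer ρ b) he))
            (Γ.mul_mem (rho_mem_centralizer ρ b) he) ?_
          rw [hconjw, MulAut.mul_apply, hev, h1]
          exact hy
        rw [show β * (ρ b * e) * β⁻¹ = (β * ρ b * β⁻¹) * (β * e * β⁻¹) by group, he1, hβ] at hbe
        exact mul_right_cancel hbe
    have hq2 : 2 ≤ q := by
      have : Nontrivial F := ⟨⟨w0, hβw⟩, 1, fun h => hw0 (congrArg Subtype.val h)⟩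
      exact Finite.one_lt_card
    by_contra hle
    push Not at hle
    set Z := Nat.card (τ.range.map Γ.subtype)
    set k := Nat.card τ.ker
    set n := Nat.card W
    have e1 : (Z * k + 1) = n := by rw [hZcard, hΓ]
    have hk1 : 1 ≤ k := by omega
    have e2 : Z * Z * (k * k) ≤ n * (k * k) := Nat.mul_le_mul_right _ hle
    have e3 : n * ((k + 1) * (k + 1)) ≤ n * n := Nat.mul_le_mul_left _ (hker ▸ hqq)
    nlinarith
  · -- no involutions
    refine hfix z hz ?_
    obtain ⟨_, ⟨e, rfl⟩, rfl⟩ := id hz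
    change (τ e : MulAut W) * τ e = 1 at hzz
    change β * (τ e : MulAut W) * β⁻¹ = τ e
    set z := (τ e : MulAut W)
    by_cases h : z = 1
    · rw [h, mul_one, mul_inv_cancel]
    have hz' : ∀ v, z v = v⁻¹ := fun v => by
      by_contra hne
      have hfixp : z (v * z v) = v * z v := by
        rw [map_mul, ← MulAut.mul_apply, hzz, MulAut.one_apply, mul_comm]
      obtain ⟨b, hb⟩ := hZρ hz
      change ρ b = z at hb
      refine h ((hb.symm.trans (opIrr_semiregular hi (b := b) (fun h1 => hne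
        (eq_inv_of_mul_eq_one_right h1)) (by rw [hb]; exact hfixp))))
    refine MulEquiv.ext fun v => ?_
    rw [MulAut.mul_apply, MulAut.mul_apply, hz', hz', map_inv, MulAut.inv_apply,
      MulEquiv.apply_symm_apply]

end Cfsg.Agent.LAE65.NonDiv
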