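import Cfsg.Agent.LAE65.NonDiv.Step

/-!
Common tools for the two-layer configurations.
-/

set_option autoImplicit false
set_option linter.unusedSectionVars false

namespace Cfsg.Agent.LAE65.NonDiv

open Cfsg.Agent.CharDeep.Ext BC86.RelGraph

universe u

variable {N : Type u} [Group N] [Finite N] {L B U : Subgroup N} [hU : U.Normal] {α : N ≃* N} {l : ℕ}

theorem noDvd_absurd (h : NoDvd N) {χ φ : Cfsg.IrrCharacter N} {m k : ℕ} (hm : 1 < m)
    (hk : 1 < k) (hχ : Cfsg.charDegree (χ : N → ℂ) = m) (hφ : m * k ∣ Cfsg.charDegree (φ : N → ℂ)) :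
    False := by
  have h1 := h χ φ (hχ ▸ hm) (hχ ▸ (dvd_mul_right m k).trans hφ)
  rw [← h1, hχ] at hφ
  have h2 := Nat.le_of_dvd (by omega) hφ
  nlinarith

theorem le_inertia_hom (Y : Subgroup N) [Y.Normal] (φ : Y →* ℂˣ) : Y ≤ inertia Y (coeFn Y φ) :=
  le_inertia Y
    (CharCore.IsCharacter.isClassFunction (CharCore.IsIrrCharacter.isCharacter (CharCore.isIrrCharacter_hom φ)))

/-- A linear character of an abelian `L` with too small a stabiliser is impossible. -/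
theorem Step.absurd_of_hom (S : Step L B U α l) [L.Normal] (Λ : L →* ℂˣ)
    (h1 : ∀ b ∈ B, b ∈ inertia L (coeFn L Λ) → b ∈ fixTop L B U)
    (h2 : ∃ c ∈ fixTop L B U, c ∉ inertia L (coeFn L Λ)) : False := by
  have F := S.frame
  have D := S.topFacts
  obtain ⟨χ, hχ⟩ := D.degree
  obtain ⟨ψ, hψ⟩ := exists_degree_complement L B F.inf F.sup Λ
  rw [F.index_eq_relIndex _ (le_inertia_hom L Λ)] at hψ
  set T := inertia L (coeFn L Λ)
  set C := fixTop L B U
  have hle : T ⊓ B ≤ C := fun b hb => h1 b hb.2 hb.1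
  have hmul := Subgroup.relIndex_mul_relIndex (T ⊓ B) C B hle inf_le_left
  rw [Subgroup.inf_relIndex_right] at hmul
  refine noDvd_absurd F.nodvd D.one_lt (k := (T ⊓ B).relIndex C) ?_ hχ (φ := ψ)
    (by rw [hψ, mul_comm, hmul])
  obtain ⟨c, hc, hcT⟩ := h2
  have h0 : (T ⊓ B).relIndex C ≠ 0 := Subgroup.index_ne_zero_of_finite
  have h1' : (T ⊓ B).relIndex C ≠ 1 := fun h => hcT (Subgroup.relIndex_eq_one.mp h hc).1
  omega

/-- A nonlinear character of `L` with too small a stabiliser is impossible. -/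
theorem Step.absurd_of_irr (S : Step L B U α l) [L.Normal] [Fintype L] {θ : L → ℂ}
    (hθ : Cfsg.IsIrrCharacter L θ) {d : ℕ} (hd : θ 1 = d) (hd1 : 1 < d)
    (h1 : ∀ b ∈ B, b ∈ inertia L θ → b ∈ fixTop L B U) : False := by
  have F := S.frame
  have D := S.topFacts
  obtain ⟨χ, hχ⟩ := D.degree
  obtain ⟨ψ, hψ⟩ := exists_over_irr' L hθ
  have hdvd := over_degree_dvd L hθ hψ hd
  have hLT : L ≤ inertia L θ := le_inertia L
    (CharCore.IsCharacter.isClassFunction (CharCore.IsIrrCharacter.isCharacter hθ))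
  rw [F.index_eq_relIndex _ hLT] at hdvd
  set T := inertia L θ
  set C := fixTop L B U
  have hle : T ⊓ B ≤ C := fun b hb => h1 b hb.2 hb.1
  have hmul := Subgroup.relIndex_mul_relIndex (T ⊓ B) C B hle inf_le_left
  rw [Subgroup.inf_relIndex_right] at hmul
  exact noDvd_absurd F.nodvd D.one_lt hd1 hχ
    ((mul_dvd_mul_right (hmul ▸ dvd_mul_left _ _) d).trans hdvd)

/-- When `L` centralises `U`, the group `B` is semiregular on `U`. -/
theorem Step.centralizes_of_fixed (S : Step L B U α l) (hc : ∀ v ∈ L, ∀ u ∈ U, v * u = u * v)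
    {b : N} (hb : b ∈ B) {u : N} (hu : u ∈ U) (hu1 : u ≠ 1) (h : b * u = u * b) :
    ∀ w ∈ U, b * w = w * b := by
  have F := S.frame
  set Y := U ⊓ Subgroup.centralizer ({b} : Set N) with hY
  have hmem : ∀ w, w ∈ Y ↔ w ∈ U ∧ b * w = w * b := fun w => by
    rw [hY, Subgroup.mem_inf, Subgroup.mem_centralizer_iff]
    simp
  have hYn : Y.Normal := by
    refine ⟨fun w hw g => ?_⟩
    obtain ⟨v, hv, e, he, rfl⟩ := F.exists_mul g
    obtain ⟨hw1, hw2⟩ := (hmem w).mp hw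
    have hew : e * w * e⁻¹ ∈ U := hU.conj_mem w hw1 e
    have h1 : v * e * w * (v * e)⁻¹ = e * w * e⁻¹ := by
      calc v * e * w * (v * e)⁻¹ = v * (e * w * e⁻¹) * v⁻¹ := by group
        _ = _ := by rw [hc v hv _ hew, mul_inv_cancel_right]
    rw [h1, hmem]
    refine ⟨hew, ?_⟩
    have hbe := F.comm b hb e he
    have hbe' := F.comm b hb e⁻¹ (B.inv_mem he)
    calc b * (e * w * e⁻¹) = (b * e) * w * e⁻¹ := by group
      _ = e * (b * w) * e⁻¹ := by rw [hbe]; group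
      _ = e * w * (b * e⁻¹) := by rw [hw2]; group
      _ = e * w * e⁻¹ * b := by rw [hbe']; group
  rcases S.minimal Y hYn inf_le_left with h0 | h0
  · exact absurd (Subgroup.mem_bot.mp (h0 ▸ (hmem u).mpr ⟨hu, h⟩)) hu1
  · exact fun w hw => ((hmem w).mp (h0.symm ▸ hw)).2

/-- When `L` centralises `U`, an element not centralising `U` fixes no character of `U`. -/
theorem Step.exists_char_ne (S : Step L B U α l) (hc : ∀ v ∈ L, ∀ u ∈ U, v * u = u * v)
    {b : N} (hb : b ∈ B) (hnc : ¬ ∀ w ∈ U, b * w = w * b) (φ : U →* ℂˣ) (hφ : φ ≠ 1) :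
    ∃ u : U, φ ⟨b * u * b⁻¹, hU.conj_mem u u.2 b⟩ ≠ φ u := by
  by_contra hcon
  push Not at hcon
  refine hφ (MonoidHom.ext fun w => ?_)
  let f : U →* U := MonoidHom.mk'
    (fun u => ⟨b * (u : N) * b⁻¹ * (u : N)⁻¹, U.mul_mem (hU.conj_mem u u.2 b) (U.inv_mem u.2)⟩)
    fun x y => Subtype.ext (by
      have hUab : ∀ s ∈ U, ∀ t ∈ U, s * t = t * s := fun s hs t ht => hc s (S.lt.le hs) t ht
      have e := hUab (b * y * b⁻¹) (hU.conj_mem y y.2 b) (x : N)⁻¹ (U.inv_mem x.2)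
      have e' := hUab (y : N)⁻¹ (U.inv_mem y.2) (x : N)⁻¹ (U.inv_mem x.2)
      simp only [Subgroup.coe_mul, mul_inv_rev]
      calc b * ((x : N) * y) * b⁻¹ * ((y : N)⁻¹ * (x : N)⁻¹)
          = b * x * b⁻¹ * (b * y * b⁻¹) * ((y : N)⁻¹ * (x : N)⁻¹) := by group
        _ = b * x * b⁻¹ * (b * y * b⁻¹ * (x : N)⁻¹) * (y : N)⁻¹ := by rw [e']; group
        _ = b * x * b⁻¹ * (x : N)⁻¹ * (b * y * b⁻¹ * (y : N)⁻¹) := by rw [e]; group)
  have hf : Function.Injective f := by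
    rw [← MonoidHom.ker_eq_bot_iff, Subgroup.eq_bot_iff_forall]
    intro u hu
    by_contra hu1
    have h1 : b * (u : N) * b⁻¹ * (u : N)⁻¹ = 1 := congrArg Subtype.val hu
    rw [mul_inv_eq_one, mul_inv_eq_iff_eq_mul] at h1
    exact hnc (S.centralizes_of_fixed hc hb u.2 (fun h => hu1 (Subtype.ext h)) h1)
  obtain ⟨u, rfl⟩ := Finite.injective_iff_surjective.mp hf w
  rw [show f u = ⟨b * u * b⁻¹, hU.conj_mem u u.2 b⟩ * u⁻¹ from rfl, map_mul, map_inv, hcon u,
    mul_inv_cancel, MonoidHom.one_apply]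

/-- A moved element of `B` does not centralise `U`. -/
theorem Step.not_centralizes_of_moved (S : Step L B U α l) {b : N} (hb : b ∈ B) (hmv : α b ≠ b) :
    ¬ ∀ w ∈ U, b * w = w * b := fun h => S.ne ((Subgroup.eq_bot_iff_forall U).mpr fun w hw =>
  S.frame.fpf b hb hmv w (S.lt.le hw) (h w hw))

end Cfsg.Agent.LAE65.NonDiv
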