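import Cfsg.Agent.LAE65.NonDiv.Common

/-!
A configuration with `L` acting nontrivially on `U` is impossible.
-/

set_option autoImplicit false
set_option linter.unusedSectionVars false

namespace Cfsg.Agent.LAE65.NonDiv

open Cfsg.Agent.CharDeep.Ext BC86.RelGraph

universe u

variable {N : Type u} [Group N] [Finite N] {L B U : Subgroup N} [hU : U.Normal] {α : N ≃* N} {l : ℕ}

theorem conjLin_apply' (g : N) (φ : U →* ℂˣ) (u : U) (h : g⁻¹ * (u : N) * g ∈ U) :
    conjLin U g φ u = φ ⟨g⁻¹ * u * g, h⟩ :=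
  congrArg φ (Subtype.ext (by simp [MulAut.conjNormal_apply]))

theorem conjLin_mul' (g h : N) (φ : U →* ℂˣ) : conjLin U (g * h) φ = conjLin U g (conjLin U h φ) :=
  coeFn_injective U (by
    let := fnAction (G := N) U
    rw [← smul_coeFn, ← smul_coeFn, ← smul_coeFn, mul_smul])

theorem conjLin_one' (φ : U →* ℂˣ) : conjLin U (1 : N) φ = φ :=
  coeFn_injective U (by
    let := fnAction (G := N) U
    rw [← smul_coeFn, one_smul])

theorem hom_one_pow {A : Type*} [Group A] (n : ℕ) : (1 : A →* ℂˣ) ^ n = 1 :=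
  MonoidHom.ext fun a => by rw [MonoidHom.pow_apply, MonoidHom.one_apply, one_pow]

theorem mem_inertia_conjLin {g : N} {φ : U →* ℂˣ} :
    g ∈ inertia U (coeFn U φ) ↔ conjLin U g φ = φ := by
  let := fnAction (G := N) U
  rw [← stabilizer_eq_inertia, stabilizer_coeFn]

/-- The complement produced by the Frattini argument. -/
theorem Step.exists_complement (S : Step L B U α l) (hUab : ∀ s ∈ U, ∀ t ∈ U, s * t = t * s)
    (hnc : ¬ ∀ v ∈ L, ∀ u ∈ U, v * u = u * v) {p q : ℕ} (hp : p.Prime) (hq : q.Prime)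
    (hpL : ∀ v ∈ L, v ^ p ∈ U) (hqU : ∀ u ∈ U, u ^ q = 1) :
    p ≠ q ∧ ∃ V H : Subgroup N, V ≤ L ∧ V ≤ H ∧ B ≤ H ∧ U ⊓ H = ⊥ ∧ U ⊔ H = ⊤ ∧
      (∀ v ∈ L, ∃ u ∈ U, ∃ k ∈ V, u * k = v) ∧ ∀ h ∈ H, ∀ k ∈ V, h * k * h⁻¹ ∈ V := by
  classical
  have F := S.frame
  have hLn := F.normal
  have := Fact.mk hp
  have := Fact.mk hq
  -- `U` meets the centraliser of `L` trivially
  have hcent : ∀ u ∈ U, (∀ v ∈ L, v * u = u * v) → u = 1 := by
    intro u hu h
    set Y := U ⊓ Subgroup.centralizer (L : Set N)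
    rcases S.minimal Y inferInstance inf_le_left with h0 | h0
    · exact Subgroup.mem_bot.mp (h0 ▸ ⟨hu, Subgroup.mem_centralizer_iff.mpr h⟩)
    · exact absurd (fun v hv w hw => Subgroup.mem_centralizer_iff.mp (h0.symm ▸ hw : w ∈ Y).2 v hv) hnc
  have hne : p ≠ q := by
    rintro rfl
    have hL : IsPGroup p L := fun v => ⟨2, Subtype.ext (by
      change (v : N) ^ (p ^ 2) = 1
      rw [pow_two, pow_mul, hqU _ (hpL v v.2)])⟩
    let _ : MulAction L U := MulAction.compHom U ((MulAut.conjNormal : N →* MulAut U).comp L.subtype)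
    have hUp : IsPGroup p U := fun u => ⟨1, Subtype.ext (by rw [pow_one]; exact hqU u u.2)⟩
    obtain ⟨n, hn⟩ := IsPGroup.exists_card_eq hUp
    have hd : p ∣ Nat.card U := by
      rw [hn]
      refine dvd_pow_self p fun h0 => S.ne ?_
      rw [h0, pow_zero] at hn
      exact Subgroup.card_eq_one.mp hn
    obtain ⟨w, hw, hw1⟩ := hL.exists_fixed_point_of_prime_dvd_card_of_fixed_point (α := U) hd (a := 1)
      (fun g => map_one (MulAut.conjNormal (g : N) : MulAut U))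
    refine hw1.symm (Subtype.ext (hcent w w.2 fun v hv => ?_))
    have e : ((MulAut.conjNormal v w : U) : N) = w := congrArg Subtype.val (hw ⟨v, hv⟩)
    rwa [MulAut.conjNormal_apply, mul_inv_eq_iff_eq_mul] at e
  refine ⟨hne, ?_⟩
  set U' := U.subgroupOf L
  obtain ⟨a, ha⟩ := IsPGroup.exists_card_eq (G := U') (p := q) (fun x => ⟨1, by
    rw [pow_one]
    exact Subtype.ext (Subtype.ext (hqU _ x.2))⟩)
  obtain ⟨b, hb⟩ := IsPGroup.exists_card_eq (G := L ⧸ U') (p := p) (fun x => by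
    induction x using QuotientGroup.induction_on with
    | H x => exact ⟨1, by rw [pow_one, ← QuotientGroup.mk_pow]; exact (QuotientGroup.eq_one_iff _).mpr (hpL x x.2)⟩)
  have hcop : Nat.Coprime (Nat.card U') U'.index := by
    rw [ha, Subgroup.index_eq_card, hb]
    exact Nat.Coprime.pow a b ((Nat.coprime_primes hq hp).mpr hne.symm)
  obtain ⟨K, hK⟩ := Subgroup.exists_right_complement'_of_coprime hcop
  have hKcard : Nat.card K = p ^ b := by
    have h1 := hK.card_mul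
    rw [← U'.card_mul_index, Subgroup.index_eq_card, hb] at h1
    exact Nat.eq_of_mul_eq_mul_left Nat.card_pos h1
  have hKidx : ¬ p ∣ K.index := by
    have h2 : K.index = Nat.card U' := by
      have h3 := K.card_mul_index
      rw [← hK.card_mul, mul_comm (Nat.card U')] at h3
      exact Nat.eq_of_mul_eq_mul_left Nat.card_pos h3
    rw [h2, ha]
    intro h
    exact hne ((Nat.prime_dvd_prime_iff_eq hp hq).mp (hp.dvd_of_dvd_pow h))
  let P : Sylow p L := (IsPGroup.of_card hKcard).toSylow hKidx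
  have hfr := Sylow.normalizer_sup_eq_top P
  have hP : (P : Subgroup L) = K := rfl
  rw [hP] at hfr
  set V0 := K.map L.subtype
  have hV0L : V0 ≤ L := Subgroup.map_subtype_le K
  have hV0U : U ⊓ V0 = ⊥ := by
    rw [Subgroup.eq_bot_iff_forall]
    rintro _ ⟨hu, k, hk, rfl⟩
    exact congrArg Subtype.val (Subgroup.mem_bot.mp (hK.disjoint.le_bot ⟨hu, hk⟩))
  have hV0dec : ∀ v ∈ L, ∃ u ∈ U, ∃ k ∈ V0, u * k = v := by
    intro v hv
    obtain ⟨⟨⟨u, hu⟩, ⟨k, hk⟩⟩, he⟩ := hK.2 ⟨v, hv⟩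
    exact ⟨u, hu, k, ⟨k, hk, rfl⟩, congrArg Subtype.val he⟩
  obtain ⟨x, hx, hmvx⟩ := F.moved
  set z := α x * x⁻¹
  have hz : z ∈ B := B.mul_mem (F.mapB x hx) (B.inv_mem hx)
  -- put `z` into the normalizer
  obtain ⟨h0, hh0, v0, hv0, hzeq⟩ :=
    Subgroup.mem_sup_of_normal_right.mp (hfr.symm ▸ Subgroup.mem_top z)
  obtain ⟨u1, hu1, k1, hk1, rfl⟩ := hV0dec v0 hv0
  set h1 := h0 * k1 with hh1def
  have hh1 : h1 ∈ Subgroup.normalizer (V0 : Set N) :=
    Subgroup.mul_mem _ hh0 (Subgroup.le_normalizer hk1)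
  have hu1' : k1⁻¹ * u1 * k1 ∈ U := by
    have := hU.conj_mem u1 hu1 k1⁻¹
    rwa [inv_inv] at this
  have hh1z : h1 = z * (k1⁻¹ * u1 * k1)⁻¹ := by rw [hh1def, ← hzeq]; group
  let f : U → U := fun a => ⟨(a : N) * (z * (a : N)⁻¹ * z⁻¹), U.mul_mem a.2 (hU.conj_mem _ (U.inv_mem a.2) z)⟩
  have hf : Function.Injective f := by
    intro s t hst
    have e : (s : N) * (z * (s : N)⁻¹ * z⁻¹) = (t : N) * (z * (t : N)⁻¹ * z⁻¹) := congrArg Subtype.val hst
    have e2 : z * ((t : N)⁻¹ * s) = ((t : N)⁻¹ * s) * z := by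
      calc z * ((t : N)⁻¹ * s) = (t : N)⁻¹ * ((t : N) * (z * (t : N)⁻¹ * z⁻¹)) * z * s := by group
        _ = _ := by rw [← e]; group
    exact Subtype.ext ((inv_mul_eq_one.mp (F.fpf z hz hmvx _
      (L.mul_mem (L.inv_mem (S.lt.le t.2)) (S.lt.le s.2)) e2)).symm)
  obtain ⟨a0, ha0⟩ := Finite.injective_iff_surjective.mp hf
    ⟨z * (k1⁻¹ * u1 * k1)⁻¹ * z⁻¹, hU.conj_mem _ (U.inv_mem hu1') z⟩
  have ha0' : (a0 : N) * z * (a0 : N)⁻¹ = h1 := by
    have e : (a0 : N) * (z * (a0 : N)⁻¹ * z⁻¹) = z * (k1⁻¹ * u1 * k1)⁻¹ * z⁻¹ :=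
      congrArg Subtype.val ha0
    rw [hh1z]
    calc (a0 : N) * z * (a0 : N)⁻¹ = (a0 : N) * (z * (a0 : N)⁻¹ * z⁻¹) * z := by group
      _ = _ := by rw [e]; group
  set V := V0.map (MulAut.conj (a0 : N)⁻¹).toMonoidHom with hVdef
  have hVL : V ≤ L := by
    rintro _ ⟨k, hk, rfl⟩
    exact hLn.conj_mem k (hV0L hk) _
  have hVmem : ∀ w, w ∈ V ↔ (a0 : N) * w * (a0 : N)⁻¹ ∈ V0 := fun w => by
    constructor
    · rintro ⟨k, hk, rfl⟩
      simpa [mul_assoc] using hk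
    · exact fun h => ⟨_, h, by simp [mul_assoc]⟩
  set H := Subgroup.normalizer (V : Set N)
  have hH : ∀ g, (a0 : N) * g * (a0 : N)⁻¹ ∈ Subgroup.normalizer (V0 : Set N) → g ∈ H := by
    intro g hg
    rw [Subgroup.mem_normalizer_iff]
    intro w
    rw [hVmem, hVmem,
      (Subgroup.mem_normalizer_iff.mp hg) ((a0 : N) * w * (a0 : N)⁻¹)]
    simp [mul_assoc]
  have hzH : z ∈ H := hH z (ha0'.symm ▸ hh1)
  have hdec : ∀ v ∈ L, ∃ u ∈ U, ∃ k ∈ V, u * k = v := by
    intro v hv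
    obtain ⟨u, hu, k, hk, he⟩ := hV0dec ((a0 : N) * v * (a0 : N)⁻¹) (hLn.conj_mem v hv _)
    refine ⟨(a0 : N)⁻¹ * u * a0, ?_, (a0 : N)⁻¹ * k * a0, (hVmem _).mpr (by simpa [mul_assoc] using hk), ?_⟩
    · have := hU.conj_mem u hu (a0 : N)⁻¹
      rwa [inv_inv] at this
    · calc (a0 : N)⁻¹ * u * a0 * ((a0 : N)⁻¹ * k * a0) = (a0 : N)⁻¹ * (u * k) * a0 := by group
        _ = v := by rw [he]; group
  have hUV : ∀ w, w ∈ U → w ∈ V → w = 1 := fun w h1 h2 => by
    have h3 : (a0 : N) * w * (a0 : N)⁻¹ ∈ U ⊓ V0 := ⟨hU.conj_mem w h1 _, (hVmem w).mp h2⟩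
    rw [hV0U, Subgroup.mem_bot, mul_inv_eq_one] at h3
    exact mul_eq_left.mp h3
  have hinf : U ⊓ H = ⊥ := by
    rw [Subgroup.eq_bot_iff_forall]
    intro w hw
    refine hcent w hw.1 fun v hv => ?_
    obtain ⟨u, hu, k, hk, rfl⟩ := hdec v hv
    have hk' : w * k * w⁻¹ * k⁻¹ = 1 := by
      refine hUV _ ?_ (V.mul_mem ((Subgroup.mem_normalizer_iff.mp hw.2 k).mp hk) (V.inv_mem hk))
      rw [show w * k * w⁻¹ * k⁻¹ = w * (k * w⁻¹ * k⁻¹) by group]
      exact U.mul_mem hw.1 (hU.conj_mem _ (U.inv_mem hw.1) k)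
    rw [mul_inv_eq_one, mul_inv_eq_iff_eq_mul] at hk'
    rw [mul_assoc, ← hk', ← mul_assoc, hUab u hu w hw.1, mul_assoc]
  have hsup : U ⊔ H = ⊤ := by
    rw [Subgroup.eq_top_iff']
    intro g
    obtain ⟨n0, hn0, v, hv, he⟩ :=
      Subgroup.mem_sup_of_normal_right.mp (hfr.symm ▸ Subgroup.mem_top ((a0 : N) * g * (a0 : N)⁻¹))
    have hv' : (a0 : N)⁻¹ * v * a0 ∈ L := by
      have := hLn.conj_mem v hv (a0 : N)⁻¹
      rwa [inv_inv] at this
    obtain ⟨u, hu, k, hk, hv''⟩ := hdec _ hv'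
    have hn : (a0 : N)⁻¹ * n0 * a0 ∈ H := hH _ (by simpa [mul_assoc] using hn0)
    have hg : g = (a0 : N)⁻¹ * n0 * a0 * (u * k) := by
      rw [hv'']
      calc g = (a0 : N)⁻¹ * ((a0 : N) * g * (a0 : N)⁻¹) * a0 := by group
        _ = _ := by rw [← he]; group
    rw [hg]
    exact (U ⊔ H).mul_mem (Subgroup.mem_sup_right hn)
      ((U ⊔ H).mul_mem (Subgroup.mem_sup_left hu) (Subgroup.mem_sup_right (Subgroup.le_normalizer hk)))
  refine ⟨V, H, hVL, Subgroup.le_normalizer, fun b hb => ?_, hinf, hsup, hdec,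
    fun h hh k hk => (Subgroup.mem_normalizer_iff.mp hh k).mp hk⟩
  obtain ⟨u, hu, h, hh, rfl⟩ := Subgroup.mem_sup_of_normal_left.mp (hsup.symm ▸ Subgroup.mem_top b)
  have hcomm := F.comm z hz _ hb
  have e1 : u⁻¹ * (z * u * z⁻¹) = h * z * (z * h)⁻¹ := by
    calc u⁻¹ * (z * u * z⁻¹) = u⁻¹ * (z * (u * h)) * (z * h)⁻¹ := by group
      _ = _ := by rw [hcomm]; group
  have h2 : u⁻¹ * (z * u * z⁻¹) ∈ U ⊓ H :=
    ⟨U.mul_mem (U.inv_mem hu) (hU.conj_mem u hu z), by
      rw [e1]; exact H.mul_mem (H.mul_mem hh hzH) (H.inv_mem (H.mul_mem hzH hh))⟩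
  rw [hinf, Subgroup.mem_bot, inv_mul_eq_one, eq_mul_inv_iff_mul_eq] at h2
  rw [F.fpf z hz hmvx u (S.lt.le hu) h2.symm, one_mul]
  exact hh

theorem Step.not_faithful (S : Step L B U α l) (hUab : ∀ s ∈ U, ∀ t ∈ U, s * t = t * s)
    (hnc : ¬ ∀ v ∈ L, ∀ u ∈ U, v * u = u * v) {q : ℕ} (hq : q.Prime)
    (hqU : ∀ u ∈ U, u ^ q = 1) : False := by
  classical
  have F := S.frame
  have hLn := F.normal
  have D := S.topFacts
  obtain ⟨p, hp, hpL⟩ := D.prime
  have := Fact.mk hp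
  have : NeZero p := ⟨hp.ne_zero⟩
  obtain ⟨hne, V, H, hVL, hVH, hBH, hinf, hsup, hdec, hnorm⟩ := S.exists_complement hUab hnc hp hq hpL hqU
  set C := fixTop L B U with hC
  have hUV : ∀ w, w ∈ U → w ∈ V → w = 1 := fun w h1 h2 =>
    Subgroup.mem_bot.mp (hinf ▸ Subgroup.mem_inf.mpr ⟨h1, hVH h2⟩)
  have hVpow : ∀ k ∈ V, k ^ p = 1 := fun k hk =>
    hUV _ (hpL k (hVL hk)) (V.pow_mem hk p)
  have hVab : ∀ a ∈ V, ∀ b ∈ V, a * b = b * a := fun a ha b hb => by
    have h := hUV _ (S.derived a (hVL ha) b (hVL hb))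
      (V.mul_mem (V.mul_mem (V.mul_mem ha hb) (V.inv_mem ha)) (V.inv_mem hb))
    rwa [mul_inv_eq_one, mul_inv_eq_iff_eq_mul] at h
  have hUact : ∀ u ∈ U, ∀ φ : U →* ℂˣ, conjLin U u φ = φ := fun u hu φ => MonoidHom.ext fun w => by
    rw [conjLin_apply' u φ w (by simpa using hU.conj_mem (w : N) w.2 u⁻¹)]
    refine congrArg φ (Subtype.ext ?_)
    change u⁻¹ * (w : N) * u = w
    rw [mul_assoc, hUab w w.2 u hu, inv_mul_cancel_left]
  -- only the trivial character is fixed by `V`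
  have hfixV : ∀ φ : U →* ℂˣ, (∀ k ∈ V, conjLin U k φ = φ) → φ = 1 := by
    intro φ hφ
    have hLf : ∀ v ∈ L, conjLin U v φ = φ := fun v hv => by
      obtain ⟨u, hu, k, hk, rfl⟩ := hdec v hv
      rw [conjLin_mul', hφ k hk, hUact u hu]
    have hle : ⁅L, U⁆ ≤ φ.ker.map U.subtype := Subgroup.commutator_le.mpr fun v hv u hu => by
      have hu' : v * u * v⁻¹ ∈ U := hU.conj_mem u hu v
      refine ⟨⟨v * u * v⁻¹ * u⁻¹, U.mul_mem hu' (U.inv_mem hu)⟩, ?_, (commutatorElement_def v u).symm⟩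
      rw [SetLike.mem_coe, MonoidHom.mem_ker,
        show (⟨v * u * v⁻¹ * u⁻¹, U.mul_mem hu' (U.inv_mem hu)⟩ : U) = ⟨v * u * v⁻¹, hu'⟩ * ⟨u, hu⟩⁻¹ from rfl,
        map_mul, map_inv, mul_inv_eq_one]
      conv_lhs => rw [← hLf v hv]
      rw [conjLin_apply' v φ _ (by simpa [mul_assoc] using hu)]
      exact congrArg φ (Subtype.ext (by simp [mul_assoc]))
    rcases S.minimal ⁅L, U⁆ inferInstance (Subgroup.commutator_le.mpr fun v hv u hu => by
        rw [commutatorElement_def]; exact U.mul_mem (hU.conj_mem u hu v) (U.inv_mem hu)) with h | h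
    · refine absurd (fun v hv u hu => ?_) hnc
      have := Subgroup.commutator_mem_commutator hv hu
      rw [h, Subgroup.mem_bot, commutatorElement_def, mul_inv_eq_one, mul_inv_eq_iff_eq_mul] at this
      exact this
    · refine MonoidHom.ext fun u => ?_
      obtain ⟨w, hw, he⟩ := hle (h.symm ▸ u.2 : (u : N) ∈ ⁅L, U⁆)
      rw [← U.subtype_injective he]
      exact hw
  -- stabilisers in `V`
  let Vs : (U →* ℂˣ) → Subgroup N := fun φ => V ⊓ inertia U (coeFn U φ)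
  have hVs : ∀ φ k, k ∈ Vs φ ↔ k ∈ V ∧ conjLin U k φ = φ := fun φ k => by
    rw [Subgroup.mem_inf, mem_inertia_conjLin]
  have hUabs : ∀ a b : U, a * b = b * a := fun a b => Subtype.ext (hUab a a.2 b b.2)
  have : Finite (U →* ℂˣ) := Nat.finite_of_card_ne_zero (by
    rw [card_hom_eq hUabs]; exact Nat.card_pos.ne')
  obtain ⟨u0, hu0⟩ := Subgroup.ne_bot_iff_exists_ne_one.mp S.ne
  obtain ⟨φ0, hφ0⟩ := exists_hom_ne_one hUabs hu0
  obtain ⟨φ1, hφ1, hmax⟩ := Set.exists_max_image {φ : U →* ℂˣ | φ ≠ 1} (fun φ => Nat.card (Vs φ))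
    (Set.toFinite _) ⟨φ0, fun h => hφ0 (by rw [h]; rfl)⟩
  set H1 := Vs φ1
  have hH1V : H1 ≤ V := inf_le_left
  have : Fintype H1 := Fintype.ofFinite _
  have hbig : ∀ φ, H1 ≤ Vs φ → ∀ v, v ∈ Vs φ → v ∉ H1 → φ = 1 := by
    intro φ hle v hv hv1
    by_contra h1
    have h2 := hmax φ h1
    exact hv1 ((Subgroup.eq_of_le_of_card_ge hle h2).symm ▸ hv)
  -- averaging over a cyclic subgroup
  have hpm : ∀ k ∈ V, ∀ n : ℕ, k ^ n = k ^ (n % p) := fun k hk n => pow_eq_pow_mod n (hVpow k hk)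
  have havg : ∀ v ∈ V, v ∉ H1 → ∏ j : ZMod p, conjLin U (v ^ j.val) φ1 = 1 := by
    intro v hv hv1
    refine hbig _ (fun k hk => ?_) v ?_ hv1
    · obtain ⟨hkV, hkf⟩ := (hVs _ _).mp hk
      refine (hVs _ _).mpr ⟨hkV, ?_⟩
      rw [map_prod]
      refine Finset.prod_congr rfl fun j _ => ?_
      rw [← conjLin_mul', hVab k hkV _ (V.pow_mem hv _), conjLin_mul', hkf]
    · refine (hVs _ _).mpr ⟨hv, ?_⟩
      rw [map_prod]
      refine Fintype.prod_equiv (Equiv.addRight (1 : ZMod p)) _ _ fun j => ?_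
      rw [← conjLin_mul', ← pow_succ', Equiv.coe_addRight, ZMod.val_add, ZMod.val_one,
        ← hpm v hv (j.val + 1)]
  have hφ1q : φ1 ^ q = 1 := MonoidHom.ext fun u => by
    rw [MonoidHom.pow_apply, ← map_pow, show u ^ q = 1 from Subtype.ext (hqU u u.2), map_one,
      MonoidHom.one_apply]
  have hpowinj : ∀ (n : ℕ), Nat.Coprime n q → ∀ φ ψ : U →* ℂˣ, φ ^ n = ψ ^ n → φ = ψ := by
    intro n hn φ ψ h
    have hq' : ∀ χ : U →* ℂˣ, χ ^ q = 1 := fun χ => MonoidHom.ext fun u => by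
      rw [MonoidHom.pow_apply, ← map_pow, show u ^ q = 1 from Subtype.ext (hqU u u.2), map_one,
        MonoidHom.one_apply]
    have h1 : (φ * ψ⁻¹) ^ n = 1 := MonoidHom.ext fun u => by
      rw [MonoidHom.pow_apply, MonoidHom.mul_apply, MonoidHom.inv_apply, mul_pow, inv_pow,
        ← MonoidHom.pow_apply, ← MonoidHom.pow_apply, h, mul_inv_cancel, MonoidHom.one_apply]
    exact mul_inv_eq_one.mp (orderOf_eq_one_iff.mp
      (Nat.eq_one_of_dvd_coprimes hn (orderOf_dvd_of_pow_eq_one h1) (orderOf_dvd_of_pow_eq_one (hq' _))))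
  have hgen : ∀ v ∈ V, v ∉ H1 → ∀ w ∈ V, ∃ i : ℕ, w * (v ^ i)⁻¹ ∈ H1 := by
    intro v hv hv1 w hw
    by_contra hcon
    push Not at hcon
    have hw1 : w ∉ H1 := fun h => hcon 0 (by simpa using h)
    have hvw : ∀ i : ZMod p, v * w ^ i.val ∉ H1 := by
      intro i hmem
      by_cases hi : i = 0
      · rw [hi, ZMod.val_zero, pow_zero, mul_one] at hmem
        exact hv1 hmem
      · refine hcon ((-(1 : ZMod p)) * i⁻¹).val ?_
        have h1 := H1.pow_mem hmem i⁻¹.val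
        rw [(show Commute v (w ^ i.val) from hVab v hv _ (V.pow_mem hw _)).mul_pow, ← pow_mul,
          hpm w hw, ← ZMod.val_mul, mul_inv_cancel₀ hi, ZMod.val_one, pow_one] at h1
        have h2 : v ^ ((-(1 : ZMod p)) * i⁻¹).val * v ^ (i⁻¹).val = 1 := by
          rw [← pow_add, hpm v hv, ← ZMod.val_add, neg_one_mul, neg_add_cancel, ZMod.val_zero, pow_zero]
        rw [eq_inv_of_mul_eq_one_left h2, inv_inv, hVab w hw _ (V.pow_mem hv _)]
        exact h1
    refine hφ1 (hpowinj p ((Nat.coprime_primes hp hq).mpr hne) φ1 1 ?_)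
    rw [hom_one_pow]
    let g : ZMod p → ZMod p → (U →* ℂˣ) := fun a b => conjLin U (v ^ a.val * w ^ b.val) φ1
    have h1 : ∏ i : ZMod p, ∏ j : ZMod p, g j (j * i) = 1 := by
      refine Finset.prod_eq_one fun i _ => ?_
      rw [← havg _ (V.mul_mem hv (V.pow_mem hw _)) (hvw i)]
      refine Finset.prod_congr rfl fun j _ => ?_
      simp only [g]
      rw [(show Commute v (w ^ i.val) from hVab v hv _ (V.pow_mem hw _)).mul_pow, ← pow_mul,
        hpm w hw (i.val * j.val), ← ZMod.val_mul, mul_comm i j]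
    rw [Finset.prod_comm, Finset.prod_eq_single (0 : ZMod p)] at h1
    · simp only [g, zero_mul, ZMod.val_zero, pow_zero, mul_one, conjLin_one', Finset.prod_const,
        Finset.card_univ, ZMod.card] at h1
      exact h1
    · intro j _ hj
      refine (Fintype.prod_equiv (Equiv.mulLeft₀ j hj) _ (fun b => g j b) (fun i => rfl)).trans ?_
      simp only [g, conjLin_mul']
      rw [← map_prod, havg w hw hw1, map_one]
    · exact fun h => absurd (Finset.mem_univ _) h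
  have hH1ne : ∃ v ∈ V, v ∉ H1 := by
    by_contra hcon
    push Not at hcon
    exact hφ1 (hfixV φ1 fun k hk => ((hVs _ _).mp (hcon k hk)).2)
  -- averaging over conjugates of `H1`
  have hkill : ∀ e : N, (∀ k ∈ V, e * k * e⁻¹ ∈ V) → ∀ φ : U →* ℂˣ, ∀ w ∈ V, conjLin U w φ = φ →
      e⁻¹ * w * e ∉ H1 → ∏ k : H1, conjLin U (e * (k : N) * e⁻¹) φ = 1 := by
    intro e he φ w hw hwφ hw1
    apply hfixV
    have hwV : e⁻¹ * w * e ∈ V := by
      let f : V → V := fun k => ⟨e * k * e⁻¹, he k k.2⟩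
      have hf : Function.Injective f := fun a b hab => Subtype.ext (by
        have := congrArg Subtype.val hab
        simpa [f] using this)
      obtain ⟨k, hk⟩ := Finite.injective_iff_surjective.mp hf ⟨w, hw⟩
      have hk' : e * (k : N) * e⁻¹ = w := congrArg Subtype.val hk
      rw [← hk', show e⁻¹ * (e * (k : N) * e⁻¹) * e = k by group]
      exact k.2
    intro x hx
    have hxV : e⁻¹ * x * e ∈ V := by
      let f : V → V := fun k => ⟨e * k * e⁻¹, he k k.2⟩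
      have hf : Function.Injective f := fun a b hab => Subtype.ext (by
        have := congrArg Subtype.val hab
        simpa [f] using this)
      obtain ⟨k, hk⟩ := Finite.injective_iff_surjective.mp hf ⟨x, hx⟩
      have hk' : e * (k : N) * e⁻¹ = x := congrArg Subtype.val hk
      rw [← hk', show e⁻¹ * (e * (k : N) * e⁻¹) * e = k by group]
      exact k.2
    obtain ⟨i, hi⟩ := hgen _ hwV hw1 _ hxV
    have hx' : x = e * (e⁻¹ * x * e * ((e⁻¹ * w * e) ^ i)⁻¹) * e⁻¹ * w ^ i := by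
      rw [show (e⁻¹ * w * e) ^ i = e⁻¹ * w ^ i * e by simpa using (conj_pow (i := i) (a := e⁻¹) (b := w))]
      group
    rw [hx', conjLin_mul']
    have hwi : conjLin U (w ^ i) (∏ k : H1, conjLin U (e * (k : N) * e⁻¹) φ)
        = ∏ k : H1, conjLin U (e * (k : N) * e⁻¹) φ := by
      rw [map_prod]
      refine Finset.prod_congr rfl fun k _ => ?_
      rw [← conjLin_mul', hVab _ (V.pow_mem hw i) _ (he k (hH1V k.2)), conjLin_mul']
      congr 1
      clear hx' hi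
      induction i with
      | zero => rw [pow_zero, conjLin_one']
      | succ i ih => rw [pow_succ, conjLin_mul', hwφ, ih]
    rw [hwi, map_prod]
    refine Fintype.prod_equiv (Equiv.mulLeft (⟨_, hi⟩ : H1)) _ _ fun k => ?_
    rw [← conjLin_mul', Equiv.coe_mulLeft, Subgroup.coe_mul]
    congr 2
    group
  -- an element moving `H1` twice
  set Nn := Subgroup.normalizer (H1 : Set N)
  obtain ⟨vv, hvv, hvv1⟩ := hH1ne
  have hstab : ∀ b ∈ B, b ∈ Nn → α b * b⁻¹ ∈ C := by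
    intro b hb hbN
    have hbV : ∀ k ∈ V, b * k * b⁻¹ ∈ V := fun k hk => hnorm b (hBH hb) k hk
    obtain ⟨m, hm⟩ := hgen vv hvv hvv1 _ (hbV vv hvv)
    let f : V →* V := MonoidHom.mk'
      (fun k => ⟨b * (k : N) * b⁻¹ * ((k : N) ^ m)⁻¹, V.mul_mem (hbV k k.2) (V.inv_mem (V.pow_mem k.2 m))⟩)
      fun x y => Subtype.ext (by
        change b * ((x : N) * y) * b⁻¹ * (((x : N) * y) ^ m)⁻¹
          = b * x * b⁻¹ * ((x : N) ^ m)⁻¹ * (b * y * b⁻¹ * ((y : N) ^ m)⁻¹)
        rw [(show Commute (x : N) y from hVab x x.2 y y.2).mul_pow, mul_inv_rev]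
        have e := hVab (b * y * b⁻¹) (hbV y y.2) ((x : N) ^ m)⁻¹ (V.inv_mem (V.pow_mem x.2 m))
        have e' := hVab ((y : N) ^ m)⁻¹ (V.inv_mem (V.pow_mem y.2 m)) ((x : N) ^ m)⁻¹
          (V.inv_mem (V.pow_mem x.2 m))
        calc b * ((x : N) * y) * b⁻¹ * (((y : N) ^ m)⁻¹ * ((x : N) ^ m)⁻¹)
            = b * x * b⁻¹ * ((b * y * b⁻¹) * ((x : N) ^ m)⁻¹) * ((y : N) ^ m)⁻¹ := by rw [e']; group
          _ = _ := by rw [e]; group)
    have himg : ∀ k : V, ((f k : V) : N) ∈ H1 := by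
      intro k
      obtain ⟨i, hi⟩ := hgen vv hvv hvv1 k k.2
      have hk : (k : N) = ((k : N) * (vv ^ i)⁻¹) * vv ^ i := by group
      have hfv : ((f ⟨vv, hvv⟩ : V) : N) ∈ H1 := hm
      have hf1 : ((f ⟨_, hH1V hi⟩ : V) : N) ∈ H1 :=
        H1.mul_mem ((Subgroup.mem_normalizer_iff.mp hbN _).mp hi) (H1.inv_mem (H1.pow_mem hi m))
      rw [show k = ⟨_, hH1V hi⟩ * ⟨vv, hvv⟩ ^ i from Subtype.ext hk, map_mul, map_pow, Subgroup.coe_mul,
        SubmonoidClass.coe_pow]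
      exact H1.mul_mem hf1 (H1.pow_mem hfv i)
    obtain ⟨k0, hk0, hk01⟩ : ∃ k0 : V, f k0 = 1 ∧ k0 ≠ 1 := by
      by_contra hcon
      push Not at hcon
      have hfinj : Function.Injective f := by
        rw [← MonoidHom.ker_eq_bot_iff, Subgroup.eq_bot_iff_forall]
        exact hcon
      obtain ⟨k, hk⟩ := Finite.injective_iff_surjective.mp hfinj ⟨vv, hvv⟩
      exact hvv1 (by have := himg k; rwa [hk] at this)
    have hall : ∀ w ∈ L, (QuotientGroup.mk' U) (b * w * b⁻¹) = (QuotientGroup.mk' U) (w ^ m) := by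
      set qq := QuotientGroup.mk' U
      have hcomm : ∀ x ∈ L, ∀ y ∈ L, qq x * qq y = qq y * qq x := fun x hx y hy => by
        have e : qq (x * y * x⁻¹ * y⁻¹) = 1 := (QuotientGroup.eq_one_iff _).mpr (S.derived x hx y hy)
        rwa [map_mul, map_mul, map_mul, map_inv, map_inv, mul_inv_eq_one, mul_inv_eq_iff_eq_mul] at e
      let Y : Subgroup N :=
        { carrier := {w | w ∈ L ∧ qq (b * w * b⁻¹) = qq (w ^ m)}
          one_mem' := ⟨L.one_mem, by simp⟩
          mul_mem' := fun {x y} hx hy => ⟨L.mul_mem hx.1 hy.1, by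
            rw [map_pow, map_mul qq x y, (show Commute (qq x) (qq y) from hcomm x hx.1 y hy.1).mul_pow,
              ← map_pow, ← map_pow, ← hx.2, ← hy.2, ← map_mul]
            congr 1
            group⟩
          inv_mem' := fun {x} hx => ⟨L.inv_mem hx.1, by
            rw [map_pow, map_inv, inv_pow, ← map_pow, ← hx.2, ← map_inv]
            congr 1
            group⟩ }
      have hYn : Y.Normal := by
        refine ⟨fun w hw g => ?_⟩
        obtain ⟨v, hv, c, hc, rfl⟩ := F.exists_mul g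
        have hcw : c * w * c⁻¹ ∈ L := hLn.conj_mem w hw.1 c
        have hb1 : b * (c * w * c⁻¹) * b⁻¹ ∈ L := hLn.conj_mem _ hcw b
        have hbv : b * v * b⁻¹ ∈ L := hLn.conj_mem _ hv b
        refine ⟨hLn.conj_mem w hw.1 _, ?_⟩
        have e1 : qq (v * c * w * (v * c)⁻¹) = qq (c * w * c⁻¹) := by
          rw [show v * c * w * (v * c)⁻¹ = v * (c * w * c⁻¹) * v⁻¹ by group, map_mul, map_mul,
            hcomm v hv _ hcw, map_inv, mul_inv_cancel_right]
        have e2 : qq (b * (c * w * c⁻¹) * b⁻¹) = qq ((c * w * c⁻¹) ^ m) := by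
          have ec := F.comm b hb c hc
          rw [conj_pow, show b * (c * w * c⁻¹) * b⁻¹ = (b * c) * w * (b * c)⁻¹ by group, ec,
            show c * b * w * (c * b)⁻¹ = c * (b * w * b⁻¹) * c⁻¹ by group, map_mul, map_mul, hw.2,
            ← map_mul, ← map_mul]
        rw [show b * (v * c * w * (v * c)⁻¹) * b⁻¹
            = (b * v * b⁻¹) * (b * (c * w * c⁻¹) * b⁻¹) * (b * v * b⁻¹)⁻¹ by group,
          map_mul, map_mul, hcomm _ hbv _ hb1, map_inv, mul_inv_cancel_right, e2, map_pow, map_pow, e1]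
      have hk0' : b * (k0 : N) * b⁻¹ = (k0 : N) ^ m :=
        mul_inv_eq_one.mp (congrArg Subtype.val hk0)
      have hUY : U ≤ Y := fun w hw => ⟨S.lt.le hw, by
        rw [show qq (b * w * b⁻¹) = 1 from (QuotientGroup.eq_one_iff _).mpr (hU.conj_mem w hw b),
          show qq (w ^ m) = 1 from (QuotientGroup.eq_one_iff _).mpr (U.pow_mem hw m)]⟩
      rcases S.maximal Y hYn hUY (fun w hw => hw.1) with h0 | h0
      · exact absurd (Subtype.ext (hUV _ (h0 ▸ (⟨hVL k0.2, by rw [hk0']⟩ : (k0 : N) ∈ Y)) k0.2)) hk01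
      · exact fun w hw => ((h0.symm ▸ hw : w ∈ Y)).2
    refine mem_fixTop.mpr ⟨B.mul_mem (F.mapB b hb) (B.inv_mem hb), fun w hw => ?_⟩
    have hw' : b⁻¹ * w * b ∈ L := by
      have := hLn.conj_mem w hw b⁻¹
      rwa [inv_inv] at this
    obtain ⟨w', hw'L, hαw'⟩ : b⁻¹ * w * b ∈ L.map (α : N →* N) := by
      rw [F.map_eq L le_rfl]; exact hw'
    have hαw'' : α w' = b⁻¹ * w * b := hαw'
    have e1 := hall w' hw'L
    have e2 := hall _ hw'
    have e1' : (QuotientGroup.mk' U) (α b * α w' * (α b)⁻¹) = (QuotientGroup.mk' U) ((α w') ^ m) := by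
      have h1 : QuotientGroup.congr U U α (F.map_eq U S.lt.le) ((QuotientGroup.mk' U) (b * w' * b⁻¹))
          = QuotientGroup.congr U U α (F.map_eq U S.lt.le) ((QuotientGroup.mk' U) (w' ^ m)) :=
        congrArg _ e1
      have h2 : (QuotientGroup.mk' U) (α (b * w' * b⁻¹)) = (QuotientGroup.mk' U) (α (w' ^ m)) := h1
      rwa [map_mul α, map_mul α, map_inv α, map_pow α] at h2
    rw [hαw''] at e1'
    have e3 : (QuotientGroup.mk' U) (α b * b⁻¹ * w * (α b * b⁻¹)⁻¹) = (QuotientGroup.mk' U) w := by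
      rw [show α b * b⁻¹ * w * (α b * b⁻¹)⁻¹ = α b * (b⁻¹ * w * b) * (α b)⁻¹ by group, e1', ← e2]
      congr 1
      group
    rw [← QuotientGroup.eq_one_iff]
    change (QuotientGroup.mk' U) _ = 1
    rw [map_mul, e3, map_inv, mul_inv_cancel]
  obtain ⟨Z, hCZ, hZB, hZc, hZf, hZs⟩ := D.large
  obtain ⟨g, hgZ, hgC⟩ : ∃ g ∈ Z, g ∉ C := by
    by_contra hcon
    push Not at hcon
    rw [Subgroup.relIndex_eq_one.mpr hcon] at hZc
    have h1 : U.relIndex L ≠ 0 := Subgroup.index_ne_zero_of_finite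
    omega
  have hgB := hZB hgZ
  have hgN : g ∉ Nn := fun h => hgC (hZf g hgZ (hstab g hgB h))
  have hg2N : g * g ∉ Nn := fun h =>
    hgC (hZs g hgZ (hZf _ (Z.mul_mem hgZ hgZ) (hstab _ (B.mul_mem hgB hgB) h)))
  -- the two characters
  set φ2 := conjLin U g φ1
  set ψ := φ1 * φ2
  have hψeq : ψ = φ1 * φ2 := rfl
  have hBV : ∀ b ∈ B, ∀ k ∈ V, b * k * b⁻¹ ∈ V := fun b hb k hk => hnorm b (hBH hb) k hk
  have hnotN : ∀ e : N, e ∉ Nn → ∃ k ∈ H1, e * k * e⁻¹ ∉ H1 := by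
    intro e he
    by_contra hcon
    push Not at hcon
    exact he (Subgroup.mem_normalizer_fintype hcon)
  have hφ1k : ∀ k ∈ H1, conjLin U k φ1 = φ1 := fun k hk => ((hVs _ _).mp hk).2
  have hconst : ∀ e : N, ∏ k : H1, conjLin U (e * (k : N) * e⁻¹) (conjLin U e φ1)
      = conjLin U e φ1 ^ Nat.card H1 := by
    intro e
    rw [Finset.prod_eq_pow_card (b := conjLin U e φ1) fun k _ => ?_, Finset.card_univ,
      Fintype.card_eq_nat_card]
    rw [← conjLin_mul', inv_mul_cancel_right, conjLin_mul', hφ1k k k.2]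
  have hnv : ∀ e ∈ B, e ∉ Nn → ∏ k : H1, conjLin U (e * (k : N) * e⁻¹) φ1 = 1 := by
    intro e he heN
    obtain ⟨k, hk, hk'⟩ := hnotN e⁻¹ fun h => heN (by simpa using Nn.inv_mem h)
    rw [inv_inv] at hk'
    exact hkill e (hBV e he) φ1 k (hH1V hk) (hφ1k k hk) hk'
  have hnv2 : ∀ e ∈ B, g⁻¹ * e ∉ Nn → ∏ k : H1, conjLin U (e * (k : N) * e⁻¹) φ2 = 1 := by
    intro e he heN
    obtain ⟨k, hk, hk'⟩ := hnotN (g⁻¹ * e)⁻¹ fun h => heN (by simpa using Nn.inv_mem h)
    refine hkill e (hBV e he) φ2 (g * k * g⁻¹) (hBV g hgB k (hH1V hk)) ?_ ?_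
    · rw [← conjLin_mul', inv_mul_cancel_right, conjLin_mul', hφ1k k hk]
    · rw [show e⁻¹ * (g * k * g⁻¹) * e = (g⁻¹ * e)⁻¹ * k * (g⁻¹ * e)⁻¹⁻¹ by group]
      exact hk'
  obtain ⟨j, hj⟩ := IsPGroup.exists_card_eq (G := H1) (p := p)
    (fun k => ⟨1, Subtype.ext (by rw [pow_one]; exact hVpow k (hH1V k.2))⟩)
  have hcopn : Nat.Coprime (Nat.card H1) q :=
    hj.symm ▸ Nat.Coprime.pow_left j ((Nat.coprime_primes hp hq).mpr hne)
  have hpne : ∀ φ : U →* ℂˣ, φ ≠ 1 → φ ^ Nat.card H1 ≠ 1 := fun φ hφ h =>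
    hφ (hpowinj _ hcopn φ 1 (by rw [h, hom_one_pow]))
  have hav1 : ∏ k : H1, conjLin U ((1 : N) * (k : N) * 1⁻¹) ψ = φ1 ^ Nat.card H1 := by
    simp only [hψeq, map_mul, Finset.prod_mul_distrib]
    have := hconst 1
    rw [conjLin_one'] at this
    rw [this, hnv2 1 B.one_mem (fun h => hgN (by simpa using Nn.inv_mem h))]
    exact MonoidHom.ext fun u => mul_one _
  have havg' : ∏ k : H1, conjLin U (g * (k : N) * g⁻¹) ψ = φ2 ^ Nat.card H1 := by
    simp only [hψeq, map_mul, Finset.prod_mul_distrib]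
    rw [hnv g hgB hgN, hconst g]
    exact MonoidHom.ext fun u => one_mul _
  have hφ2ne : φ2 ≠ 1 := fun h => hφ1 (by
    have := congrArg (conjLin U g⁻¹) h
    rwa [← conjLin_mul', inv_mul_cancel, conjLin_one', map_one] at this)
  -- the stabiliser of the product is smaller
  set T := inertia U (coeFn U ψ)
  set T1 := inertia U (coeFn U φ1)
  have hHdec : ∀ h ∈ H, ∃ k ∈ V, ∃ b ∈ B, k * b = h := by
    intro h hh
    obtain ⟨v, hv, b, hb, rfl⟩ := F.exists_mul h
    obtain ⟨u, hu, k, hk, rfl⟩ := hdec v hv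
    have hu1 : u = 1 := Subgroup.mem_bot.mp (hinf ▸ Subgroup.mem_inf.mpr ⟨hu, by
      have := H.mul_mem hh (H.inv_mem (H.mul_mem (hVH hk) (hBH hb)))
      simpa [mul_assoc] using this⟩)
    exact ⟨k, hk, b, hb, by rw [hu1, one_mul]⟩
  have hkey : ∀ k ∈ V, ∀ b ∈ B, conjLin U (k * b) ψ = ψ → ∀ e ∈ B,
      ∏ x : H1, conjLin U (b * e * (x : N) * (b * e)⁻¹) ψ
        = conjLin U (k * b) (∏ x : H1, conjLin U (e * (x : N) * e⁻¹) ψ) := by
    intro k hk b hb hfix e he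
    rw [map_prod]
    refine Finset.prod_congr rfl fun x _ => ?_
    rw [← conjLin_mul']
    conv_lhs => rw [← hfix]
    rw [← conjLin_mul']
    congr 2
    have hbe : b * e * (x : N) * (b * e)⁻¹ ∈ V := hBV _ (B.mul_mem hb he) x (hH1V x.2)
    calc b * e * (x : N) * (b * e)⁻¹ * (k * b) = k * (b * e * (x : N) * (b * e)⁻¹) * b := by
          rw [← mul_assoc, hVab _ hbe k hk]
      _ = _ := by group
  have hTle : T ≤ T1 := by
    intro t ht
    obtain ⟨u, hu, h, hh, rfl⟩ := Subgroup.mem_sup_of_normal_left.mp (hsup.symm ▸ Subgroup.mem_top t)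
    obtain ⟨k, hk, b, hb, rfl⟩ := hHdec h hh
    have hfix : conjLin U (k * b) ψ = ψ := by
      have := mem_inertia_conjLin.mp ht
      rwa [conjLin_mul', hUact u hu] at this
    have hne1 : ∀ φ : U →* ℂˣ, φ ≠ 1 → conjLin U (k * b) φ ≠ 1 := fun φ hφ h => hφ (by
      have := congrArg (conjLin U (k * b)⁻¹) h
      rwa [← conjLin_mul', inv_mul_cancel, conjLin_one', map_one] at this)
    have hmem : ∀ e ∈ B, ∏ x : H1, conjLin U (e * (x : N) * e⁻¹) ψ ≠ 1 →
        b * e ∈ Nn ∨ g⁻¹ * (b * e) ∈ Nn := by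
      intro e he hne'
      by_contra hcon
      push Not at hcon
      apply hne1 _ hne'
      rw [← hkey k hk b hb hfix e he]
      simp only [hψeq, map_mul, Finset.prod_mul_distrib]
      rw [hnv _ (B.mul_mem hb he) hcon.1, hnv2 _ (B.mul_mem hb he) hcon.2]
      exact MonoidHom.ext fun u => mul_one _
    have hbN : b ∈ Nn := by
      have h1 := hmem 1 B.one_mem (by rw [hav1]; exact hpne φ1 hφ1)
      have h2 := hmem g hgB (by rw [havg']; exact hpne φ2 hφ2ne)
      rw [mul_one] at h1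
      rcases h1 with h1 | h1
      · exact h1
      · exfalso
        rcases h2 with h2 | h2
        · apply hg2N
          have := Nn.mul_mem (Nn.inv_mem h1) h2
          have e : (g⁻¹ * b)⁻¹ * (b * g) = g * g := by
            rw [mul_inv_rev, inv_inv, show b⁻¹ * g * (b * g) = b⁻¹ * (g * b) * g by group,
              F.comm g hgB b hb]
            group
          rwa [e] at this
        · apply hgN
          rw [F.comm b hb g hgB, inv_mul_cancel_left] at h2
          have := Nn.mul_mem h2 (Nn.inv_mem h1)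
          simpa using this
    refine mem_inertia_conjLin.mpr ?_
    rw [conjLin_mul', hUact u hu]
    refine hpowinj _ hcopn _ _ ?_
    refine (map_pow (conjLin U (k * b)) φ1 _).symm.trans ?_
    rw [← hav1, ← hkey k hk b hb hfix 1 B.one_mem]
    refine Fintype.prod_equiv
      (Equiv.ofBijective (fun x : H1 => (⟨b * x * b⁻¹, (Subgroup.mem_normalizer_iff.mp hbN x).mp x.2⟩ : H1))
        ⟨fun x y hxy => Subtype.ext (by simpa using congrArg Subtype.val hxy),
          Finite.injective_iff_surjective.mp fun x y hxy => Subtype.ext (by simpa using congrArg Subtype.val hxy)⟩)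
      _ _ fun x => ?_
    simp only [mul_one, one_mul, inv_one]
    rfl
  have hlt : T < T1 := by
    refine lt_of_le_of_ne hTle fun h => ?_
    obtain ⟨x, hx, hx'⟩ := hnotN g⁻¹ fun h => hgN (by simpa using Nn.inv_mem h)
    rw [inv_inv] at hx'
    apply hx'
    have hxψ : conjLin U x ψ = ψ := mem_inertia_conjLin.mp (show x ∈ T from h.symm ▸ mem_inertia_conjLin.mpr (hφ1k x hx))
    have hxV := hH1V hx
    have hxV' : g⁻¹ * x * g ∈ V := by
      have := hBV g⁻¹ (B.inv_mem hgB) x hxV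
      rwa [inv_inv] at this
    refine (hVs _ _).mpr ⟨hxV', ?_⟩
    have hx2 : conjLin U x φ2 = φ2 := by
      rw [hψeq, map_mul, hφ1k x hx] at hxψ
      exact mul_left_cancel hxψ
    rw [mul_assoc, conjLin_mul', conjLin_mul']
    change conjLin U g⁻¹ (conjLin U x φ2) = φ1
    rw [hx2, ← conjLin_mul', inv_mul_cancel, conjLin_one']
  obtain ⟨χ1, hχ1⟩ := exists_degree_complement U H hinf hsup φ1
  obtain ⟨χ2, hχ2⟩ := exists_degree_complement U H hinf hsup ψ
  refine noDvd_absurd F.nodvd (m := T1.index) (k := T.relIndex T1) ?_ ?_ hχ1 (φ := χ2)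
    (by rw [hχ2, mul_comm, Subgroup.relIndex_mul_index hTle])
  · have h0 : T1.index ≠ 0 := Subgroup.index_ne_zero_of_finite
    have h1 : T1.index ≠ 1 := fun h => hvv1 ⟨hvv, by
      have h2 := Subgroup.mem_top vv
      rw [← Subgroup.index_eq_one.mp h] at h2
      exact h2⟩
    omega
  · have h0 : T.relIndex T1 ≠ 0 := Subgroup.index_ne_zero_of_finite
    have h1 : T.relIndex T1 ≠ 1 := fun h => hlt.not_ge (Subgroup.relIndex_eq_one.mp h)
    omega

end Cfsg.Agent.LAE65.NonDiv
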