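import Cfsg.Agent.LAE65.NonDiv.Tools
import Cfsg.Agent.LAE65.NonDiv.Chief

/-!
A solvable group with an abelian complement to a normal subgroup and an automorphism fixing every
nonlinear character.
-/

set_option autoImplicit false
set_option linter.unusedSectionVars false

namespace Cfsg.Agent.LAE65.NonDiv

open Cfsg.Agent.CharDeep.Ext BC86.RelGraph

universe u

variable {N : Type u} [Group N] [Finite N]

/-- The standing data. -/
structure Frame (L B : Subgroup N) (α : N ≃* N) (l : ℕ) : Prop where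
  normal : L.Normal
  solv : Group.IsSolvable N
  comm : ∀ a ∈ B, ∀ b ∈ B, a * b = b * a
  inf : L ⊓ B = ⊥
  sup : L ⊔ B = ⊤
  mapB : ∀ b ∈ B, α b ∈ B
  iterB : ∀ b ∈ B, (⇑α)^[l] b = b
  inner : ∃ n : N, ∀ v : N, (⇑α)^[l] v = n * v * n⁻¹
  fpf : ∀ b ∈ B, α b ≠ b → ∀ v ∈ L, b * v = v * b → v = 1
  stable : ∀ v ∈ L, IsConj v (α v)
  moved : ∃ x ∈ B, α (α x * x⁻¹) ≠ α x * x⁻¹
  nodvd : NoDvd N
  prime : l.Prime
  ndeg : ∀ χ : Cfsg.IrrCharacter N, ¬ l ∣ Cfsg.charDegree (χ : N → ℂ)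

variable {L B : Subgroup N} {α : N ≃* N} {l : ℕ}

theorem Frame.map_mem (F : Frame L B α l) (Y : Subgroup N) [hY : Y.Normal] (hYL : Y ≤ L) {v : N}
    (hv : v ∈ Y) : α v ∈ Y := by
  obtain ⟨c, hc⟩ := isConj_iff.mp (F.stable v (hYL hv))
  exact hc ▸ hY.conj_mem v hv c

theorem Frame.map_eq (F : Frame L B α l) (Y : Subgroup N) [Y.Normal] (hYL : Y ≤ L) :
    Y.map (α : N →* N) = Y := by
  refine Subgroup.eq_of_le_of_card_ge ?_ ?_
  · rintro _ ⟨v, hv, rfl⟩
    exact F.map_mem Y hYL hv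
  · rw [Subgroup.card_map_of_injective (f := (α : N →* N)) α.injective]

theorem Frame.exists_mul (F : Frame L B α l) (g : N) : ∃ v ∈ L, ∃ b ∈ B, v * b = g := by
  have := F.normal
  exact Subgroup.mem_sup_of_normal_left.mp (F.sup.symm ▸ Subgroup.mem_top g)

theorem Frame.eq_one (F : Frame L B α l) {g : N} (h1 : g ∈ L) (h2 : g ∈ B) : g = 1 :=
  Subgroup.mem_bot.mp (F.inf ▸ Subgroup.mem_inf.mpr ⟨h1, h2⟩)

theorem Frame.index_eq_relIndex (F : Frame L B α l) (T : Subgroup N) (hLT : L ≤ T) :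
    T.index = T.relIndex B := by
  symm
  refine Nat.card_eq_of_bijective
    (Quotient.map' (fun b : B => (b : N)) fun a b h => by
      rw [QuotientGroup.leftRel_apply] at h ⊢
      exact h) ⟨?_, ?_⟩
  · intro x y
    induction x using QuotientGroup.induction_on with
    | H a =>
      induction y using QuotientGroup.induction_on with
      | H b =>
        intro h
        have h' : (((a : N)) : N ⧸ T) = ((b : N) : N ⧸ T) := h
        rw [QuotientGroup.eq] at h' ⊢
        exact h'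
  · intro y
    induction y using QuotientGroup.induction_on with
    | H g =>
      obtain ⟨v, hv, b, hb, rfl⟩ := F.exists_mul g
      refine ⟨((⟨b, hb⟩ : B) : B ⧸ T.subgroupOf B), ?_⟩
      change ((b : N) : N ⧸ T) = ((v * b : N) : N ⧸ T)
      rw [QuotientGroup.eq, show b⁻¹ * (v * b) = b⁻¹ * v * b⁻¹⁻¹ by group]
      exact hLT (F.normal.conj_mem v hv b⁻¹)

theorem iterate_semiconj {M : Type*} (f : M → M) {M' : Type*} (f' : M' → M') (q : M → M')
    (h : ∀ x, f' (q x) = q (f x)) (n : ℕ) (x : M) : f'^[n] (q x) = q (f^[n] x) := by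
  induction n generalizing x with
  | zero => rfl
  | succ n ih => rw [Function.iterate_succ_apply, Function.iterate_succ_apply, h, ih]

/-- The data pass to quotients by normal subgroups inside `L`. -/
theorem Frame.quotient (F : Frame L B α l) (Y : Subgroup N) [hY : Y.Normal] (hYL : Y ≤ L) :
    Frame (L.map (QuotientGroup.mk' Y)) (B.map (QuotientGroup.mk' Y))
      (QuotientGroup.congr Y Y α (F.map_eq Y hYL)) l := by
  have hcongr : ∀ g : N, QuotientGroup.congr Y Y α (F.map_eq Y hYL) (QuotientGroup.mk' Y g)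
      = QuotientGroup.mk' Y (α g) := fun g => rfl
  have hiter := iterate_semiconj (⇑α) (⇑(QuotientGroup.congr Y Y α (F.map_eq Y hYL)))
    (QuotientGroup.mk' Y) hcongr l
  have hLn := F.normal
  have hsolv := F.solv
  exact
  { normal := Subgroup.Normal.map hLn _ (QuotientGroup.mk'_surjective Y)
    solv := inferInstance
    comm := by
      rintro _ ⟨a, ha, rfl⟩ _ ⟨b, hb, rfl⟩
      rw [← map_mul, ← map_mul, F.comm a ha b hb]
    inf := by
      rw [Subgroup.eq_bot_iff_forall]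
      rintro x ⟨⟨v, hv, rfl⟩, ⟨b, hb, he⟩⟩
      have hd : v⁻¹ * b ∈ Y := QuotientGroup.eq.mp he.symm
      have hbL : b ∈ L := by
        have := L.mul_mem hv (hYL hd)
        rwa [mul_inv_cancel_left] at this
      rw [← he, F.eq_one hbL hb, map_one]
    sup := by
      rw [← Subgroup.map_sup, F.sup, Subgroup.map_top_of_surjective _ (QuotientGroup.mk'_surjective Y)]
    mapB := by
      rintro _ ⟨b, hb, rfl⟩
      exact ⟨α b, F.mapB b hb, (hcongr b).symm⟩
    iterB := by
      rintro _ ⟨b, hb, rfl⟩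
      rw [hiter, F.iterB b hb]
    inner := by
      obtain ⟨n, hn⟩ := F.inner
      refine ⟨QuotientGroup.mk' Y n, fun v => ?_⟩
      obtain ⟨g, rfl⟩ := QuotientGroup.mk'_surjective Y v
      rw [hiter, hn, map_mul, map_mul, map_inv]
    fpf := by
      rintro _ ⟨b, hb, rfl⟩ hmv _ ⟨v, hv, rfl⟩ hc
      have hmv' : α b ≠ b := fun h => hmv (by rw [hcongr, h])
      let f : Y → Y := fun y => ⟨(y : N)⁻¹ * (b * y * b⁻¹), Y.mul_mem (Y.inv_mem y.2) (hY.conj_mem _ y.2 b)⟩
      have hf : Function.Injective f := by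
        intro y z h
        have h' : (y : N)⁻¹ * (b * y * b⁻¹) = (z : N)⁻¹ * (b * z * b⁻¹) := congrArg Subtype.val h
        have h2 : b * ((y : N) * (z : N)⁻¹) = ((y : N) * (z : N)⁻¹) * b := by
          calc b * ((y : N) * (z : N)⁻¹) = (b * y * b⁻¹) * (b * z * b⁻¹)⁻¹ * b := by group
            _ = (y : N) * ((y : N)⁻¹ * (b * y * b⁻¹)) * ((z : N)⁻¹ * (b * z * b⁻¹))⁻¹ * (z : N)⁻¹ * b := by
              group
            _ = _ := by rw [h']; group
        exact Subtype.ext (mul_inv_eq_one.mp (F.fpf b hb hmv' _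
          (L.mul_mem (hYL y.2) (L.inv_mem (hYL z.2))) h2))
      have hd : v⁻¹ * (b * v * b⁻¹) ∈ Y := by
        rw [← QuotientGroup.eq]
        change QuotientGroup.mk' Y v = QuotientGroup.mk' Y (b * v * b⁻¹)
        rw [map_mul, map_mul, map_inv, hc, mul_inv_cancel_right]
      obtain ⟨y, hy⟩ := Finite.injective_iff_surjective.mp hf ⟨_, hd⟩
      have hy' : (y : N)⁻¹ * (b * y * b⁻¹) = v⁻¹ * (b * v * b⁻¹) := congrArg Subtype.val hy
      have h2 : b * (v * (y : N)⁻¹) = (v * (y : N)⁻¹) * b := by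
        calc b * (v * (y : N)⁻¹) = v * (v⁻¹ * (b * v * b⁻¹)) * ((y : N)⁻¹ * (b * y * b⁻¹))⁻¹ * (y : N)⁻¹ * b := by group
          _ = _ := by rw [← hy']; group
      have hvy : v = y := mul_inv_eq_one.mp (F.fpf b hb hmv' _
        (L.mul_mem hv (L.inv_mem (hYL y.2))) h2)
      exact (QuotientGroup.eq_one_iff v).mpr (hvy ▸ y.2)
    stable := by
      rintro _ ⟨v, hv, rfl⟩
      rw [hcongr]
      exact MonoidHom.map_isConj (QuotientGroup.mk' Y) (F.stable v hv)
    moved := by
      obtain ⟨x, hx, hmv⟩ := F.moved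
      refine ⟨_, ⟨x, hx, rfl⟩, fun h => hmv ?_⟩
      rw [hcongr, ← map_inv, ← map_mul, hcongr] at h
      set z := α x * x⁻¹
      have hz : z ∈ B := B.mul_mem (F.mapB x hx) (B.inv_mem hx)
      exact inv_mul_eq_one.mp (F.eq_one (hYL (QuotientGroup.eq.mp h))
        (B.mul_mem (B.inv_mem (F.mapB z hz)) hz))
    nodvd := noDvd_quotient F.nodvd Y
    prime := F.prime
    ndeg := fun χ => by
      obtain ⟨χ', hχ'⟩ := degree_quotient_eq Y χ
      exact hχ' ▸ F.ndeg χ' }

end Cfsg.Agent.LAE65.NonDiv
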