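import Cfsg.Agent.LAE65.NonDiv.Main

/-!
Solvable groups all of whose proper quotients are abelian.
-/

set_option autoImplicit false
set_option linter.unusedSectionVars false

namespace Cfsg.Agent.LAE65.NonDiv

universe u

variable {Q : Type u} [Group Q] [Finite Q]

theorem commutator_pow_left (V : Subgroup Q) (hV : ∀ a b : Q, a * b * a⁻¹ * b⁻¹ ∈ V)
    (hc : ∀ v ∈ V, ∀ g : Q, g * v = v * g) (g h : Q) :
    ∀ k : ℕ, g ^ k * h * (g ^ k)⁻¹ * h⁻¹ = (g * h * g⁻¹ * h⁻¹) ^ k := by
  intro k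
  induction k with
  | zero => simp
  | succ k ih =>
    rw [pow_succ g k]
    calc g ^ k * g * h * (g ^ k * g)⁻¹ * h⁻¹
        = g ^ k * (g * h * g⁻¹ * h⁻¹) * (h * (g ^ k)⁻¹ * h⁻¹) := by group
      _ = (g * h * g⁻¹ * h⁻¹) * (g ^ k * h * (g ^ k)⁻¹ * h⁻¹) := by
          rw [hc _ (hV g h) (g ^ k)]; group
      _ = _ := by rw [ih, pow_succ']

/-- Either a group of prime power order or a Frobenius group with elementary abelian kernel. -/
theorem just_nonabelian (hs : Group.IsSolvable Q) (hne : commutator Q ≠ ⊥)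
    (hmin : ∀ Y : Subgroup Q, Y.Normal → Y ≠ ⊥ → commutator Q ≤ Y) :
    ∃ r : ℕ, r.Prime ∧ (IsPGroup r Q ∨
      (commutator Q ≠ ⊤ ∧ (∀ v ∈ commutator Q, v ^ r = 1) ∧
        (∀ v ∈ commutator Q, ∀ w ∈ commutator Q, v * w = w * v) ∧
        ∀ g, g ∉ commutator Q → ∀ v ∈ commutator Q, g * v = v * g → v = 1)) := by
  set V := commutator Q with hVdef
  have hder : ∀ a b : Q, a * b * a⁻¹ * b⁻¹ ∈ V := fun a b => by
    rw [hVdef, ← commutatorElement_def]
    exact Subgroup.commutator_mem_commutator (Subgroup.mem_top a) (Subgroup.mem_top b)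
  obtain ⟨hab, r, hr, hrV⟩ := minimal_normal_solvable hs V hne fun Y hY hle => by
    by_cases h : Y = ⊥
    · exact Or.inl h
    · exact Or.inr (le_antisymm hle (hmin Y hY h))
  refine ⟨r, hr, ?_⟩
  by_cases hc : ∀ v ∈ V, ∀ g : Q, g * v = v * g
  · refine Or.inl fun g => ?_
    obtain ⟨a, m, hm, ho⟩ := Nat.exists_eq_pow_mul_and_not_dvd (orderOf_pos g).ne' r hr.ne_one
    refine ⟨a, ?_⟩
    set y := g ^ r ^ a with hy
    have hym : y ^ m = 1 := by rw [hy, ← pow_mul, ← ho, pow_orderOf_eq_one]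
    have hcop : Nat.Coprime r m := hr.coprime_iff_not_dvd.mpr hm
    have hcen : ∀ h : Q, y * h = h * y := fun h => by
      have h1 := commutator_pow_left V hder hc y h m
      rw [hym, one_mul, inv_one, mul_one, mul_inv_cancel] at h1
      have h2 := orderOf_eq_one_iff.mp (Nat.eq_one_of_dvd_coprimes hcop
        (orderOf_dvd_of_pow_eq_one (hrV _ (hder y h))) (orderOf_dvd_of_pow_eq_one h1.symm))
      rwa [mul_inv_eq_one, mul_inv_eq_iff_eq_mul] at h2
    by_contra hy1
    have hYn : (Subgroup.zpowers y).Normal := ⟨fun z hz h => by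
      obtain ⟨i, rfl⟩ := Subgroup.mem_zpowers_iff.mp hz
      rw [show h * y ^ i = y ^ i * h from ((show Commute h y from (hcen h).symm).zpow_right i),
        mul_inv_cancel_right]
      exact Subgroup.mem_zpowers_iff.mpr ⟨i, rfl⟩⟩
    have hle := hmin _ hYn (by rwa [Ne, Subgroup.zpowers_eq_bot])
    refine hne ((Subgroup.eq_bot_iff_forall V).mpr fun v hv => ?_)
    refine orderOf_eq_one_iff.mp (Nat.eq_one_of_dvd_coprimes hcop
      (orderOf_dvd_of_pow_eq_one (hrV v hv)) ?_)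
    exact ((orderOf_dvd_of_mem_zpowers (hle hv)).trans (orderOf_dvd_of_pow_eq_one hym))
  · refine Or.inr ?_
    push Not at hc
    obtain ⟨v0, hv0, g0, hg0⟩ := hc
    set C := Subgroup.centralizer (V : Set Q) with hC
    have hfix : ∀ g, g ∉ C → ∀ v ∈ V, g * v = v * g → v = 1 := by
      intro g hg v hv he
      set Y := V ⊓ Subgroup.centralizer ({g} : Set Q) with hY
      have hYn : Y.Normal := by
        refine ⟨fun w hw h => ⟨Subgroup.Normal.conj_mem inferInstance w hw.1 h, ?_⟩⟩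
        have hw2 : g * w = w * g := (Subgroup.mem_centralizer_singleton_iff.mp hw.2).symm
        have hhw : h * w * h⁻¹ ∈ V := Subgroup.Normal.conj_mem inferInstance w hw.1 h
        refine Subgroup.mem_centralizer_singleton_iff.mpr ?_
        symm
        rw [← mul_inv_eq_iff_eq_mul]
        calc g * (h * w * h⁻¹) * g⁻¹
            = (g * h * g⁻¹ * h⁻¹) * (h * (g * w * g⁻¹) * h⁻¹) * (g * h * g⁻¹ * h⁻¹)⁻¹ := by group
          _ = _ := by
              rw [hw2, mul_inv_cancel_right, hab _ (hder g h) _ hhw, mul_inv_cancel_right]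
      by_contra hv1
      have hYne : Y ≠ ⊥ := fun h => hv1 (Subgroup.mem_bot.mp
        (h ▸ (⟨hv, Subgroup.mem_centralizer_singleton_iff.mpr he.symm⟩ : v ∈ Y)))
      exact hg (Subgroup.mem_centralizer_iff.mpr fun w hw =>
        (Subgroup.mem_centralizer_singleton_iff.mp (hmin Y hYn hYne hw).2))
    have hg0C : g0 ∉ C := fun h => hg0 (Subgroup.mem_centralizer_iff.mp h v0 hv0).symm
    have hCV : ∀ c ∈ C, c ∈ V := by
      intro c hc
      let f : V → V := fun w => ⟨(w : Q) * g0 * (w : Q)⁻¹ * g0⁻¹, hder w g0⟩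
      have hf : Function.Injective f := by
        intro s t hst
        have e : (s : Q) * g0 * (s : Q)⁻¹ * g0⁻¹ = t * g0 * (t : Q)⁻¹ * g0⁻¹ := congrArg Subtype.val hst
        have e2 : g0 * ((s : Q)⁻¹ * t) = ((s : Q)⁻¹ * t) * g0 := by
          calc g0 * ((s : Q)⁻¹ * t) = (s : Q)⁻¹ * ((s : Q) * g0 * (s : Q)⁻¹ * g0⁻¹) * g0 * t := by group
            _ = _ := by rw [e]; group
        exact Subtype.ext (inv_mul_eq_one.mp (hfix g0 hg0C _ (V.mul_mem (V.inv_mem s.2) t.2) e2))
      obtain ⟨w, hw⟩ := Finite.injective_iff_surjective.mp hf ⟨_, hder c g0⟩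
      have hw' : (w : Q) * g0 * (w : Q)⁻¹ * g0⁻¹ = c * g0 * c⁻¹ * g0⁻¹ := congrArg Subtype.val hw
      set d := (w : Q)⁻¹ * c with hd
      have hdg : d * g0 = g0 * d := by
        calc d * g0 = (w : Q)⁻¹ * (c * g0 * c⁻¹ * g0⁻¹) * g0 * c := by rw [hd]; group
          _ = _ := by rw [← hw', hd]; group
      have hdC : d ∈ C := C.mul_mem (C.inv_mem (Subgroup.mem_centralizer_iff.mpr
        fun x hx => hab x hx w w.2)) hc
      have hdcen : ∀ h : Q, d * h = h * d := by
        intro h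
        have hu : h⁻¹ * d * h * d⁻¹ ∈ V := by
          have := hder h⁻¹ d
          rwa [inv_inv] at this
        have e : d * (h * g0 * h⁻¹ * g0⁻¹) = (h * g0 * h⁻¹ * g0⁻¹) * d :=
          (Subgroup.mem_centralizer_iff.mp hdC _ (hder h g0)).symm
        have e1 : (d * h * d⁻¹) * g0 * (d * h * d⁻¹)⁻¹ = h * g0 * h⁻¹ := by
          have h2 : d⁻¹ * g0 * d = g0 := by rw [mul_assoc, ← hdg, inv_mul_cancel_left]
          calc (d * h * d⁻¹) * g0 * (d * h * d⁻¹)⁻¹ = d * h * (d⁻¹ * g0 * d) * h⁻¹ * d⁻¹ := by group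
            _ = (d * (h * g0 * h⁻¹ * g0⁻¹)) * g0 * d⁻¹ := by rw [h2]; group
            _ = h * g0 * h⁻¹ * g0⁻¹ * (d * g0) * d⁻¹ := by rw [e]; group
            _ = _ := by rw [hdg]; group
        have e2 : g0 * (h⁻¹ * d * h * d⁻¹) = (h⁻¹ * d * h * d⁻¹) * g0 := by
          calc g0 * (h⁻¹ * d * h * d⁻¹) = h⁻¹ * (h * g0 * h⁻¹) * d * h * d⁻¹ := by group
            _ = _ := by rw [← e1]; group
        have h3 := hfix g0 hg0C _ hu e2
        rw [mul_inv_eq_one, mul_assoc, inv_mul_eq_iff_eq_mul] at h3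
        exact h3
      have hd1 : d = 1 := by
        by_contra hd1
        have hYn : (Subgroup.zpowers d).Normal := ⟨fun z hz h => by
          obtain ⟨i, rfl⟩ := Subgroup.mem_zpowers_iff.mp hz
          rw [show h * d ^ i = d ^ i * h from ((show Commute h d from (hdcen h).symm).zpow_right i),
            mul_inv_cancel_right]
          exact Subgroup.mem_zpowers_iff.mpr ⟨i, rfl⟩⟩
        have hle := hmin _ hYn (by rwa [Ne, Subgroup.zpowers_eq_bot])
        refine hg0 ?_
        obtain ⟨i, hi⟩ := Subgroup.mem_zpowers_iff.mp (hle hv0)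
        rw [← hi]
        exact (show Commute g0 d from (hdcen g0).symm).zpow_right i
      rw [inv_mul_eq_one] at hd1
      exact hd1 ▸ w.2
    refine ⟨fun h => ?_, hrV, hab, fun g hg => hfix g fun h => hg (hCV g h)⟩
    exact hg0C (Subgroup.mem_centralizer_iff.mpr fun w hw => hab w hw g0 (h.symm ▸ Subgroup.mem_top g0))

end Cfsg.Agent.LAE65.NonDiv
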