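import Cfsg.Agent.LAE65.NonDiv.Auto
import Cfsg.Agent.LAE65.NonDiv.JustNonabelian
import Mathlib.Combinatorics.SimpleGraph.Connectivity.Connected

/-!
A solvable group without divisibility among degrees and a disconnected degree graph.
-/

set_option autoImplicit false
set_option linter.unusedSectionVars false

namespace Cfsg.Agent.LAE65.NonDiv

open Cfsg.Agent.CharDeep.Ext BC86.RelGraph

universe u

variable {G : Type u} [Group G] [Finite G]

theorem reach_of_dvd {s t : ℕ} (hs : s ∈ Cfsg.degreePrimes G) (ht : t ∈ Cfsg.degreePrimes G)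
    (χ : Cfsg.IrrCharacter G) (h1 : s ∣ Cfsg.charDegree (χ : G → ℂ))
    (h2 : t ∣ Cfsg.charDegree (χ : G → ℂ)) :
    ((Cfsg.degreeGraph G).induce (Cfsg.degreePrimes G)).Reachable ⟨s, hs⟩ ⟨t, ht⟩ := by
  by_cases h : s = t
  · subst h
    exact SimpleGraph.Reachable.refl _
  · exact SimpleGraph.Adj.reachable
      (show (Cfsg.degreeGraph G).Adj s t from ⟨h, hs.1, ht.1, _, ⟨χ, rfl⟩,
        ((Nat.coprime_primes hs.1 ht.1).mpr h).mul_dvd_of_dvd_of_dvd h1 h2⟩)

theorem not_hub (htwo : Nat.card ((Cfsg.degreeGraph G).induce (Cfsg.degreePrimes G)).ConnectedComponent = 2)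
    (r : ℕ) (h : ∀ (s : ℕ) (hs : s ∈ Cfsg.degreePrimes G) (hr : r ∈ Cfsg.degreePrimes G),
      ((Cfsg.degreeGraph G).induce (Cfsg.degreePrimes G)).Reachable ⟨s, hs⟩ ⟨r, hr⟩)
    (hr : (∃ s, s ∈ Cfsg.degreePrimes G) → r ∈ Cfsg.degreePrimes G) : False := by
  have hp : ((Cfsg.degreeGraph G).induce (Cfsg.degreePrimes G)).Preconnected := fun a b =>
    (h a a.2 (hr ⟨a, a.2⟩)).trans (h b b.2 (hr ⟨a, a.2⟩)).symm
  have := SimpleGraph.Preconnected.subsingleton_connectedComponent hp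
  have := Finite.card_le_one_iff_subsingleton.mpr this
  omega

/-- The nonlinear degrees have no common prime. -/
theorem not_common_prime
    (htwo : Nat.card ((Cfsg.degreeGraph G).induce (Cfsg.degreePrimes G)).ConnectedComponent = 2)
    {p : ℕ} (hp : p.Prime) (h : ∀ χ : Cfsg.IrrCharacter G, 1 < Cfsg.charDegree (χ : G → ℂ) →
      p ∣ Cfsg.charDegree (χ : G → ℂ)) : False := by
  have hbig : ∀ s ∈ Cfsg.degreePrimes G, ∃ χ : Cfsg.IrrCharacter G,
      s ∣ Cfsg.charDegree (χ : G → ℂ) ∧ p ∣ Cfsg.charDegree (χ : G → ℂ) := by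
    rintro s ⟨hs, d, ⟨χ, rfl⟩, hd⟩
    exact ⟨χ, hd, h χ (lt_of_lt_of_le hs.one_lt (Nat.le_of_dvd (CharDeep.Deg.degree_pos χ) hd))⟩
  refine not_hub htwo p (fun s hs hr => ?_) fun ⟨s, hs⟩ => ?_
  · obtain ⟨χ, h1, h2⟩ := hbig s hs
    exact reach_of_dvd hs hr χ h1 h2
  · obtain ⟨χ, -, h2⟩ := hbig s hs
    exact ⟨hp, _, ⟨χ, rfl⟩, h2⟩

theorem exists_quotient_data (hs : Group.IsSolvable G) (hnab : commutator G ≠ ⊥) :
    ∃ K : Subgroup G, ∃ _ : K.Normal, ∃ r : ℕ, r.Prime ∧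
      ((IsPGroup r (G ⧸ K) ∧ ¬ commutator G ≤ K) ∨
      ∃ N : Subgroup G, N.Normal ∧ commutator G ≤ N ∧ K ≤ N ∧ N ≠ ⊤ ∧ N ≠ K ∧
        (∀ v ∈ N, v ^ r ∈ K) ∧ (∀ v ∈ N, ∀ w ∈ N, v * w * v⁻¹ * w⁻¹ ∈ K) ∧
        ∀ g, g ∉ N → ∀ v ∈ N, g * v * g⁻¹ * v⁻¹ ∈ K → v ∈ K) := by
  obtain ⟨K, hKn, hK, hmax⟩ := exists_maximal_normal (N := G) (fun Y => ¬ commutator G ≤ Y)
    ⟨⊥, inferInstance, fun h => hnab (le_bot_iff.mp h)⟩
  refine ⟨K, hKn, ?_⟩
  set q := QuotientGroup.mk' K with hq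
  have hsurj := QuotientGroup.mk'_surjective K
  have hker : q.ker = K := QuotientGroup.ker_mk' K
  have hmap : (commutator G).map q = commutator (G ⧸ K) := by
    rw [commutator_def, Subgroup.map_commutator, Subgroup.map_top_of_surjective q hsurj,
      ← commutator_def]
  have hne : commutator (G ⧸ K) ≠ ⊥ := fun h => hK (by
    rw [← hker, ← Subgroup.map_eq_bot_iff, hmap, h])
  obtain ⟨r, hr, hcase⟩ := just_nonabelian (Q := G ⧸ K) inferInstance hne fun Y hY hY0 => by
    by_contra hle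
    have h2 := hmax (Y.comap q) (hY.comap q) (fun h => hle (by
      rw [← hmap, Subgroup.map_le_iff_le_comap]; exact h)) (hker.symm.trans_le (Subgroup.ker_le_comap q Y))
    refine hY0 ?_
    rw [← Subgroup.map_comap_eq_self_of_surjective hsurj Y, h2]
    exact QuotientGroup.map_mk'_self K
  refine ⟨r, hr, hcase.imp (fun h => ⟨h, hK⟩) ?_⟩
  rintro ⟨htop, hpow, hab, hfix⟩
  have hk1 : ∀ g, q g = 1 ↔ g ∈ K := fun g => QuotientGroup.eq_one_iff g
  refine ⟨(commutator (G ⧸ K)).comap q, Subgroup.Normal.comap inferInstance q,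
    hmap ▸ Subgroup.le_comap_map q _, hker.symm.trans_le (Subgroup.ker_le_comap q _), fun h => htop ?_,
    fun h => hne ?_, fun v hv => (hk1 _).mp ((map_pow q v r).trans (hpow _ hv)),
    fun v hv w hw => (hk1 _).mp ?_, fun g hg v hv hc => (hk1 _).mp (hfix _ hg _ hv ?_)⟩
  · rw [← Subgroup.map_comap_eq_self_of_surjective hsurj (commutator (G ⧸ K)), h,
      Subgroup.map_top_of_surjective q hsurj]
  · rw [← Subgroup.map_comap_eq_self_of_surjective hsurj (commutator (G ⧸ K)), h]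
    exact QuotientGroup.map_mk'_self K
  · rw [map_mul, map_mul, map_mul, map_inv, map_inv, hab _ hv _ hw]
    group
  · have e : q (g * v * g⁻¹ * v⁻¹) = 1 := (hk1 _).mpr hc
    rwa [map_mul, map_mul, map_mul, map_inv, map_inv, mul_inv_eq_one, mul_inv_eq_iff_eq_mul] at e

/-- The prime power quotient is impossible. -/
theorem not_pgroup_quotient (hnd : NoDvd G)
    (htwo : Nat.card ((Cfsg.degreeGraph G).induce (Cfsg.degreePrimes G)).ConnectedComponent = 2)
    {p : ℕ} (hp : p.Prime) (K : Subgroup G) [K.Normal] (hK : IsPGroup p (G ⧸ K))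
    (hnab : ¬ commutator G ≤ K) : False := by
  classical
  have := Fintype.ofFinite G
  have := Fintype.ofFinite K
  have := Fact.mk hp
  obtain ⟨k, hk⟩ := IsPGroup.exists_card_eq hK
  obtain ⟨η, hη⟩ : ∃ η : Cfsg.IrrCharacter (G ⧸ K), Cfsg.charDegree (η : G ⧸ K → ℂ) ≠ 1 := by
    by_contra! h
    refine hnab (Subgroup.commutator_le.mpr fun g _ h' _ => ?_)
    rw [← QuotientGroup.ker_mk' K, MonoidHom.mem_ker, map_commutatorElement,
      commutatorElement_eq_one_iff_commute]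
    exact CharDeep.Deg.commute_of_degree_one h _ _
  obtain ⟨b, -, hb⟩ := (Nat.dvd_prime_pow hp).mp (hk ▸ degree_dvd_card η)
  obtain ⟨η0, hη0, hη0v⟩ := CharDeep.Deg.exists_inflate K η
  have hη0K : ∀ (n : K) g, (η0 : G → ℂ) ((n : G) * g) = (η0 : G → ℂ) g := fun n g => by
    rw [hη0v, hη0v, map_mul, show QuotientGroup.mk' K (n : G) = 1 from (QuotientGroup.eq_one_iff _).mpr n.2,
      one_mul]
  refine not_common_prime htwo hp fun χ hχ => ?_
  by_contra hpd
  obtain ⟨θ, hθ⟩ := CharDeep.Deg.exists_constituent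
    (CharCore.isCharacter_restrict (CharCore.irr_isCharacter χ) K)
    (by simpa using CharCore.irr_apply_one_ne_zero χ)
  obtain ⟨hd1, hd2⟩ := CharB.degree_dvd K χ.2 θ.2 hθ (CharDeep.Deg.apply_one χ) (CharDeep.Deg.apply_one θ)
  rw [Subgroup.index_eq_card, hk] at hd2
  have hq1 : Cfsg.charDegree (χ : G → ℂ) / Cfsg.charDegree (θ : K → ℂ) = 1 :=
    Nat.eq_one_of_dvd_coprimes ((hp.coprime_iff_not_dvd.mpr
      fun h => hpd (h.trans (Nat.div_dvd_of_dvd hd1))).pow_left k) hd2 dvd_rfl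
  have heq : Cfsg.charDegree (χ : G → ℂ) = Cfsg.charDegree (θ : K → ℂ) := by
    have h := Nat.div_mul_cancel hd1
    rw [hq1, one_mul] at h
    exact h.symm
  have hres : (fun n : K => (χ : G → ℂ) n) = (θ : K → ℂ) := by
    rcases CharDeep.Deg.eq_or_degree_lt (CharCore.isCharacter_restrict (CharCore.irr_isCharacter χ) K) θ hθ
      (CharDeep.Deg.apply_one θ) (b := Cfsg.charDegree (χ : G → ℂ))
      (by simpa using CharDeep.Deg.apply_one χ) with h | h
    · exact h
    · omega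
  have hirr := CharDeep.Ext.isIrrCharacter_mul χ.2 (hres.symm ▸ θ.2) η0.2 hη0K
  have hdeg : Cfsg.charDegree ((η0 : G → ℂ) * (χ : G → ℂ))
      = Cfsg.charDegree (η : G ⧸ K → ℂ) * Cfsg.charDegree (χ : G → ℂ) := CharDeep.Deg.degree_of_eq (by
    rw [Pi.mul_apply, CharDeep.Deg.apply_one η0, CharDeep.Deg.apply_one χ, hη0]
    push_cast
    rfl)
  have h1 := hnd χ ⟨_, hirr⟩ hχ ⟨_, hdeg.trans (mul_comm _ _)⟩
  change Cfsg.charDegree (χ : G → ℂ) = Cfsg.charDegree ((η0 : G → ℂ) * (χ : G → ℂ)) at h1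
  rw [hdeg] at h1
  exact hη ((mul_eq_right₀ (CharDeep.Deg.degree_pos χ).ne').mp h1.symm)

/-- An irreducible character of degree prime to `r` gives a multiple of the index. -/
theorem exists_degree_index_mul (K N : Subgroup G) [K.Normal] [hN : N.Normal] (hKN : K ≤ N)
    (hder : commutator G ≤ N) (hne : N ≠ K) {r : ℕ} (hr : r.Prime) (hpow : ∀ v ∈ N, v ^ r ∈ K)
    (hab : ∀ v ∈ N, ∀ w ∈ N, v * w * v⁻¹ * w⁻¹ ∈ K)
    (hfix : ∀ g, g ∉ N → ∀ v ∈ N, g * v * g⁻¹ * v⁻¹ ∈ K → v ∈ K) (ψ : Cfsg.IrrCharacter N)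
    (hψ : ¬ r ∣ Cfsg.charDegree (ψ : N → ℂ)) :
    ∃ χ : Cfsg.IrrCharacter G,
      Cfsg.charDegree (χ : G → ℂ) = N.index * Cfsg.charDegree (ψ : N → ℂ) := by
  classical
  have := Fintype.ofFinite G
  have := Fintype.ofFinite N
  set d := Cfsg.charDegree (ψ : N → ℂ) with hd
  set K' := K.subgroupOf N with hK'
  set V := N ⧸ K'
  have hVab : ∀ a b : V, a * b = b * a := by
    intro a b
    obtain ⟨v, rfl⟩ := QuotientGroup.mk'_surjective K' a
    obtain ⟨w, rfl⟩ := QuotientGroup.mk'_surjective K' b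
    rw [← commutatorElement_eq_one_iff_mul_comm, ← map_commutatorElement, ← MonoidHom.mem_ker,
      QuotientGroup.ker_mk', hK', Subgroup.mem_subgroupOf]
    simpa [commutatorElement_def] using hab v v.2 w w.2
  let tw : (V →* ℂˣ) → Cfsg.IrrCharacter N := fun l =>
    ⟨fun n => ((l.comp (QuotientGroup.mk' K')) n : ℂ) * (ψ : N → ℂ) n,
      CharCore.isIrrCharacter_hom_mul _ ψ.2⟩
  have hone : ∀ g, g ∉ N → ∀ l l' : V →* ℂˣ, g ∈ inertia N (tw l : N → ℂ) →
      g ∈ inertia N (tw l' : N → ℂ) → l = l' := by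
    intro g hg l l' h h'
    let σ : N →* N := (MulAut.conjNormal g : MulAut N).toMonoidHom
    have hdet : ∀ l : V →* ℂˣ, g ∈ inertia N (tw l : N → ℂ) →
        ((l.comp (QuotientGroup.mk' K')) ^ d * detHom (ψ : N → ℂ)).comp σ =
          (l.comp (QuotientGroup.mk' K')) ^ d * detHom (ψ : N → ℂ) := by
      intro l hl
      have e : detHom (tw l : N → ℂ) = (l.comp (QuotientGroup.mk' K')) ^ d * detHom (ψ : N → ℂ) :=
        detHom_hom_mul _ (CharCore.irr_isCharacter ψ) (CharDeep.Deg.apply_one ψ)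
      rw [← e, ← detHom_comp (CharCore.irr_isCharacter (tw l)) σ]
      congr 1
    have e1 := hdet l h
    have e2 := hdet l' h'
    -- the quotient `μ` satisfies `μ^d` fixed
    set μ := l * l'⁻¹ with hμ
    suffices μ = 1 by exact mul_inv_eq_one.mp this
    have hμfix : ∀ n : N, μ (QuotientGroup.mk' K' (σ n)) ^ d = μ (QuotientGroup.mk' K' n) ^ d := by
      intro n
      have a1 := DFunLike.congr_fun e1 n
      have a2 := DFunLike.congr_fun e2 n
      simp only [MonoidHom.comp_apply, MonoidHom.mul_apply, MonoidHom.pow_apply] at a1 a2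
      have h3 : l (QuotientGroup.mk' K' (σ n)) ^ d / l' (QuotientGroup.mk' K' (σ n)) ^ d
          = l (QuotientGroup.mk' K' n) ^ d / l' (QuotientGroup.mk' K' n) ^ d := by
        have := congrArg₂ (· / ·) a1 a2
        simpa only [mul_div_mul_right_eq_div] using this
      simpa only [hμ, MonoidHom.mul_apply, MonoidHom.inv_apply, mul_pow, inv_pow,
        ← div_eq_mul_inv, div_pow] using h3
    have hpowV : ∀ x : V, x ^ r = 1 := fun x => by
      obtain ⟨v, rfl⟩ := QuotientGroup.mk'_surjective K' x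
      rw [← map_pow, ← MonoidHom.mem_ker, QuotientGroup.ker_mk']
      exact hpow v v.2
    have hcop : Nat.Coprime r d := hr.coprime_iff_not_dvd.mpr hψ
    have hμ1 : ∀ n : N, μ (QuotientGroup.mk' K' (σ n)) = μ (QuotientGroup.mk' K' n) := fun n => by
      refine mul_inv_eq_one.mp (orderOf_eq_one_iff.mp (Nat.eq_one_of_dvd_coprimes hcop
        (orderOf_dvd_of_pow_eq_one ?_) (orderOf_dvd_of_pow_eq_one ?_)))
      · rw [← map_inv, ← map_mul, ← map_pow, hpowV, map_one]
      · rw [mul_pow, inv_pow, hμfix n, mul_inv_cancel]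
    -- surjectivity of the commutator map
    let fV : V →* V := MonoidHom.mk' (fun x => (QuotientGroup.map K' K' σ (fun n hn => by
          change (MulAut.conjNormal g n : N) ∈ K'
          rw [hK', Subgroup.mem_subgroupOf, MulAut.conjNormal_apply]
          exact Subgroup.Normal.conj_mem inferInstance (n : G) hn g)) x * x⁻¹) fun x y => by
        rw [map_mul, mul_inv_rev, hVab y⁻¹ x⁻¹]
        simp only [mul_assoc]
        congr 1
        rw [← mul_assoc, hVab _ x⁻¹, mul_assoc]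
    have hfV : Function.Injective fV := by
      rw [← MonoidHom.ker_eq_bot_iff, Subgroup.eq_bot_iff_forall]
      intro x hx
      obtain ⟨v, rfl⟩ := QuotientGroup.mk'_surjective K' x
      have hx' : QuotientGroup.mk' K' (σ v * v⁻¹) = 1 := by
        rw [map_mul, map_inv]; exact hx
      rw [← MonoidHom.mem_ker, QuotientGroup.ker_mk', hK', Subgroup.mem_subgroupOf] at hx'
      rw [← MonoidHom.mem_ker, QuotientGroup.ker_mk', hK', Subgroup.mem_subgroupOf]
      refine hfix g hg v v.2 ?_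
      simpa [σ, MulAut.conjNormal_apply] using hx'
    refine MonoidHom.ext fun x => ?_
    obtain ⟨y, rfl⟩ := Finite.injective_iff_surjective.mp hfV x
    obtain ⟨v, rfl⟩ := QuotientGroup.mk'_surjective K' y
    change μ (QuotientGroup.mk' K' (σ v) * (QuotientGroup.mk' K' v)⁻¹) = 1
    rw [map_mul, map_inv, hμ1, mul_inv_cancel]
  -- semiregularity bounds the index
  obtain ⟨v0, hv0, hv0K⟩ := SetLike.exists_of_lt (lt_of_le_of_ne hKN (Ne.symm hne))
  have hle : N.index < Nat.card V := by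
    let f : G ⧸ N → V := fun x => QuotientGroup.mk' K'
      ⟨x.out * v0 * x.out⁻¹, hN.conj_mem v0 hv0 _⟩
    have hf : ∀ x, f x ≠ 1 := fun x h => by
      rw [← MonoidHom.mem_ker, QuotientGroup.ker_mk', hK', Subgroup.mem_subgroupOf] at h
      apply hv0K
      have := Subgroup.Normal.conj_mem (H := K) inferInstance _ h x.out⁻¹
      simpa [mul_assoc] using this
    have hinj : Function.Injective f := by
      intro x y he
      by_contra hxy
      have hg : x.out⁻¹ * y.out ∉ N := fun h => hxy (by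
        rw [← x.out_eq, ← y.out_eq]
        exact QuotientGroup.eq.mpr h)
      apply hv0K
      refine hfix _ hg v0 hv0 ?_
      have he' : (⟨x.out * v0 * x.out⁻¹, hN.conj_mem v0 hv0 _⟩ : N)⁻¹ *
          ⟨y.out * v0 * y.out⁻¹, hN.conj_mem v0 hv0 _⟩ ∈ K' := QuotientGroup.eq.mp he
      rw [hK', Subgroup.mem_subgroupOf] at he'
      have h2 := Subgroup.Normal.conj_mem (H := K) inferInstance _ he' (v0 * x.out⁻¹)
      rw [show v0 * x.out⁻¹ * (((⟨x.out * v0 * x.out⁻¹, hN.conj_mem v0 hv0 _⟩ : N)⁻¹ *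
          ⟨y.out * v0 * y.out⁻¹, hN.conj_mem v0 hv0 _⟩ : N) : G) * (v0 * x.out⁻¹)⁻¹
          = x.out⁻¹ * y.out * v0 * (x.out⁻¹ * y.out)⁻¹ * v0⁻¹ by
        simp only [Subgroup.coe_mul, InvMemClass.coe_inv]; group] at h2
      exact h2
    have hinj' : Function.Injective fun o : Option (G ⧸ N) => o.elim 1 f := by
      rintro (_ | x) (_ | y) h
      · rfl
      · exact absurd h.symm (hf y)
      · exact absurd h (hf x)
      · exact congrArg some (hinj h)
    have h := Nat.card_le_card_of_injective _ hinj'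
    rw [Finite.card_option] at h
    rw [N.index_eq_card]
    exact h
  obtain ⟨l, hl⟩ : ∃ l : V →* ℂˣ, inertia N (tw l : N → ℂ) ≤ N := by
    by_contra! hcon
    choose g hg hgN using fun l => SetLike.not_le_iff_exists.mp (hcon l)
    have hinj : Function.Injective fun l => QuotientGroup.mk' N (g l) := by
      intro l l' h
      refine hone (g l') (hgN l') l l' ?_ (hg l')
      have h' : (g l)⁻¹ * g l' ∈ N := QuotientGroup.eq.mp h
      have := (inertia N (tw l : N → ℂ)).mul_mem (hg l) (le_inertia N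
        (CharCore.irr_isClassFunction (tw l)) h')
      simpa using this
    have h := Nat.card_le_card_of_injective _ hinj
    rw [card_hom_eq hVab] at h
    have := N.index_eq_card
    omega
  obtain ⟨χ, -, hχ⟩ := exists_degree_of_ext N (tw l).2 (d := d)
    (by
      change ((l.comp (QuotientGroup.mk' K')) 1 : ℂ) * (ψ : N → ℂ) 1 = _
      rw [map_one, Units.val_one, one_mul, CharDeep.Deg.apply_one ψ])
    N (le_antisymm hl (le_inertia N (CharCore.irr_isClassFunction (tw l)))) le_rfl (tw l)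
    (fun n => rfl)
  exact ⟨χ, hχ⟩

/-- Exactly three degrees. -/
theorem three_degrees (hs : Group.IsSolvable G) (hnd : NoDvd G)
    (htwo : Nat.card ((Cfsg.degreeGraph G).induce (Cfsg.degreePrimes G)).ConnectedComponent = 2) :
    Nat.card (Cfsg.charDegrees G) = 3 := by
  classical
  have := Fintype.ofFinite G
  have hnab : commutator G ≠ ⊥ := by
    intro h
    refine not_common_prime htwo Nat.prime_two fun χ hχ => ?_
    have hab : ∀ a ∈ (⊤ : Subgroup G), ∀ b ∈ (⊤ : Subgroup G), a * b = b * a := fun a _ b _ => by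
      have h1 : a * b * a⁻¹ * b⁻¹ ∈ commutator G := by
        rw [← commutatorElement_def]
        exact Subgroup.commutator_mem_commutator (Subgroup.mem_top a) (Subgroup.mem_top b)
      rwa [h, Subgroup.mem_bot, mul_inv_eq_one, mul_inv_eq_iff_eq_mul] at h1
    have := CharDeep.Deg.degree_dvd_index χ ⊤ hab
    rw [Subgroup.index_top, Nat.dvd_one] at this
    omega
  obtain ⟨K, hKn, r, hr, ⟨hp, hK⟩ | ⟨N, hNn, hder, hKN, htop, hne, hpow, hab, hfix⟩⟩ :=
    exists_quotient_data hs hnab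
  · exact (not_pgroup_quotient hnd htwo hr K hp hK).elim
  have := Fintype.ofFinite N
  set f := N.index with hf
  have hf1 : 1 < f := by
    have h1 : f ≠ 1 := fun h => htop (Subgroup.index_eq_one.mp h)
    have h0 : f ≠ 0 := Subgroup.index_ne_zero_of_finite
    omega
  -- `f` is a degree
  let one' : Cfsg.IrrCharacter N := ⟨1, CharCore.isIrrCharacter_one⟩
  have hone : Cfsg.charDegree (one' : N → ℂ) = 1 := CharDeep.Deg.degree_of_eq (by simp [one'])
  obtain ⟨χf, hχf⟩ := exists_degree_index_mul K N hKN hder hne hr hpow hab hfix one'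
    (by rw [hone, Nat.dvd_one]; exact hr.ne_one)
  rw [hone, mul_one, ← hf] at hχf
  have hRD : ∀ ψ : Cfsg.IrrCharacter N, Cfsg.charDegree (ψ : N → ℂ) ≠ 1 →
      r ∣ Cfsg.charDegree (ψ : N → ℂ) := by
    intro ψ hψ
    by_contra hrd
    obtain ⟨χ, hχ⟩ := exists_degree_index_mul K N hKN hder hne hr hpow hab hfix ψ hrd
    have h1 := hnd χf χ (hχf ▸ hf1) (by rw [hχf, hχ]; exact dvd_mul_right _ _)
    rw [hχf, hχ, ← hf] at h1
    exact hψ ((mul_eq_left₀ (by omega)).mp h1.symm)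
  have hdich : ∀ χ : Cfsg.IrrCharacter G, 1 < Cfsg.charDegree (χ : G → ℂ) →
      Cfsg.charDegree (χ : G → ℂ) = f ∨ r ∣ Cfsg.charDegree (χ : G → ℂ) := by
    intro χ hχ
    obtain ⟨θ, hθ⟩ := CharDeep.Deg.exists_constituent
      (CharCore.isCharacter_restrict (CharCore.irr_isCharacter χ) N)
      (by simpa using CharCore.irr_apply_one_ne_zero χ)
    obtain ⟨hd1, hd2⟩ := CharB.degree_dvd N χ.2 θ.2 hθ (CharDeep.Deg.apply_one χ) (CharDeep.Deg.apply_one θ)
    by_cases h1 : Cfsg.charDegree (θ : N → ℂ) = 1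
    · rw [h1, Nat.div_one] at hd2
      exact Or.inl ((hnd χ χf hχ (hχf ▸ hd2)).trans hχf)
    · exact Or.inr ((hRD θ h1).trans hd1)
  have hrf : ¬ r ∣ f := fun h => not_common_prime htwo hr fun χ hχ => by
    rcases hdich χ hχ with e | e
    · exact e ▸ h
    · exact e
  -- the other degrees
  have hoth : ∀ χ : Cfsg.IrrCharacter G, 1 < Cfsg.charDegree (χ : G → ℂ) →
      Cfsg.charDegree (χ : G → ℂ) ≠ f → Nat.Coprime (Cfsg.charDegree (χ : G → ℂ)) f := by
    intro χ hχ hχne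
    have hrχ := (hdich χ hχ).resolve_left hχne
    rw [Nat.coprime_iff_gcd_eq_one]
    by_contra hg
    obtain ⟨s, hs', hsd⟩ := Nat.exists_prime_and_dvd hg
    have hsχ := hsd.trans (Nat.gcd_dvd_left _ _)
    have hsf := hsd.trans (Nat.gcd_dvd_right _ _)
    have hrmem : r ∈ Cfsg.degreePrimes G := ⟨hr, _, ⟨χ, rfl⟩, hrχ⟩
    have hsmem : s ∈ Cfsg.degreePrimes G := ⟨hs', _, ⟨χ, rfl⟩, hsχ⟩
    refine not_hub htwo r (fun t ht hr' => ?_) fun _ => hrmem
    obtain ⟨htp, _, ⟨φ, rfl⟩, htd⟩ := id ht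
    have hφ1 : 1 < Cfsg.charDegree (φ : G → ℂ) :=
      lt_of_lt_of_le htp.one_lt (Nat.le_of_dvd (CharDeep.Deg.degree_pos φ) htd)
    rcases hdich φ hφ1 with e | e
    · exact (reach_of_dvd ht hsmem φ htd (e ▸ hsf)).trans (reach_of_dvd hsmem hr' χ hsχ hrχ)
    · exact reach_of_dvd ht hr' φ htd e
  obtain ⟨χd, hχd1, hχdne⟩ : ∃ χ : Cfsg.IrrCharacter G,
      1 < Cfsg.charDegree (χ : G → ℂ) ∧ Cfsg.charDegree (χ : G → ℂ) ≠ f := by
    by_contra! h
    obtain ⟨s, hs', hsf⟩ := Nat.exists_prime_and_dvd (show f ≠ 1 by omega)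
    exact not_common_prime htwo hs' fun χ hχ => (h χ hχ).symm ▸ hsf
  have hres : ∀ χ : Cfsg.IrrCharacter G, 1 < Cfsg.charDegree (χ : G → ℂ) →
      Cfsg.charDegree (χ : G → ℂ) ≠ f → ∀ θ : Cfsg.IrrCharacter N,
      Cfsg.classInner (fun n : N => (χ : G → ℂ) n) (θ : N → ℂ) ≠ 0 →
      (fun n : N => (χ : G → ℂ) n) = (θ : N → ℂ) ∧
        Cfsg.charDegree (θ : N → ℂ) = Cfsg.charDegree (χ : G → ℂ) := by
    intro χ hχ hχne θ hθ
    obtain ⟨hd1, hd2⟩ := CharB.degree_dvd N χ.2 θ.2 hθ (CharDeep.Deg.apply_one χ) (CharDeep.Deg.apply_one θ)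
    have h1 := Nat.eq_one_of_dvd_coprimes (hoth χ hχ hχne) (Nat.div_dvd_of_dvd hd1) hd2
    have heq : Cfsg.charDegree (θ : N → ℂ) = Cfsg.charDegree (χ : G → ℂ) := by
      have h := Nat.div_mul_cancel hd1
      rwa [h1, one_mul] at h
    refine ⟨?_, heq⟩
    rcases CharDeep.Deg.eq_or_degree_lt (CharCore.isCharacter_restrict (CharCore.irr_isCharacter χ) N) θ hθ
      (CharDeep.Deg.apply_one θ) (b := Cfsg.charDegree (χ : G → ℂ))
      (by simpa using CharDeep.Deg.apply_one χ) with h | h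
    · exact h
    · omega
  have hlift : ∀ ψ : Cfsg.IrrCharacter N, 1 < Cfsg.charDegree (ψ : N → ℂ) →
      ∃ χ : Cfsg.IrrCharacter G, Cfsg.charDegree (χ : G → ℂ) = Cfsg.charDegree (ψ : N → ℂ) ∧
        (fun n : N => (χ : G → ℂ) n) = (ψ : N → ℂ) ∧ Cfsg.charDegree (χ : G → ℂ) ≠ f := by
    intro ψ hψ
    obtain ⟨χ, hχ⟩ := exists_over_irr' N ψ.2
    have hd1 := (CharB.degree_dvd N χ.2 ψ.2 hχ (CharDeep.Deg.apply_one χ) (CharDeep.Deg.apply_one ψ)).1
    have hχ1 : 1 < Cfsg.charDegree (χ : G → ℂ) :=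
      lt_of_lt_of_le hψ (Nat.le_of_dvd (CharDeep.Deg.degree_pos χ) hd1)
    have hχne : Cfsg.charDegree (χ : G → ℂ) ≠ f := fun e =>
      hrf (e ▸ (hRD ψ (by omega)).trans hd1)
    obtain ⟨h1, h2⟩ := hres χ hχ1 hχne ψ hχ
    exact ⟨χ, h2.symm, h1, hχne⟩
  -- the automorphism
  obtain ⟨l, hl, hlf⟩ := Nat.exists_prime_and_dvd (show f ≠ 1 by omega)
  have := Fact.mk hl
  obtain ⟨x, hx⟩ := exists_prime_orderOf_dvd_card' (G := G ⧸ N) l (by rwa [← Subgroup.index_eq_card])
  obtain ⟨g0, rfl⟩ := QuotientGroup.mk'_surjective N x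
  have hg0 : g0 ∉ N := fun h => by
    have h1 : QuotientGroup.mk' N g0 = 1 := (QuotientGroup.eq_one_iff _).mpr h
    rw [h1, orderOf_one] at hx
    exact hl.ne_one hx.symm
  have hg0l : g0 ^ l ∈ N := by
    rw [← QuotientGroup.ker_mk' N, MonoidHom.mem_ker, map_pow, ← hx, pow_orderOf_eq_one]
  let α : N ≃* N := MulAut.conjNormal g0
  have hα : ∀ n : N, ((α n : N) : G) = g0 * n * g0⁻¹ := fun n => MulAut.conjNormal_apply g0 n
  have hndN : NoDvd N := fun ψ φ h1 hd => by
    obtain ⟨χ, e1, -, -⟩ := hlift ψ h1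
    have h2 : 1 < Cfsg.charDegree (φ : N → ℂ) :=
      lt_of_lt_of_le h1 (Nat.le_of_dvd (CharDeep.Deg.degree_pos φ) hd)
    obtain ⟨χ', e2, -, -⟩ := hlift φ h2
    rw [← e1, ← e2]
    exact hnd χ χ' (e1 ▸ h1) (by rw [e1, e2]; exact hd)
  have hder' : commutator N ≤ K.subgroupOf N := Subgroup.commutator_le.mpr fun v _ w _ => by
    rw [Subgroup.mem_subgroupOf]
    simpa [commutatorElement_def] using hab v v.2 w w.2
  have hKr : IsPGroup r (N ⧸ K.subgroupOf N) := fun v => by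
    obtain ⟨v, rfl⟩ := QuotientGroup.mk'_surjective (K.subgroupOf N) v
    refine ⟨1, ?_⟩
    rw [pow_one, ← map_pow, ← MonoidHom.mem_ker, QuotientGroup.ker_mk']
    exact hpow v v.2
  have key : ∀ ψ φ : Cfsg.IrrCharacter N, 1 < Cfsg.charDegree (ψ : N → ℂ) →
      1 < Cfsg.charDegree (φ : N → ℂ) →
      Cfsg.charDegree (ψ : N → ℂ) = Cfsg.charDegree (φ : N → ℂ) := fun ψ φ h1 h2 =>
    degree_eq_of_auto (N := N) inferInstance hndN α hl
      (fun ψ => by
        intro hdiv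
        have hp := CharDeep.Deg.degree_pos ψ
        have h1 : 1 < Cfsg.charDegree (ψ : N → ℂ) :=
          lt_of_lt_of_le hl.one_lt (Nat.le_of_dvd hp hdiv)
        obtain ⟨χ, e, -, hne'⟩ := hlift ψ h1
        exact hl.ne_one (Nat.eq_one_of_dvd_coprimes (hoth χ (e ▸ h1) hne') (e ▸ hdiv) hlf))
      ⟨⟨g0 ^ l, hg0l⟩, fun v => by
        have hit : ∀ i : ℕ, (((⇑α)^[i] v : N) : G) = g0 ^ i * v * (g0 ^ i)⁻¹ := fun i => by
          induction i with
          | zero => simp
          | succ i ih => rw [Function.iterate_succ_apply', hα, ih, pow_succ']; group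
        exact Subtype.ext (hit l)⟩
      (fun ψ h g => by
        obtain ⟨χ, -, e, -⟩ := hlift ψ h
        rw [← e]
        change (χ : G → ℂ) ((α g : N) : G) = (χ : G → ℂ) g
        rw [hα, CharCore.irr_isClassFunction χ])
      hr hRD (K.subgroupOf N) hder' (fun h => hne (le_antisymm (Subgroup.subgroupOf_eq_top.mp h) hKN))
      hKr
      (fun g hg h => hg (by
        rw [Subgroup.mem_subgroupOf] at h ⊢
        refine hfix g0 hg0 g g.2 ?_
        rwa [Subgroup.coe_mul, InvMemClass.coe_inv, hα] at h))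
      (fun g h => by
        rw [Subgroup.mem_subgroupOf, hα] at h
        rw [Subgroup.mem_subgroupOf]
        have := Subgroup.Normal.conj_mem (H := K) inferInstance _ h g0⁻¹
        simpa [mul_assoc] using this)
      h1 h2
  set d := Cfsg.charDegree (χd : G → ℂ) with hd
  have hall : Cfsg.charDegrees G = {1, f, d} := by
    refine Set.ext fun n => ⟨?_, ?_⟩
    · rintro ⟨χ, rfl⟩
      by_cases h1 : Cfsg.charDegree (χ : G → ℂ) = 1
      · exact Or.inl h1
      by_cases hf' : Cfsg.charDegree (χ : G → ℂ) = f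
      · exact Or.inr (Or.inl hf')
      refine Or.inr (Or.inr ?_)
      have hχ1 : 1 < Cfsg.charDegree (χ : G → ℂ) := by
        have := CharDeep.Deg.degree_pos χ
        omega
      have hcon : ∀ χ : Cfsg.IrrCharacter G, ∃ θ : Cfsg.IrrCharacter N,
          Cfsg.classInner (fun n : N => (χ : G → ℂ) n) (θ : N → ℂ) ≠ 0 := fun χ =>
        CharDeep.Deg.exists_constituent (CharCore.isCharacter_restrict (CharCore.irr_isCharacter χ) N)
          (by simpa using CharCore.irr_apply_one_ne_zero χ)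
      obtain ⟨θ, hθ⟩ := hcon χ
      obtain ⟨θ', hθ'⟩ := hcon χd
      have e1 := (hres χ hχ1 hf' θ hθ).2
      have e2 := (hres χd hχd1 hχdne θ' hθ').2
      change Cfsg.charDegree (χ : G → ℂ) = d
      rw [hd, ← e1, ← e2]
      exact key θ θ' (e1 ▸ hχ1) (e2 ▸ hχd1)
    · rintro (rfl | rfl | rfl)
      · exact ⟨⟨1, CharCore.isIrrCharacter_one⟩, CharDeep.Deg.degree_of_eq (by simp)⟩
      · exact ⟨χf, hχf⟩
      · exact ⟨χd, rfl⟩
  rw [Nat.card_coe_set_eq, hall, Set.ncard_eq_three]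
  exact ⟨1, f, d, by omega, by omega, fun e => hχdne e.symm, rfl⟩

end Cfsg.Agent.LAE65.NonDiv
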