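import Cfsg.Agent.LAE65.NonDiv.Abelian
import Cfsg.Agent.LAE65.NonDiv.Central
import Cfsg.Agent.LAE65.NonDiv.Faithful

/-!
In the standing configuration all nonlinear degrees are equal.
-/

set_option autoImplicit false
set_option linter.unusedSectionVars false

namespace Cfsg.Agent.LAE65.NonDiv

open Cfsg.Agent.CharDeep.Ext BC86.RelGraph

universe u

variable {N : Type u} [Group N] [Finite N] {L B : Subgroup N} {α : N ≃* N} {l : ℕ}

theorem exists_maximal_normal (P : Subgroup N → Prop) (h : ∃ Y : Subgroup N, Y.Normal ∧ P Y) :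
    ∃ U : Subgroup N, U.Normal ∧ P U ∧ ∀ Y : Subgroup N, Y.Normal → P Y → U ≤ Y → Y = U := by
  obtain ⟨U, hU, hmax⟩ := Set.exists_max_image {Y : Subgroup N | Y.Normal ∧ P Y}
    (fun Y => Nat.card Y) (Set.toFinite _) (let ⟨Y, hY⟩ := h; ⟨Y, hY⟩)
  exact ⟨U, hU.1, hU.2, fun Y h1 h2 hle => (Subgroup.eq_of_le_of_card_ge hle (hmax Y ⟨h1, h2⟩)).symm⟩

/-- A minimal normal subgroup of a solvable group is elementary abelian. -/
theorem minimal_normal_solvable (hs : Group.IsSolvable N) (U : Subgroup N) [hU : U.Normal]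
    (hne : U ≠ ⊥) (hmin : ∀ Y : Subgroup N, Y.Normal → Y ≤ U → Y = ⊥ ∨ Y = U) :
    (∀ s ∈ U, ∀ t ∈ U, s * t = t * s) ∧ ∃ q : ℕ, q.Prime ∧ ∀ u ∈ U, u ^ q = 1 := by
  have hab : ∀ s ∈ U, ∀ t ∈ U, s * t = t * s := by
    rcases hmin ⁅U, U⁆ inferInstance (Subgroup.commutator_le_self U) with h | h
    · intro s hs t ht
      have := Subgroup.commutator_mem_commutator hs ht
      rw [h, Subgroup.mem_bot, commutatorElement_def, mul_inv_eq_one, mul_inv_eq_iff_eq_mul] at this
      exact this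
    · exact absurd h (Group.IsSolvable.commutator_lt_of_ne_bot hne).ne
  refine ⟨hab, ?_⟩
  obtain ⟨q, hq, hd⟩ := Nat.exists_prime_and_dvd
    (fun h : Nat.card U = 1 => hne (Subgroup.card_eq_one.mp h))
  have := Fact.mk hq
  obtain ⟨x, hx⟩ := exists_prime_orderOf_dvd_card' q hd
  refine ⟨q, hq, ?_⟩
  let Y : Subgroup N :=
    { carrier := {w | w ∈ U ∧ w ^ q = 1}
      one_mem' := ⟨U.one_mem, one_pow q⟩
      mul_mem' := fun {a b} ha hb => ⟨U.mul_mem ha.1 hb.1, by
        rw [(show Commute a b from hab a ha.1 b hb.1).mul_pow, ha.2, hb.2, one_mul]⟩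
      inv_mem' := fun {a} ha => ⟨U.inv_mem ha.1, by rw [inv_pow, ha.2, inv_one]⟩ }
  have hYn : Y.Normal := ⟨fun w hw g => ⟨hU.conj_mem w hw.1 g, by
    rw [conj_pow, hw.2, mul_one, mul_inv_cancel]⟩⟩
  rcases hmin Y hYn (fun w hw => hw.1) with h | h
  · have hxY : (x : N) ∈ Y := ⟨x.2, by
      rw [← SubmonoidClass.coe_pow, ← hx, pow_orderOf_eq_one, Subgroup.coe_one]⟩
    rw [h, Subgroup.mem_bot] at hxY
    have hx1 : x = 1 := Subtype.ext hxY
    exact absurd (hx.symm.trans (by rw [hx1, orderOf_one])) hq.ne_one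
  · exact fun u hu => (h.symm ▸ hu : u ∈ Y).2

/-- Two layers are impossible. -/
theorem Step.false {U : Subgroup N} [U.Normal] (S : Step L B U α l) : False := by
  by_cases hab : ∀ a ∈ L, ∀ b ∈ L, a * b = b * a
  · exact S.not_abelian hab
  by_cases hc : ∀ v ∈ L, ∀ u ∈ U, v * u = u * v
  · exact S.not_central hc hab
  obtain ⟨hUab, q, hq, hqU⟩ := minimal_normal_solvable S.frame.solv U S.ne S.minimal
  exact S.not_faithful hUab hc hq hqU

/-- A minimal abelian layer allows only one nonlinear degree. -/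
theorem Frame.degree_eq_of_minimal (F : Frame L B α l) (hne : L ≠ ⊥)
    (hab : ∀ a ∈ L, ∀ b ∈ L, a * b = b * a)
    (hmin : ∀ Y : Subgroup N, Y.Normal → Y ≤ L → Y = ⊥ ∨ Y = L) {χ : Cfsg.IrrCharacter N}
    (hχ : 1 < Cfsg.charDegree (χ : N → ℂ)) :
    Cfsg.charDegree (χ : N → ℂ) = (B ⊓ Subgroup.centralizer (L : Set N)).relIndex B := by
  have hLn := F.normal
  have D := F.layerFacts hab hne hmin
  set C := B ⊓ Subgroup.centralizer (L : Set N) with hC
  have hCc : ∀ c ∈ C, ∀ v ∈ L, c * v = v * c := fun c hc v hv =>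
    (Subgroup.mem_centralizer_iff.mp hc.2 v hv).symm
  set A := L ⊔ C
  have hmem : ∀ g, g ∈ A ↔ ∃ v ∈ L, ∃ c ∈ C, v * c = g := fun g =>
    Subgroup.mem_sup_of_normal_left
  have hAn : A.Normal := by
    refine ⟨fun a ha g => ?_⟩
    obtain ⟨v, hv, c, hc, rfl⟩ := (hmem a).mp ha
    obtain ⟨w, hw, b, hb, rfl⟩ := F.exists_mul g
    have hb' : b * (v * c) * b⁻¹ = b * v * b⁻¹ * c := by
      rw [show b * (v * c) * b⁻¹ = b * v * b⁻¹ * (b * c * b⁻¹) by group,
        F.comm b hb c hc.1, mul_inv_cancel_right]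
    have h1 : w * b * (v * c) * (w * b)⁻¹ = w * (b * (v * c) * b⁻¹) * w⁻¹ := by group
    rw [h1, hb']
    exact A.mul_mem (A.mul_mem (Subgroup.mem_sup_left hw)
      (A.mul_mem (Subgroup.mem_sup_left (hLn.conj_mem v hv b)) (Subgroup.mem_sup_right hc)))
      (A.inv_mem (Subgroup.mem_sup_left hw))
  have hAab : ∀ a b : A, a * b = b * a := by
    intro a b
    obtain ⟨v, hv, c, hc, ha⟩ := (hmem _).mp a.2
    obtain ⟨w, hw, d, hd, hb⟩ := (hmem _).mp b.2
    apply Subtype.ext
    rw [Subgroup.coe_mul, Subgroup.coe_mul, ← ha, ← hb]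
    calc v * c * (w * d) = v * (c * w) * d := by group
      _ = (v * w) * (c * d) := by rw [hCc c hc w hw]; group
      _ = (w * v) * (d * c) := by rw [hab v hv w hw, F.comm c hc.1 d hd.1]
      _ = w * (v * d) * c := by group
      _ = w * (d * v) * c := by rw [hCc d hd v hv]
      _ = _ := by group
  have hindex : A.index = C.relIndex B := by
    rw [F.index_eq_relIndex A le_sup_left]
    refine (Subgroup.inf_relIndex_right A B).symm.trans ?_
    congr 1
    refine le_antisymm ?_ (le_inf le_sup_right inf_le_left)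
    rintro x ⟨hxA, hxB⟩
    obtain ⟨v, hv, c, hc, rfl⟩ := (hmem x).mp hxA
    have hv1 : v = 1 := F.eq_one hv (by simpa using B.mul_mem hxB (B.inv_mem hc.1))
    rwa [hv1, one_mul]
  obtain ⟨χ0, hχ0⟩ := D.degree
  rw [← hχ0]
  refine F.nodvd χ χ0 hχ ?_
  rw [hχ0, ← hindex]
  exact CharDeep.Deg.degree_dvd_index χ A fun a ha b hb => congrArg Subtype.val (hAab ⟨a, ha⟩ ⟨b, hb⟩)

/-- All nonlinear degrees are equal. -/
theorem Frame.degree_eq (F : Frame L B α l) {χ φ : Cfsg.IrrCharacter N}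
    (hχ : 1 < Cfsg.charDegree (χ : N → ℂ)) (hφ : 1 < Cfsg.charDegree (φ : N → ℂ)) :
    Cfsg.charDegree (χ : N → ℂ) = Cfsg.charDegree (φ : N → ℂ) := by
  have hLn := F.normal
  have hs := F.solv
  by_cases hL : L = ⊥
  · exfalso
    have hB : B = ⊤ := by rw [← F.sup, hL, bot_sup_eq]
    have hd := CharDeep.Deg.degree_dvd_index χ (⊤ : Subgroup N)
      fun a _ b _ => F.comm a (hB ▸ Subgroup.mem_top a) b (hB ▸ Subgroup.mem_top b)
    rw [Subgroup.index_top, Nat.dvd_one] at hd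
    omega
  obtain ⟨U, hUn, ⟨hU1, hU2⟩, hUmax⟩ :=
    exists_maximal_normal (fun Y => ⁅L, L⁆ ≤ Y ∧ Y < L)
      ⟨⁅L, L⁆, inferInstance, le_rfl, Group.IsSolvable.commutator_lt_of_ne_bot hL⟩
  have hder : ∀ a ∈ L, ∀ b ∈ L, a * b * a⁻¹ * b⁻¹ ∈ U := fun a ha b hb =>
    hU1 (commutatorElement_def a b ▸ Subgroup.commutator_mem_commutator ha hb)
  by_cases hU : U = ⊥
  · have hab : ∀ a ∈ L, ∀ b ∈ L, a * b = b * a := fun a ha b hb => by
      have := hder a ha b hb
      rw [hU, Subgroup.mem_bot, mul_inv_eq_one, mul_inv_eq_iff_eq_mul] at this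
      exact this
    have hmin : ∀ Y : Subgroup N, Y.Normal → Y ≤ L → Y = ⊥ ∨ Y = L := fun Y hY hle => by
      rcases eq_or_lt_of_le hle with h | h
      · exact Or.inr h
      · refine Or.inl ((hUmax Y hY ⟨?_, h⟩ (hU ▸ bot_le)).trans hU)
        exact hU1.trans (hU ▸ bot_le)
    rw [F.degree_eq_of_minimal hL hab hmin hχ, F.degree_eq_of_minimal hL hab hmin hφ]
  · exfalso
    obtain ⟨W, hWn, hWU, hWmax⟩ :=
      exists_maximal_normal (fun Y => Y < U) ⟨⊥, inferInstance, bot_lt_iff_ne_bot.mpr hU⟩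
    set q := QuotientGroup.mk' W with hq
    have hsurj := QuotientGroup.mk'_surjective W
    have hker : q.ker = W := QuotientGroup.ker_mk' W
    have hcm : ∀ Y : Subgroup N, W ≤ Y → (Y.map q).comap q = Y := fun Y hY =>
      Subgroup.comap_map_eq_self (hker.trans_le hY)
    have hinjm : ∀ Y Z : Subgroup N, W ≤ Y → W ≤ Z → Y.map q = Z.map q → Y = Z := fun Y Z h1 h2 h => by
      rw [← hcm Y h1, ← hcm Z h2, h]
    have hWL : W ≤ L := hWU.le.trans hU2.le
    have hUn' : (U.map q).Normal := hUn.map q hsurj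
    have S : Step (L.map q) (B.map q) (U.map q)
        (QuotientGroup.congr W W α (F.map_eq W hWL)) l := by
      refine ⟨F.quotient W hWL, hUn', lt_of_le_of_ne (Subgroup.map_mono hU2.le) fun h =>
          hU2.ne (hinjm U L hWU.le hWL h), fun h => ?_, ?_, ?_, ?_⟩
      · exact hWU.ne (hinjm W U le_rfl hWU.le (by rw [h]; exact QuotientGroup.map_mk'_self W))
      · rintro _ ⟨a, ha, rfl⟩ _ ⟨b, hb, rfl⟩
        exact ⟨_, hder a ha b hb, by simp only [map_mul, map_inv]⟩
      · intro Y hY hle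
        have h1 : Y.comap q ≤ U := hcm U hWU.le ▸ Subgroup.comap_mono hle
        have hY' : Y = (Y.comap q).map q := (Subgroup.map_comap_eq_self_of_surjective hsurj Y).symm
        rcases eq_or_lt_of_le h1 with h | h
        · exact Or.inr (by rw [hY', h])
        · refine Or.inl ?_
          rw [hY', hWmax _ (hY.comap q) h (hker.symm.trans_le (Subgroup.ker_le_comap q Y))]
          exact QuotientGroup.map_mk'_self W
      · intro Y hY h1 h2
        have h1' : U ≤ Y.comap q := hcm U hWU.le ▸ Subgroup.comap_mono h1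
        have h2' : Y.comap q ≤ L := hcm L hWL ▸ Subgroup.comap_mono h2
        have hY' : Y = (Y.comap q).map q := (Subgroup.map_comap_eq_self_of_surjective hsurj Y).symm
        rcases eq_or_lt_of_le h2' with h | h
        · exact Or.inr (by rw [hY', h])
        · refine Or.inl ?_
          rw [hY', hUmax _ (hY.comap q) ⟨hU1.trans h1', h⟩ h1']
    exact S.false

end Cfsg.Agent.LAE65.NonDiv
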