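import Cfsg.Agent.LAE65.NonDiv.Base

/-!
Two chief layers: the upper layer seen inside the group.
-/

set_option autoImplicit false
set_option linter.unusedSectionVars false

namespace Cfsg.Agent.LAE65.NonDiv

open Cfsg.Agent.CharDeep.Ext BC86.RelGraph

universe u

variable {N : Type u} [Group N] [Finite N]

/-- Two chief layers `1 < U < L`. -/
structure Step (L B U : Subgroup N) (α : N ≃* N) (l : ℕ) : Prop where
  frame : Frame L B α l
  normal : U.Normal
  lt : U < L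
  ne : U ≠ ⊥
  derived : ∀ a ∈ L, ∀ b ∈ L, a * b * a⁻¹ * b⁻¹ ∈ U
  minimal : ∀ Y : Subgroup N, Y.Normal → Y ≤ U → Y = ⊥ ∨ Y = U
  maximal : ∀ Y : Subgroup N, Y.Normal → U ≤ Y → Y ≤ L → Y = U ∨ Y = L

/-- The elements of `B` trivial on `L` modulo `U`. -/
def fixTop (L B U : Subgroup N) [U.Normal] : Subgroup N :=
  B ⊓ (Subgroup.centralizer ((L.map (QuotientGroup.mk' U) : Subgroup (N ⧸ U)) : Set (N ⧸ U))).comap
    (QuotientGroup.mk' U)

theorem mem_fixTop {L B U : Subgroup N} [hU : U.Normal] {b : N} :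
    b ∈ fixTop L B U ↔ b ∈ B ∧ ∀ v ∈ L, b * v * b⁻¹ * v⁻¹ ∈ U := by
  rw [fixTop, Subgroup.mem_inf, Subgroup.mem_comap, Subgroup.mem_centralizer_iff]
  refine and_congr_right fun _ => ⟨fun h v hv => ?_, ?_⟩
  · have e := h (QuotientGroup.mk' U v) ⟨v, hv, rfl⟩
    rw [← QuotientGroup.eq_one_iff]
    change QuotientGroup.mk' U _ = 1
    rw [map_mul, map_mul, map_mul, map_inv, map_inv, ← e, mul_inv_cancel_right, mul_inv_cancel]
  · rintro h _ ⟨v, hv, rfl⟩
    have e : QuotientGroup.mk' U (b * v * b⁻¹ * v⁻¹) = 1 := (QuotientGroup.eq_one_iff _).mpr (h v hv)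
    rw [map_mul, map_mul, map_mul, map_inv, map_inv, mul_inv_eq_one, mul_inv_eq_iff_eq_mul] at e
    exact e.symm

theorem relIndex_map_of_le {M : Type*} [Group M] (f : N →* M) {B H K : Subgroup N}
    (hf : ∀ b ∈ B, f b = 1 → b = 1) (hH : H ≤ B) (hK : K ≤ B) :
    (H.map f).relIndex (K.map f) = H.relIndex K := by
  have hinj : Function.Injective (f.comp B.subtype) := by
    rw [← MonoidHom.ker_eq_bot_iff, Subgroup.eq_bot_iff_forall]
    exact fun b hb => Subtype.ext (hf b b.2 hb)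
  have e : ∀ X : Subgroup N, X ≤ B → X.map f = (X.subgroupOf B).map (f.comp B.subtype) := fun X hX => by
    rw [← Subgroup.map_map, Subgroup.map_subgroupOf_eq_of_le hX]
  rw [e H hH, e K hK, Subgroup.relIndex_map_map_of_injective _ _ hinj,
    ← Subgroup.relIndex_map_map_of_injective _ _ B.subtype_injective,
    Subgroup.map_subgroupOf_eq_of_le hH, Subgroup.map_subgroupOf_eq_of_le hK]

/-- What is known about the upper layer. -/
structure TopFacts (L B U : Subgroup N) [U.Normal] (α : N ≃* N) : Prop where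
  semi : ∀ b ∈ B, ∀ v ∈ L, v ∉ U → b * v * b⁻¹ * v⁻¹ ∈ U → b ∈ fixTop L B U
  prime : ∃ p : ℕ, p.Prime ∧ ∀ v ∈ L, v ^ p ∈ U
  degree : ∃ χ : Cfsg.IrrCharacter N, Cfsg.charDegree (χ : N → ℂ) = (fixTop L B U).relIndex B
  one_lt : 1 < (fixTop L B U).relIndex B
  dvd_card : (fixTop L B U).relIndex B ∣ U.relIndex L - 1
  large : ∃ Z : Subgroup N, fixTop L B U ≤ Z ∧ Z ≤ B ∧
    U.relIndex L < (fixTop L B U).relIndex Z * (fixTop L B U).relIndex Z ∧
    (∀ z ∈ Z, α z * z⁻¹ ∈ fixTop L B U → z ∈ fixTop L B U) ∧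
    ∀ z ∈ Z, z * z ∈ fixTop L B U → z ∈ fixTop L B U

theorem Step.topFacts {L B U : Subgroup N} [hU : U.Normal] {α : N ≃* N} {l : ℕ}
    (S : Step L B U α l) : TopFacts L B U α := by
  have F := S.frame
  have hLn := F.normal
  set q := QuotientGroup.mk' U with hq
  have hsurj := QuotientGroup.mk'_surjective U
  have hkq : ∀ g, q g = 1 ↔ g ∈ U := fun g => QuotientGroup.eq_one_iff g
  have hker : q.ker = U := QuotientGroup.ker_mk' U
  have hBinj : ∀ b ∈ B, q b = 1 → b = 1 := fun b hb h => F.eq_one (S.lt.le ((hkq b).mp h)) hb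
  have hab : ∀ a ∈ L.map q, ∀ b ∈ L.map q, a * b = b * a := by
    rintro _ ⟨a, ha, rfl⟩ _ ⟨b, hb, rfl⟩
    have e : q (a * b * a⁻¹ * b⁻¹) = 1 := (hkq _).mpr (S.derived a ha b hb)
    rwa [map_mul, map_mul, map_mul, map_inv, map_inv, mul_inv_eq_one, mul_inv_eq_iff_eq_mul] at e
  have hne : L.map q ≠ ⊥ := fun h => S.lt.not_ge (by
    intro v hv
    rw [← hkq]
    exact Subgroup.mem_bot.mp (h ▸ Subgroup.mem_map_of_mem q hv))
  have hmin : ∀ Y : Subgroup (N ⧸ U), Y.Normal → Y ≤ L.map q → Y = ⊥ ∨ Y = L.map q := by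
    intro Y hY hle
    have h1 : Y.comap q ≤ L := fun g hg => by
      obtain ⟨v, hv, he⟩ := hle hg
      have h2 := L.mul_mem hv (S.lt.le (QuotientGroup.eq.mp he))
      rwa [mul_inv_cancel_left] at h2
    rcases S.maximal (Y.comap q) (hY.comap q) (fun g hg => by
        rw [Subgroup.mem_comap, (hkq g).mpr hg]; exact Y.one_mem) h1 with h | h
    · refine Or.inl ((Subgroup.eq_bot_iff_forall Y).mpr fun y hy => ?_)
      obtain ⟨g, rfl⟩ := hsurj y
      exact (hkq g).mpr (h ▸ hy)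
    · exact Or.inr (by rw [← h, Subgroup.map_comap_eq_self_of_surjective hsurj])
  have D := (F.quotient U S.lt.le).layerFacts hab hne hmin
  set C' := B.map q ⊓ Subgroup.centralizer ((L.map q : Subgroup (N ⧸ U)) : Set (N ⧸ U)) with hC'
  have hCmap : (fixTop L B U).map q = C' := by
    refine le_antisymm ?_ ?_
    · rintro _ ⟨b, hb, rfl⟩
      exact ⟨⟨b, hb.1, rfl⟩, hb.2⟩
    · rintro _ ⟨⟨b, hb, rfl⟩, h2⟩
      exact ⟨b, ⟨hb, h2⟩, rfl⟩
  have hCle : fixTop L B U ≤ B := inf_le_left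
  have hback : ∀ b ∈ B, q b ∈ C' → b ∈ fixTop L B U := fun b hb h => ⟨hb, h.2⟩
  have hcard : Nat.card (L.map q) = U.relIndex L := by
    rw [← Subgroup.relIndex_ker (f := q), hker]
  have hrelB : C'.relIndex (B.map q) = (fixTop L B U).relIndex B := by
    rw [← hCmap]
    exact relIndex_map_of_le q hBinj hCle le_rfl
  refine ⟨fun b hb v hv hvU hc => ?_, ?_, ?_, hrelB ▸ D.one_lt, ?_, ?_⟩
  · refine hback b hb (D.semi (q b) ⟨b, hb, rfl⟩ (q v) ⟨v, hv, rfl⟩ (fun h => hvU ((hkq v).mp h)) ?_)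
    have e : q (b * v * b⁻¹ * v⁻¹) = 1 := (hkq _).mpr hc
    rwa [map_mul, map_mul, map_mul, map_inv, map_inv, mul_inv_eq_one, mul_inv_eq_iff_eq_mul] at e
  · obtain ⟨p, hp, h⟩ := D.prime
    exact ⟨p, hp, fun v hv => (hkq _).mp ((map_pow q v p).trans (h _ ⟨v, hv, rfl⟩))⟩
  · obtain ⟨χ, hχ⟩ := D.degree
    obtain ⟨χ', hχ'⟩ := degree_quotient_eq U χ
    exact ⟨χ', hχ'.trans (hχ.trans hrelB)⟩
  · rw [← hrelB, ← hcard]
    exact D.dvd_card
  · obtain ⟨Z, hCZ, hZB, hZc, hZf, hZs⟩ := D.large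
    have hZmap : (B ⊓ Z.comap q).map q = Z := by
      refine le_antisymm (Subgroup.map_le_iff_le_comap.mpr inf_le_right) fun z hz => ?_
      obtain ⟨b, hb, rfl⟩ := hZB hz
      exact ⟨b, ⟨hb, hz⟩, rfl⟩
    refine ⟨B ⊓ Z.comap q, fun b hb => ⟨hb.1, hCZ (hCmap ▸ Subgroup.mem_map_of_mem q hb)⟩,
      inf_le_left, ?_, ?_, ?_⟩
    · rw [← relIndex_map_of_le q hBinj hCle (inf_le_left : B ⊓ Z.comap q ≤ B), hCmap, hZmap, ← hcard]
      exact hZc
    · rintro z ⟨hzB, hzZ⟩ h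
      refine hback z hzB (hZf _ hzZ ?_)
      have h2 : q (α z * z⁻¹) ∈ C' := hCmap ▸ Subgroup.mem_map_of_mem q h
      rw [map_mul, map_inv] at h2
      exact h2
    · rintro z ⟨hzB, hzZ⟩ h
      refine hback z hzB (hZs _ hzZ ?_)
      have h2 : q (z * z) ∈ C' := hCmap ▸ Subgroup.mem_map_of_mem q h
      rwa [map_mul] at h2

end Cfsg.Agent.LAE65.NonDiv
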