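import Cfsg.Agent.BC86.RelGraph.Degrees
import Cfsg.Agent.CharDeep.Deg.TwoDeg
import Cfsg.Agent.CharB.CliffordDegree

/-!
Character tools for degree sets without divisibility.
-/

set_option autoImplicit false
set_option linter.unusedSectionVars false

namespace Cfsg.Agent.LAE65.NonDiv

open Cfsg.Agent.CharDeep.Ext BC86.RelGraph

universe u

variable {G : Type u} [Group G] [Finite G]

/-- No nonlinear degree properly divides another. -/
def NoDvd (G : Type u) [Group G] : Prop :=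
  ∀ χ φ : Cfsg.IrrCharacter G, 1 < Cfsg.charDegree (χ : G → ℂ) →
    Cfsg.charDegree (χ : G → ℂ) ∣ Cfsg.charDegree (φ : G → ℂ) →
    Cfsg.charDegree (χ : G → ℂ) = Cfsg.charDegree (φ : G → ℂ)

theorem degree_quotient_eq (Y : Subgroup G) [Y.Normal] (θ : Cfsg.IrrCharacter (G ⧸ Y)) :
    ∃ χ : Cfsg.IrrCharacter G, Cfsg.charDegree (χ : G → ℂ) = Cfsg.charDegree (θ : G ⧸ Y → ℂ) :=
  (CharDeep.Deg.exists_inflate Y θ).imp fun _ h => h.1

theorem noDvd_quotient (h : NoDvd G) (Y : Subgroup G) [Y.Normal] : NoDvd (G ⧸ Y) := by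
  intro χ φ h1 hd
  obtain ⟨χ', e1⟩ := degree_quotient_eq Y χ
  obtain ⟨φ', e2⟩ := degree_quotient_eq Y φ
  rw [← e1, ← e2]
  exact h χ' φ' (e1 ▸ h1) (e1 ▸ e2 ▸ hd)

theorem mem_inertia {N : Subgroup G} [hN : N.Normal] {θ : N → ℂ} {g : G} :
    g ∈ inertia N θ ↔ ∀ n : N, θ ⟨g * n * g⁻¹, hN.conj_mem (n : G) n.2 g⟩ = θ n :=
  funext_iff

theorem over_degree_dvd (N : Subgroup G) [N.Normal] [Fintype N] {θ : N → ℂ}
    (hθ : Cfsg.IsIrrCharacter N θ) {χ : Cfsg.IrrCharacter G} (h : Over N χ θ) {d : ℕ}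
    (hd : θ 1 = d) : (inertia N θ).index * d ∣ Cfsg.charDegree (χ : G → ℂ) := by
  let := fnAction (G := G) N
  rw [← stabilizer_eq_inertia]
  exact dvd_of_over N hθ h hd

/-- A character extending to its inertia group gives the induced degree. -/
theorem exists_degree_of_ext (N : Subgroup G) [N.Normal] [Fintype N] {θ : N → ℂ}
    (hθ : Cfsg.IsIrrCharacter N θ) {d : ℕ} (hd : θ 1 = d) (T : Subgroup G) (hT : inertia N θ = T)
    (hNT : N ≤ T) (ψ : Cfsg.IrrCharacter T)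
    (hψ : ∀ n : N, (ψ : T → ℂ) ⟨n, hNT n.2⟩ = θ n) :
    ∃ χ : Cfsg.IrrCharacter G, Over N χ θ ∧ Cfsg.charDegree (χ : G → ℂ) = T.index * d := by
  classical
  have := Fintype.ofFinite G
  have := Fintype.ofFinite T
  obtain ⟨χ, h1, h2⟩ := CharDeep.Deg.exists_over_subgroup T ψ
  have hover : Over N χ θ := by
    refine CharDeep.Deg.inner_ne_zero_trans N T hNT (CharCore.irr_isCharacter χ) ψ ⟨θ, hθ⟩ h1 ?_
    change Cfsg.classInner (fun n : N => (ψ : T → ℂ) ⟨(n : G), hNT n.2⟩) θ ≠ 0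
    rw [show (fun n : N => (ψ : T → ℂ) ⟨(n : G), hNT n.2⟩) = θ from funext hψ,
      (CharCore.isIrrCharacter_iff.mp hθ).2]
    exact one_ne_zero
  refine ⟨χ, hover, le_antisymm ?_ (Nat.le_of_dvd (CharDeep.Deg.degree_pos χ)
    (hT ▸ over_degree_dvd N hθ hover hd))⟩
  refine CharDeep.Deg.degree_le_of_constituent
    (CharInd.isCharacter_indFun T (CharCore.irr_isCharacter ψ)) ?_ χ h2
  have e1 : (ψ : T → ℂ) 1 = d := by
    rw [← hd, ← hψ 1]
    rfl
  rw [CharInd.indFun_apply_one, e1]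
  push_cast
  rfl

theorem exists_over_irr' (N : Subgroup G) [N.Normal] [Fintype N] {θ : N → ℂ}
    (hθ : Cfsg.IsIrrCharacter N θ) : ∃ χ : Cfsg.IrrCharacter G, Over N χ θ :=
  exists_over_irr N hθ

/-- An abelian normal subgroup with a complement: every linear character has an induced degree. -/
theorem exists_degree_complement (Y H : Subgroup G) [Y.Normal] (hinf : Y ⊓ H = ⊥) (hsup : Y ⊔ H = ⊤)
    (φ : Y →* ℂˣ) : ∃ χ : Cfsg.IrrCharacter G,
      Cfsg.charDegree (χ : G → ℂ) = (inertia Y (coeFn Y φ)).index := by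
  classical
  have := Fintype.ofFinite Y
  set T := inertia Y (coeFn Y φ) with hT
  have hYT : Y ≤ T := le_inertia Y
    (CharCore.IsCharacter.isClassFunction (CharCore.IsIrrCharacter.isCharacter (CharCore.isIrrCharacter_hom φ)))
  have hex : ∀ g : G, ∃ y ∈ Y, ∃ h ∈ H, y * h = g := fun g =>
    Subgroup.mem_sup_of_normal_left.mp (hsup.symm ▸ Subgroup.mem_top g)
  choose y hy h hh hyh using hex
  have huniq : ∀ (g : G) (a b : G), a ∈ Y → b ∈ H → a * b = g → y g = a ∧ h g = b := by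
    intro g a b ha hb hab
    have e : (y g)⁻¹ * a = h g * b⁻¹ := by
      rw [eq_mul_inv_iff_mul_eq, mul_assoc, hab, inv_mul_eq_iff_eq_mul, hyh g]
    have e1 : (y g)⁻¹ * a ∈ Y ⊓ H :=
      ⟨Y.mul_mem (Y.inv_mem (hy g)) ha, e ▸ H.mul_mem (hh g) (H.inv_mem hb)⟩
    rw [hinf, Subgroup.mem_bot] at e1
    exact ⟨inv_mul_eq_one.mp e1, mul_inv_eq_one.mp (e.symm.trans e1)⟩
  have hmul : ∀ t t' : T, φ ⟨y (t * t' : T), hy _⟩ = φ ⟨y t, hy _⟩ * φ ⟨y t', hy _⟩ := by
    intro t t'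
    have hht : h (t : G) ∈ T := by
      have : h (t : G) = (y (t : G))⁻¹ * t := by rw [eq_inv_mul_iff_mul_eq, hyh]
      rw [this]
      exact T.mul_mem (T.inv_mem (hYT (hy _))) t.2
    have hc : h (t : G) * y (t' : G) * (h (t : G))⁻¹ ∈ Y :=
      Subgroup.Normal.conj_mem inferInstance _ (hy _) _
    obtain ⟨e, -⟩ := huniq ((t * t' : T) : G) (y t * (h (t : G) * y (t' : G) * (h (t : G))⁻¹))
      (h t * h t') (Y.mul_mem (hy _) hc) (H.mul_mem (hh _) (hh _))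
      (by
        rw [Subgroup.coe_mul]
        conv_rhs => rw [← hyh (t : G), ← hyh (t' : G)]
        group)
    have e2 : (φ ⟨h (t : G) * y (t' : G) * (h (t : G))⁻¹, hc⟩ : ℂˣ) = φ ⟨y t', hy _⟩ :=
      Units.ext ((mem_inertia.mp hht) ⟨y t', hy _⟩)
    rw [← e2, ← map_mul]
    exact congrArg φ (Subtype.ext e)
  let ψ : T →* ℂˣ := MonoidHom.mk' (fun t => φ ⟨y t, hy _⟩) hmul
  obtain ⟨χ, -, hχ⟩ := exists_degree_of_ext Y (θ := coeFn Y φ) (CharCore.isIrrCharacter_hom φ)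
    (d := 1) (by simp [coeFn]) T rfl hYT ⟨fun t => (ψ t : ℂ), CharCore.isIrrCharacter_hom ψ⟩
    (fun n => congrArg (fun z : ℂˣ => (z : ℂ))
      (congrArg φ (Subtype.ext (huniq _ n 1 n.2 H.one_mem (mul_one _)).1)))
  exact ⟨χ, by rw [hχ, mul_one]⟩

/-- A finite abelian group has a character nontrivial at a given point. -/
theorem exists_hom_ne_one {A : Type*} [Group A] [Finite A] (hA : ∀ a b : A, a * b = b * a) {a : A}
    (ha : a ≠ 1) : ∃ φ : A →* ℂˣ, φ a ≠ 1 :=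
  let _ : CommGroup A := { mul_comm := hA }
  CommGroup.exists_apply_ne_one_of_hasEnoughRootsOfUnity A ℂ ha

theorem exists_hom_extend {A : Type*} [Group A] [Finite A] (hA : ∀ a b : A, a * b = b * a)
    (H : Subgroup A) (φ : H →* ℂˣ) : ∃ Φ : A →* ℂˣ, ∀ x : H, Φ x = φ x := by
  let _ : CommGroup A := { mul_comm := hA }
  obtain ⟨Φ, hΦ⟩ := MonoidHom.domRestrict_surjective (M := ℂ) H φ
  exact ⟨Φ, fun x => DFunLike.congr_fun hΦ x⟩

theorem card_hom_eq {A : Type*} [Group A] [Finite A] (hA : ∀ a b : A, a * b = b * a) :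
    Nat.card (A →* ℂˣ) = Nat.card A :=
  let _ : CommGroup A := { mul_comm := hA }
  CommGroup.card_monoidHom_of_hasEnoughRootsOfUnity A ℂ

end Cfsg.Agent.LAE65.NonDiv
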